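import Groth.Prelude.Def_SekSuwa2

/-!
Points of affine group schemes `Spec B` over `Spec R` with values in arbitrary `R`-schemes `T`, as ring homomorphisms
`B →+* Γ(T, ⊤)`.
-/

set_option autoImplicit false
universe u
open CategoryTheory MonoidalCategory CartesianMonoidalCategory MonObj GrpObj AlgebraicGeometry Limits
open scoped TensorProduct

noncomputable section

namespace K831.Pts

section Sch
variable {B B' : Type u} [CommRing B] [CommRing B'] {X Y : Scheme.{u}}

/-- The ring homomorphism on global sections of a morphism to an affine scheme. -/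
def evS (g : Y ⟶ Spec (CommRingCat.of B)) : B →+* Γ(Y, ⊤) :=
  (g.appTop.hom).comp (Scheme.ΓSpecIso (CommRingCat.of B)).inv.hom

/-- The morphism to an affine scheme given by a ring homomorphism. -/
def mkS (φ : B →+* Γ(Y, ⊤)) : Y ⟶ Spec (CommRingCat.of B) := Y.toSpecΓ ≫ Spec.map (CommRingCat.ofHom φ)

@[simp] lemma mkS_evS (g : Y ⟶ Spec (CommRingCat.of B)) : mkS (evS g) = g := by
  rw [mkS, evS, CommRingCat.ofHom_comp, Spec.map_comp, CommRingCat.ofHom_hom, CommRingCat.ofHom_hom,
    ← Scheme.toSpecΓ_naturality_assoc, ← SpecMap_ΓSpecIso_hom, ← Spec.map_comp, Iso.inv_hom_id, Spec.map_id,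
    Category.comp_id]

@[simp] lemma evS_mkS (φ : B →+* Γ(Y, ⊤)) : evS (mkS φ) = φ := by
  have h1 : Y.toSpecΓ ≫ Spec.map (CommRingCat.ofHom φ) = Y.toSpecΓ ≫ Spec.map (CommRingCat.ofHom (evS (mkS φ))) :=
    (mkS_evS (mkS φ)).symm
  have h3 := (ΓSpec.adjunction.homEquiv Y (.op (.of B))).injective
       (a₁ := (CommRingCat.ofHom φ).op) (a₂ := (CommRingCat.ofHom (evS (mkS φ))).op) h1
  exact (congr(CommRingCat.Hom.hom $(Quiver.Hom.op_inj h3))).symm

lemma evS_injective : Function.Injective (evS : (Y ⟶ Spec (CommRingCat.of B)) → (B →+* Γ(Y, ⊤))) :=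
  Function.LeftInverse.injective mkS_evS

lemma evS_comp (f : X ⟶ Y) (g : Y ⟶ Spec (CommRingCat.of B)) : evS (f ≫ g) = (f.appTop.hom).comp (evS g) := by
  rw [evS, evS, Scheme.Hom.comp_appTop, CommRingCat.hom_comp, RingHom.comp_assoc]

lemma evS_comp_SpecMap (g : Y ⟶ Spec (CommRingCat.of B)) (φ : B' →+* B) :
    evS (g ≫ Spec.map (CommRingCat.ofHom φ)) = (evS g).comp φ := by
  apply_fun mkS using Function.LeftInverse.injective (evS_mkS)
  rw [mkS_evS, mkS, CommRingCat.ofHom_comp, Spec.map_comp, ← Category.assoc]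
  conv_lhs => rw [← mkS_evS g, mkS]

lemma evS_SpecMap_apply {A : CommRingCat.{u}} (φ : B →+* A) (b : B) :
    evS (Spec.map (CommRingCat.ofHom φ)) b = (Scheme.ΓSpecIso A).inv.hom (φ b) := by
  have h3 := Scheme.ΓSpecIso_inv_naturality (CommRingCat.ofHom φ)
  have h4 := congr(CommRingCat.Hom.hom $h3 b)
  exact h4.symm

end Sch

section General
variable {R : Type u} [CommRing R]

/-- The structure homomorphism on global sections. -/
def str (T : Over (Spec (CommRingCat.of R))) : R →+* Γ(T.left, ⊤) := evS T.hom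

variable {T T' : Over (Spec (CommRingCat.of R))} {B B' : Type u} [CommRing B] [Algebra R B]
  [CommRing B'] [Algebra R B']

/-- The underlying morphism of schemes of a point. -/
def lft (x : T ⟶ (Spec (CommRingCat.of B)).asOver (Spec (CommRingCat.of R))) : T.left ⟶ Spec (CommRingCat.of B) := x.left

lemma lft_w (x : T ⟶ (Spec (CommRingCat.of B)).asOver (Spec (CommRingCat.of R))) :
    lft x ≫ Spec.map (CommRingCat.ofHom (algebraMap R B)) = T.hom := Over.w x

/-- The ring homomorphism of a point. -/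
def ev (x : T ⟶ (Spec (CommRingCat.of B)).asOver (Spec (CommRingCat.of R))) : B →+* Γ(T.left, ⊤) :=
  evS (lft x)

lemma ext {x y : T ⟶ (Spec (CommRingCat.of B)).asOver (Spec (CommRingCat.of R))}
    (h : ev x = ev y) : x = y := by
  ext1
  exact evS_injective h

lemma ev_algebraMap (x : T ⟶ (Spec (CommRingCat.of B)).asOver (Spec (CommRingCat.of R))) :
    (ev x).comp (algebraMap R B) = str T := by
  rw [str, ← lft_w x, ev, evS_comp_SpecMap]

lemma ev_algebraMap_apply (x : T ⟶ (Spec (CommRingCat.of B)).asOver (Spec (CommRingCat.of R))) (r : R) :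
    ev x (algebraMap R B r) = str T r := congr($(ev_algebraMap x) r)

lemma ev_comp_left (f : T' ⟶ T) (x : T ⟶ (Spec (CommRingCat.of B)).asOver (Spec (CommRingCat.of R))) :
    ev (f ≫ x) = (f.left.appTop.hom).comp (ev x) :=
  evS_comp f.left (lft x)

lemma ev_comp_apply (f : T' ⟶ T) (x : T ⟶ (Spec (CommRingCat.of B)).asOver (Spec (CommRingCat.of R))) (b : B) :
    ev (f ≫ x) b = f.left.appTop.hom (ev x b) := by rw [ev_comp_left]; rfl

lemma str_comp (f : T' ⟶ T) : (f.left.appTop.hom).comp (str T) = str T' := by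
  rw [str, str, ← Over.w f, evS_comp]

lemma str_comp_apply (f : T' ⟶ T) (r : R) : f.left.appTop.hom (str T r) = str T' r :=
  congr($(str_comp f) r)

/-- The point given by a ring homomorphism. -/
def ofEv (φ : B →+* Γ(T.left, ⊤)) (h : φ.comp (algebraMap R B) = str T) :
    T ⟶ (Spec (CommRingCat.of B)).asOver (Spec (CommRingCat.of R)) :=
  Over.homMk (mkS φ : T.left ⟶ Spec (CommRingCat.of B)) (by
    change mkS φ ≫ Spec.map (CommRingCat.ofHom (algebraMap R B)) = T.hom
    apply evS_injective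
    rw [evS_comp_SpecMap, evS_mkS, h, str])

@[simp] lemma ev_ofEv (φ : B →+* Γ(T.left, ⊤)) (h : φ.comp (algebraMap R B) = str T) : ev (ofEv φ h) = φ :=
  evS_mkS φ

/-- composition with `Spec` of an algebra map -/
lemma ev_comp_right (x : T ⟶ (Spec (CommRingCat.of B)).asOver (Spec (CommRingCat.of R)))
    (g : (Spec (CommRingCat.of B)).asOver (Spec (CommRingCat.of R)) ⟶ (Spec (CommRingCat.of B')).asOver (Spec (CommRingCat.of R)))
    (φ : B' →+* B) (hg : g.left = Spec.map (CommRingCat.ofHom φ)) :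
    ev (x ≫ g) = (ev x).comp φ := by
  have : lft (x ≫ g) = lft x ≫ Spec.map (CommRingCat.ofHom φ) := by
    rw [← hg]; rfl
  rw [ev, this, evS_comp_SpecMap, ev]

end General

section Mul
variable {R : Type u} [CommRing R] {T : Over (Spec (CommRingCat.of R))} {B : Type u} [CommRing B]

/-- The ring homomorphism on `B ⊗ B` of a pair of points. -/
def ev2 {B B' : Type u} [CommRing B] [Algebra R B] [CommRing B'] [Algebra R B']
    (x : T ⟶ (Spec (CommRingCat.of B)).asOver (Spec (CommRingCat.of R)))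
    (y : T ⟶ (Spec (CommRingCat.of B')).asOver (Spec (CommRingCat.of R))) : B ⊗[R] B' →+* Γ(T.left, ⊤) :=
  letI := (str T).toAlgebra
  ((Algebra.TensorProduct.lift (R := R) (S := R) (A := B) (B := B') (C := Γ(T.left, ⊤))
    ⟨ev x, ev_algebraMap_apply x⟩ ⟨ev y, ev_algebraMap_apply y⟩ (fun _ _ => Commute.all _ _)) :
      B ⊗[R] B' →ₐ[R] Γ(T.left, ⊤)).toRingHom

lemma ev2_tmul {B B' : Type u} [CommRing B] [Algebra R B] [CommRing B'] [Algebra R B']
    (x : T ⟶ (Spec (CommRingCat.of B)).asOver (Spec (CommRingCat.of R)))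
    (y : T ⟶ (Spec (CommRingCat.of B')).asOver (Spec (CommRingCat.of R))) (b : B) (b' : B') :
    ev2 x y (b ⊗ₜ[R] b') = ev x b * ev y b' := by
  let _ := (str T).toAlgebra
  exact Algebra.TensorProduct.lift_tmul _ _ _ _ _

lemma ev2_algebraMap {B B' : Type u} [CommRing B] [Algebra R B] [CommRing B'] [Algebra R B']
    (x : T ⟶ (Spec (CommRingCat.of B)).asOver (Spec (CommRingCat.of R)))
    (y : T ⟶ (Spec (CommRingCat.of B')).asOver (Spec (CommRingCat.of R))) (r : R) :
    ev2 x y (algebraMap R _ r) = str T r := by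
  rw [Algebra.TensorProduct.algebraMap_apply, ev2_tmul, map_one, _root_.mul_one, ev_algebraMap_apply]

lemma ev2_smul {B B' : Type u} [CommRing B] [Algebra R B] [CommRing B'] [Algebra R B']
    (x : T ⟶ (Spec (CommRingCat.of B)).asOver (Spec (CommRingCat.of R)))
    (y : T ⟶ (Spec (CommRingCat.of B')).asOver (Spec (CommRingCat.of R))) (r : R) (z : B ⊗[R] B') :
    ev2 x y (r • z) = str T r * ev2 x y z := by
  rw [Algebra.smul_def, map_mul, ev2_algebraMap]

lemma ev_smul [Algebra R B] (x : T ⟶ (Spec (CommRingCat.of B)).asOver (Spec (CommRingCat.of R))) (r : R) (b : B) :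
    ev x (r • b) = str T r * ev x b := by
  rw [Algebra.smul_def, map_mul, ev_algebraMap_apply]

lemma ev_mul [Bialgebra R B] (x y : T ⟶ (Spec (CommRingCat.of B)).asOver (Spec (CommRingCat.of R))) :
    ev (x * y) = (ev2 x y).comp (Bialgebra.comulAlgHom R B).toRingHom := by
  let _ := (str T).toAlgebra
  let fx : B →ₐ[R] Γ(T.left, ⊤) := ⟨ev x, ev_algebraMap_apply x⟩
  let fy : B →ₐ[R] Γ(T.left, ⊤) := ⟨ev y, ev_algebraMap_apply y⟩
  let j : T ⟶ (Spec (.of Γ(T.left, ⊤))).asOver (Spec (.of R)) := ofEv (RingHom.id _) rfl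
  have hj (f : B →ₐ[R] Γ(T.left, ⊤)) : ev (j ≫ Spec.mapMulEquiv (WithConv.toConv f)) = f.toRingHom := by
    rw [ev_comp_right _ _ f.toRingHom rfl, ev_ofEv]
    rfl
  have hx : x = j ≫ Spec.mapMulEquiv (WithConv.toConv fx) := by
    apply ext; rw [hj]
  have hy : y = j ≫ Spec.mapMulEquiv (WithConv.toConv fy) := by
    apply ext; rw [hj]
  have hxy : x * y = j ≫ Spec.mapMulEquiv (WithConv.toConv fx * WithConv.toConv fy) := by
    rw [map_mul, comp_mul, ← hx, ← hy]
  rw [hxy, hj (WithConv.toConv fx * WithConv.toConv fy).ofConv]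
  have : (WithConv.toConv fx * WithConv.toConv fy).ofConv =
      (Algebra.TensorProduct.lift fx fy (fun _ _ => Commute.all _ _)).comp (Bialgebra.comulAlgHom R B) := by
    have e : (Algebra.TensorProduct.lmul' R).comp (Algebra.TensorProduct.map fx fy) =
        Algebra.TensorProduct.lift fx fy (fun _ _ => Commute.all _ _) := by
      apply Algebra.TensorProduct.ext' 
      intro a b
      simp
    rw [AlgHom.convMul_def, ← e]
    rfl
  rw [this]
  rfl

lemma ev_mul_apply [Bialgebra R B] (x y : T ⟶ (Spec (CommRingCat.of B)).asOver (Spec (CommRingCat.of R))) (b : B) :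
    ev (x * y) b = ev2 x y (CoalgebraStruct.comul (R := R) b) := congr($(ev_mul x y) b)

lemma ev_one [Bialgebra R B] :
    ev (1 : T ⟶ (Spec (CommRingCat.of B)).asOver (Spec (CommRingCat.of R))) =
      (str T).comp (Bialgebra.counitAlgHom R B).toRingHom := by
  have hu : (toUnit T).left = T.hom := by
    rw [← Category.comp_id (toUnit T).left]
    exact Over.w (toUnit T)
  have : lft (1 : T ⟶ (Spec (CommRingCat.of B)).asOver (Spec (CommRingCat.of R))) =
      T.hom ≫ Spec.map (CommRingCat.ofHom (Bialgebra.counitAlgHom R B).toRingHom) := by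
    rw [lft, Hom.one_def, Over.comp_left, hu]
    rfl
  rw [ev, this, evS_comp_SpecMap, str]

lemma ev_one_apply [Bialgebra R B] (b : B) :
    ev (1 : T ⟶ (Spec (CommRingCat.of B)).asOver (Spec (CommRingCat.of R))) b =
      str T (CoalgebraStruct.counit (R := R) b) := congr($(ev_one) b)

end Mul

end K831.Pts
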