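import Groth.Agent.SekSuwa.K831.GPts
import Groth.Prelude.Def_Mor2
import Mathlib.RingTheory.AdjoinRoot
import Mathlib.RingTheory.PowerBasis

/-!
`G_{λ,N}` is the kernel of `ψ`; it is finite locally free of degree `N`.
-/

set_option autoImplicit false
universe u
open CategoryTheory MonoidalCategory CartesianMonoidalCategory MonObj GrpObj AlgebraicGeometry Limits
open scoped TensorProduct
open SekSuwa K831.Pts K831.GPts

noncomputable section

namespace K831.Kernel

lemma comp_unit_eq {S : Scheme.{u}} {G T : Over S} [MonObj G] (y : T ⟶ 𝟙_ (Over S)) :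
    y ≫ η[G] = (1 : T ⟶ G) := by
  rw [Hom.one_def]
  congr 1
  exact toUnit_unique _ _

theorem isKernel_incl_psi (R : Type u) [CommRing R] (lam : R) (N : ℕ) (h : SekSuwa.DivCond lam N) :
    AlgGrp.IsKernel (SekSuwa.incl R lam N h) (SekSuwa.psi R lam N h) := by
  have key (s : PullbackCone (psi R lam N h) η[G R (lam ^ N)]) : ∃ y : s.pt ⟶ GK R lam N h, y ≫ incl R lam N h = s.fst :=
    exists_lift_incl (N := N) (h := h) s.fst (by
      rw [← tv_psi, s.condition, comp_unit_eq, tv_one])
  refine ⟨⟨?_⟩, ⟨Limits.PullbackCone.IsLimit.mk _ (fun s => (key s).choose) ?_ ?_ ?_⟩⟩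
  · rw [SekSuwa.incl_psi]
    exact (comp_unit_eq _).symm
  · intro s
    exact (key s).choose_spec
  · intro s
    exact toUnit_unique _ _
  · intro s m h1 h2
    rw [← cancel_mono (SekSuwa.incl R lam N h), h1]
    exact (key s).choose_spec.symm

section free
open Polynomial
variable {R : Type u} [CommRing R] {lam : R} {N : ℕ}

/-- `P_{λ,N}` is monic of degree `N` (nontrivial ring not needed for monicity). -/
lemma coeff_psiPoly (h : DivCond lam N) (k : ℕ) (hk : 0 < k) :
    lam ^ N * (psiPoly lam N h).coeff k = lam ^ k * (N.choose k : R) := by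
  have := congr(($(psiPoly_spec h)).coeff k)
  rw [coeff_C_mul] at this
  rw [this, coeff_sub, coeff_one, if_neg hk.ne', sub_zero, add_comm, add_pow, finsetSum_coeff]
  simp only [one_pow, _root_.mul_one, mul_pow, ← C_pow, coeff_mul_natCast, coeff_C_mul, coeff_X_pow]
  rw [Finset.sum_eq_single k]
  · simp
  · intro b _ hb
    simp [hb.symm]
  · intro hk2
    rw [Finset.mem_range, not_lt] at hk2
    rw [Nat.choose_eq_zero_of_lt (by omega)]
    simp

lemma monic_psiPoly (h : DivCond lam N) (hN : 0 < N) : (psiPoly lam N h).Monic := by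
  apply monic_of_natDegree_le_of_coeff_eq_one N
  · rw [natDegree_le_iff_coeff_eq_zero]
    intro k hk
    apply cancel_nzd h.pow_nzd
    rw [coeff_psiPoly h k (by omega), Nat.choose_eq_zero_of_lt hk]
    simp
  · apply cancel_nzd h.pow_nzd
    rw [coeff_psiPoly h N hN]
    simp

lemma natDegree_psiPoly [Nontrivial R] (h : DivCond lam N) (hN : 0 < N) : (psiPoly lam N h).natDegree = N := by
  apply natDegree_eq_of_le_of_coeff_ne_zero
  · rw [natDegree_le_iff_coeff_eq_zero]
    intro k hk
    apply cancel_nzd h.pow_nzd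
    rw [coeff_psiPoly h k (by omega), Nat.choose_eq_zero_of_lt hk]
    simp
  · have : (psiPoly lam N h).coeff N = 1 := by
      apply cancel_nzd h.pow_nzd
      rw [coeff_psiPoly h N hN]
      simp
    rw [this]
    exact one_ne_zero

/-- The map from `R[T]/(P)` to the coordinate ring of `G_{λ,N}`. -/
def toAK (h : DivCond lam N) : AdjoinRoot (psiPoly lam N h) →ₐ[R] AK R lam N h :=
  AdjoinRoot.liftAlgHom _ (Algebra.ofId R _) AK.t (by
    have := AK.aeval_t (R := R) (lam := lam) (N := N) (h := h)
    rwa [aeval_def] at this)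

@[simp] lemma toAK_root (h : DivCond lam N) : toAK h (AdjoinRoot.root _) = AK.t := by
  rw [toAK]
  exact AdjoinRoot.liftAlgHom_root _ _ _ _

/-- The inverse map. -/
def ofA (h : DivCond lam N) (hN : 0 < N) : A R lam →ₐ[R] AdjoinRoot (psiPoly lam N h) :=
  A.lift R lam (AdjoinRoot.root _) ((1 + lam • AdjoinRoot.root _) ^ (N - 1)) (by
    rw [← pow_succ', Nat.sub_add_cancel hN, Algebra.smul_def]
    have := aeval_psiPoly h (AdjoinRoot.root (psiPoly lam N h))
    rw [AdjoinRoot.aeval_eq, AdjoinRoot.mk_self, mul_zero] at this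
    exact (sub_eq_zero.mp this.symm))

lemma ofA_kerGen (h : DivCond lam N) (hN : 0 < N) : ofA h hN (kerGen lam N h) = 0 := by
  rw [kerGen, ← aeval_algHom_apply, ofA, A.lift_t, AdjoinRoot.aeval_eq, AdjoinRoot.mk_self]

def ofAK (h : DivCond lam N) (hN : 0 < N) : AK R lam N h →ₐ[R] AdjoinRoot (psiPoly lam N h) :=
  Ideal.Quotient.liftₐ (kerIdeal lam N h) (ofA h hN) (by
    intro a ha
    obtain ⟨c, rfl⟩ := Ideal.mem_span_singleton'.mp ha
    rw [map_mul, ofA_kerGen, mul_zero])

lemma ofAK_mk (h : DivCond lam N) (hN : 0 < N) (a : A R lam) : ofAK h hN (AK.mkHom R lam N h a) = ofA h hN a := rfl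

@[simp] lemma ofAK_t (h : DivCond lam N) (hN : 0 < N) : ofAK h hN AK.t = AdjoinRoot.root _ := by
  rw [AK.t, ofAK_mk, ofA, A.lift_t]

lemma AK_inv_eq (h : DivCond lam N) (hN : 0 < N) : (AK.inv : AK R lam N h) = (1 + lam • AK.t) ^ (N - 1) := by
  have h1 : (1 + lam • (AK.t : AK R lam N h)) * AK.inv = 1 := by
    have := congrArg (AK.mkHom R lam N h) (A.u_mul_inv (R := R) (lam := lam))
    rw [map_mul, map_one, A.u, map_add, map_one, map_smul] at this
    exact this
  have h2 : (1 + lam • (AK.t : AK R lam N h)) ^ (N - 1) * (1 + lam • (AK.t : AK R lam N h)) = 1 := by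
    rw [← pow_succ, Nat.sub_add_cancel hN, AK.u_pow]
  exact (left_inv_eq_right_inv h2 h1).symm

/-- The coordinate ring of `G_{λ,N}` is `R[T]/(P_{λ,N})`. -/
def equivAK (h : DivCond lam N) (hN : 0 < N) : AK R lam N h ≃ₐ[R] AdjoinRoot (psiPoly lam N h) :=
  AlgEquiv.ofAlgHom (ofAK h hN) (toAK h)
    (by
      apply AdjoinRoot.algHom_ext
      simp)
    (by
      apply AK.algHom_ext
      · simp
      · rw [AK_inv_eq h hN]
        simp)

@[simp] lemma equivAK_t (h : DivCond lam N) (hN : 0 < N) : equivAK h hN AK.t = AdjoinRoot.root _ := ofAK_t h hN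

lemma AdjoinRoot_free {f : R[X]} (hf : f.Monic) : Module.Free R (AdjoinRoot f) :=
  Module.Free.of_basis (AdjoinRoot.powerBasis' hf).basis

lemma free_AK (h : DivCond lam N) (hN : 0 < N) : Module.Free R (AK R lam N h) :=
  letI := AdjoinRoot_free (monic_psiPoly h hN)
  Module.Free.of_equiv (equivAK h hN).symm.toLinearEquiv

lemma finite_AK (h : DivCond lam N) (hN : 0 < N) : Module.Finite R (AK R lam N h) :=
  letI := (AdjoinRoot.powerBasis' (monic_psiPoly h hN)).finite
  Module.Finite.equiv (equivAK h hN).symm.toLinearEquiv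

lemma finrank_AK [Nontrivial R] (h : DivCond lam N) (hN : 0 < N) : Module.finrank R (AK R lam N h) = N := by
  rw [(equivAK h hN).toLinearEquiv.finrank_eq, (AdjoinRoot.powerBasis' (monic_psiPoly h hN)).finrank,
    AdjoinRoot.powerBasis'_dim, natDegree_psiPoly h hN]

end free

theorem isFinLocFreeOfDeg_GK (R : Type u) [CommRing R] (lam : R) (N : ℕ) (hN : 0 < N) (h : SekSuwa.DivCond lam N) :
    Mor2.IsFinLocFreeOfDeg N (SekSuwa.GK R lam N h).hom := by
  have := free_AK h hN
  have := finite_AK h hN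
  have hfp : Module.FinitePresentation R (AK R lam N h) := Module.finitePresentation_of_projective _ _
  change Mor2.IsFinLocFreeOfDeg N (Spec.map (CommRingCat.ofHom (algebraMap R (AK R lam N h))))
  refine ⟨⟨?_, ?_, ?_⟩, ?_⟩
  · rw [IsFinite.SpecMap_iff]
    exact RingHom.finite_algebraMap.mpr inferInstance
  · rw [Flat.SpecMap_iff]
    exact RingHom.flat_algebraMap_iff.mpr inferInstance
  · rw [HasRingHomProperty.Spec_iff (P := @LocallyOfFinitePresentation)]
    exact RingHom.finitePresentation_algebraMap.mpr inferInstance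
  · intro y
    have : Nontrivial R := by
      by_contra hR
      rw [not_nontrivial_iff_subsingleton] at hR
      exact (PrimeSpectrum.isEmpty_iff_subsingleton (R := R)).mpr hR |>.false y
    refine (Scheme.Hom.finrank_SpecMap_algebraMap R (AK R lam N h) y).trans ?_
    rw [Module.rankAtStalk_eq_finrank_of_free, finrank_AK h hN]
    rfl

end K831.Kernel
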