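import Groth.Agent.SekSuwa.K831.SpecFib
import Groth.Agent.SekSuwa.K831.Kernel
import Mathlib.RingTheory.Polynomial.Cyclotomic.Basic

/-!
Integral models of the constant group of order `p` are the groups `G_{λ,1}`: the algebra.
-/

set_option autoImplicit false
universe u
open scoped TensorProduct
open SekSuwa

noncomputable section

namespace K831.RankP

open K831.Core K831.SpecFib K831.Kernel

section Div
open Polynomial
variable {R : Type u} [CommRing R] [IsDomain R] {p : ℕ} [hp : Fact p.Prime] {ζ : R} (hζ : IsPrimitiveRoot ζ p) {l u : R}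
  (hl : l ≠ 0) (hlu : l * u = ζ - 1)

include hζ hl hlu hp in
/-- The divisibility condition holds as soon as `λ` divides `ζ - 1`. -/
theorem divCond : DivCond l p := by
  refine ⟨mem_nonZeroDivisors_of_ne_zero hl, ?_⟩
  have h1 : ∀ η : R, ∃ t, η ∈ nthRootsFinset p (1 : R) → l * t = η - 1 := by
    intro η
    by_cases hη : η ∈ nthRootsFinset p (1 : R)
    · obtain ⟨i, -, hi⟩ := hζ.eq_pow_of_pow_eq_one ((mem_nthRootsFinset hp.out.pos 1).mp hη)
      obtain ⟨s, hs⟩ : ζ - 1 ∣ ζ ^ i - 1 := sub_one_dvd_pow_sub_one ζ i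
      refine ⟨u * s, fun _ => ?_⟩
      rw [← hi, hs, ← hlu]
      ring
    · exact ⟨0, fun h => absurd h hη⟩
  choose t ht using h1
  refine ⟨∏ η ∈ nthRootsFinset p (1 : R), (X - C (t η)), ?_⟩
  have hcard : (nthRootsFinset p (1 : R)).card = p := hζ.card_nthRootsFinset
  have h2 : (1 + C l * X) ^ p - 1 = ∏ η ∈ nthRootsFinset p (1 : R), ((1 + C l * X) - C η) := by
    have h3 := congr(($(X_pow_sub_one_eq_prod hp.out.pos hζ)).comp (1 + C l * X))
    rw [sub_comp, pow_comp, X_comp, one_comp, prod_comp] at h3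
    rw [h3]
    refine Finset.prod_congr rfl fun η _ => ?_
    rw [sub_comp, X_comp, C_comp]
  rw [h2, C_pow]
  have h4 : (C l : R[X]) ^ p = ∏ _η ∈ nthRootsFinset p (1 : R), C l := by rw [Finset.prod_const, hcard]
  rw [h4, ← Finset.prod_mul_distrib]
  refine Finset.prod_congr rfl fun η hη => ?_
  have h5 : (C η : R[X]) = 1 + C l * C (t η) := by
    rw [← C_mul, ht η hη, C_sub, C_1]
    ring
  rw [h5]
  ring

end Div

section Th
variable {R : Type u} [CommRing R] {N : ℕ} {l : R} {C : Type u} [CommRing C] [Algebra R C]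

/-- the algebra map `AK → C` with a prescribed value on the coordinate -/
def th (h : DivCond l N) (hN : 0 < N) (y : C) (hy : Polynomial.aeval y (psiPoly l N h) = 0) : AK R l N h →ₐ[R] C :=
  (AdjoinRoot.liftAlgHom (psiPoly l N h) (Algebra.ofId R C) y hy).comp (equivAK h hN).toAlgHom

@[simp] lemma th_t (h : DivCond l N) (hN : 0 < N) (y : C) (hy : Polynomial.aeval y (psiPoly l N h) = 0) :
    th h hN y hy AK.t = y := by
  change AdjoinRoot.liftAlgHom (psiPoly l N h) (Algebra.ofId R C) y hy (equivAK h hN AK.t) = y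
  rw [equivAK_t]
  exact AdjoinRoot.liftAlgHom_root _ _ _ _

lemma th_eq_algHom_ext {h : DivCond l N} (hN : 0 < N) {f g : AK R l N h →ₐ[R] C} (e : f AK.t = g AK.t) : f = g := by
  apply AK.algHom_ext e
  rw [AK_inv_eq h hN, map_pow, map_add, map_smul, map_one, map_pow, map_add, map_smul, map_one, e]

end Th

section Main
open IsLocalRing
variable {R : Type u} [CommRing R] [IsDomain R] [IsDiscreteValuationRing R] {p : ℕ} [hp : Fact p.Prime]
  [CharP (ResidueField R) p]
  {C : Type u} [CommRing C] [Algebra R C] [Module.Free R C] [Module.Finite R C] {M : Type*} [Group M] [Finite M]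
  {γ : M → (C →ₐ[R] R)} {Δ : C →ₐ[R] C ⊗[R] C} (F : Form γ Δ)

local notation "k" => ResidueField R

include F hp in
/-- Divided characters of order `p`. -/
theorem exists_divided {ζ : R} (hζ : IsPrimitiveRoot ζ p) {χ : M → R} (h1χ : χ 1 = 1) (hmul : ∀ m n, χ (m * n) = χ m * χ n)
    {m0 : M} (hm0 : χ m0 = ζ) (hχp : ∀ m, χ m ^ p = 1) :
    ∃ (l : R) (h : DivCond l p) (y : C), l ≠ 0 ∧ (∀ m, l * γ m y = χ m - 1) ∧ Polynomial.aeval y (psiPoly l p h) = 0 ∧
      LinearIndependent k (fun i : Fin p => ((1 : k) ⊗ₜ[R] y : k ⊗[R] C) ^ (i : ℕ)) := by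
  obtain ⟨x, hx⟩ := exists_char F χ h1χ hmul
  have hx0 : x - 1 ≠ 0 := by
    intro h
    have h1 := congr(γ m0 $h)
    rw [map_sub, map_one, map_zero, hx, hm0] at h1
    exact hζ.ne_one hp.out.one_lt (sub_eq_zero.mp h1)
  obtain ⟨l, y, f, hl, hxy, hf⟩ := exists_content (R := R) hx0
  have hv : ∀ m, l * γ m y = χ m - 1 := fun m => by
    rw [← hx, ← map_one (γ m), ← map_sub, hxy, map_smul, smul_eq_mul]
  have hD : DivCond l p := divCond hζ (u := γ m0 y) hl (by rw [hv, hm0])
  refine ⟨l, hD, y, hl, hv, ?_, ?_⟩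
  · apply F.inj
    intro m
    have h1 := aeval_psiPoly hD y
    have h2 : x = 1 + algebraMap R C l * y := by
      rw [← Algebra.smul_def, ← hxy]
      ring
    have h3 : x ^ p = 1 := ext_point F fun m => by rw [map_pow, hx, hχp, map_one]
    rw [← h2, h3, sub_self] at h1
    have h4 := congr(γ m $h1)
    rw [map_mul, map_zero, AlgHom.commutes] at h4
    rcases mul_eq_zero.mp h4 with h | h
    · exact absurd (pow_eq_zero_iff hp.out.ne_zero |>.mp h) hl
    · exact h
  · have h1 := le_natDegree F hζ h1χ hmul hm0 hχp hl hx hxy f hf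
    exact (linearIndependent_pow (K := k) ((1 : k) ⊗ₜ[R] y : k ⊗[R] C)).comp (Fin.castLE h1) (Fin.castLE_injective h1)

omit [IsDiscreteValuationRing R] [Module.Free R C] [Module.Finite R C] in
include F in
lemma finrank_le : Module.finrank R C ≤ Nat.card M := by
  have := Fintype.ofFinite M
  let g : C →ₗ[R] (M → R) := LinearMap.pi fun m => (γ m).toLinearMap
  have hg : Function.Injective g := by
    rw [injective_iff_map_eq_zero]
    intro c hc
    exact F.inj c fun m => congr_fun hc m
  have := LinearMap.finrank_le_finrank_of_injective hg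
  rwa [Module.finrank_fintype_fun_eq_card, ← Nat.card_eq_fintype_card] at this

include F hp in
/-- **The algebra of an integral model of the constant group of order `p`.** -/
theorem exists_equiv (hM : Nat.card M = p) {ζ : R} (hζ : IsPrimitiveRoot ζ p) {χ : M → R} (h1χ : χ 1 = 1)
    (hmul : ∀ m n, χ (m * n) = χ m * χ n) {m0 : M} (hm0 : χ m0 = ζ) (hχp : ∀ m, χ m ^ p = 1) :
    ∃ (l : R) (h : DivCond l p) (θ : AK R l p h ≃ₐ[R] C), l ≠ 0 ∧ ∀ m, l * γ m (θ AK.t) = χ m - 1 := by
  obtain ⟨l, h, y, hl, hv, hy, hli⟩ := exists_divided F hζ h1χ hmul hm0 hχp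
  have hrank : Module.finrank R C = p := by
    apply le_antisymm
    · exact hM ▸ finrank_le F
    · have h1 := hli.fintype_card_le_finrank
      rwa [Fintype.card_fin, Module.finrank_baseChange] at h1
  have hspan : Submodule.span R (Set.range fun i : Fin p => y ^ (i : ℕ)) = ⊤ := by
    have : Nonempty (Fin p) := ⟨⟨0, hp.out.pos⟩⟩
    let b := basisOfLinearIndependentOfCardEqFinrank hli (by rw [Fintype.card_fin, Module.finrank_baseChange, hrank])
    apply span_eq_top_of_tmul_eq_basis _ b
    intro i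
    rw [coe_basisOfLinearIndependentOfCardEqFinrank, Algebra.TensorProduct.tmul_pow, one_pow]
  let θ := th h hp.out.pos y hy
  have hθt : θ AK.t = y := th_t h hp.out.pos y hy
  have hsurj : Function.Surjective θ := by
    have h1 : (⊤ : Submodule R C) ≤ LinearMap.range θ.toLinearMap := by
      rw [← hspan, Submodule.span_le]
      rintro _ ⟨i, rfl⟩
      exact ⟨AK.t ^ (i : ℕ), by
        change θ (AK.t ^ (i : ℕ)) = y ^ (i : ℕ)
        rw [map_pow, hθt]⟩
    intro c
    obtain ⟨a, ha⟩ := h1 (Submodule.mem_top : c ∈ ⊤)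
    exact ⟨a, ha⟩
  have hfree := free_AK h hp.out.pos
  have hfin := finite_AK h hp.out.pos
  have hinj : Function.Injective θ := by
    let e : C ≃ₗ[R] AK R l p h := LinearEquiv.ofFinrankEq C (AK R l p h) (by rw [hrank, finrank_AK h hp.out.pos])
    have h2 : Function.Surjective (e.toLinearMap ∘ₗ θ.toLinearMap) := e.surjective.comp hsurj
    have h3 := OrzechProperty.injective_of_surjective_endomorphism _ h2
    exact Function.Injective.of_comp h3
  exact ⟨l, h, AlgEquiv.ofBijective θ ⟨hinj, hsurj⟩, hl, fun m => by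
    change l * γ m (θ AK.t) = _
    rw [hθt, hv]⟩

end Main

end K831.RankP
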