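import Groth.Agent.SekSuwa.K831.GenFib
import Groth.Agent.SekSuwa.K831.RankP
import Groth.Agent.Sga3B.AffHopf
import Mathlib.RingTheory.LocalRing.Module

/-!
Finite flat group schemes of order `p` over a discrete valuation ring containing `ζ_p`, with constant generic fibre.
-/

set_option autoImplicit false
universe u
open CategoryTheory MonoidalCategory CartesianMonoidalCategory MonObj GrpObj AlgebraicGeometry Limits
open scoped TensorProduct
open SekSuwa K831.Pts K831.GPts K831.BcPts K831.Core K831.Kernel K831.RankP K831.GenFib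
  Groth.Agent.Sga3B.AffTest Groth.Agent.Sga3B.DSPts

noncomputable section

namespace K831.OrdP

section Hopf
variable {R : Type u} [CommRing R]

/-- A finite flat group scheme over a local ring is the spectrum of a free Hopf algebra. -/
theorem exists_hopf_free [IsLocalRing R] (G : Over (Spec (CommRingCat.of R))) [GrpObj G] [IsFinite G.hom] [Flat G.hom] :
    ∃ (C : Type u) (_ : CommRing C) (_ : HopfAlgebra R C) (i : sp R C ≅ G), IsMonHom i.hom ∧ Module.Finite R C ∧
      Module.Free R C := by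
  have : IsAffine G.left := isAffine_of_isAffineHom G.hom
  obtain ⟨C, _, _, i, hi⟩ := Groth.Agent.Sga3B.AffHopf.exists_hopf G
  have h1 : Spec.map (CommRingCat.ofHom (algebraMap R C)) = i.hom.left ≫ G.hom := (Over.w i.hom).symm
  have h0 : IsIso i.hom.left := inferInstanceAs (IsIso ((Over.forget _).map i.hom))
  have h2 : IsFinite (Spec.map (CommRingCat.ofHom (algebraMap R C))) := by
    rw [h1]
    exact MorphismProperty.comp_mem @IsFinite i.hom.left G.hom inferInstance inferInstance
  have h3 : Flat (Spec.map (CommRingCat.ofHom (algebraMap R C))) := by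
    rw [h1]
    exact MorphismProperty.comp_mem @Flat i.hom.left G.hom inferInstance inferInstance
  have h4 : Module.Finite R C := by
    rw [IsFinite.SpecMap_iff] at h2
    exact RingHom.finite_algebraMap.mp h2
  have h5 : Module.Flat R C := by
    rw [Flat.SpecMap_iff] at h3
    exact RingHom.flat_algebraMap_iff.mp h3
  exact ⟨C, _, _, i, hi, h4, Module.free_of_flat_of_isLocalRing⟩

end Hopf

section Mor
variable {R : Type u} [CommRing R] {B : Type u} [CommRing B] [HopfAlgebra R B] {l : R} {N : ℕ} {h : DivCond l N}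

/-- A morphism to `G_{λ,N}` given by a map of algebras is a homomorphism if the image of `t` has the right
comultiplication. -/
theorem isMonHom_of_comul (θ : AK R l N h →ₐ[R] B)
    (hθ : CoalgebraStruct.comul (R := R) (θ AK.t) = θ AK.t ⊗ₜ[R] 1 + 1 ⊗ₜ[R] θ AK.t + l • (θ AK.t ⊗ₜ[R] θ AK.t)) :
    IsMonHom (spMap θ : sp R B ⟶ GK R l N h) := by
  have h1 {T : Over (Spec (CommRingCat.of R))} (x : T ⟶ sp R B) :
      tk (x ≫ (spMap θ : sp R B ⟶ GK R l N h)) = ev x (θ AK.t) := by
    have := ev_comp_right x (spMap θ) θ.toRingHom rfl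
    exact congr($this AK.t)
  apply Groth.Agent.Sga3B.Pts.isMonHom_of_points
  intro T x y
  apply tk_ext
  rw [h1, tk_mul, h1, h1, ev_mul_apply, hθ, map_add, map_add, ev2_smul, ev2_tmul, ev2_tmul, ev2_tmul, map_one, map_one,
    _root_.one_mul, _root_.mul_one]

lemma comul_of_divided {M : Type*} [Group M] [IsDomain R] [Module.Free R B] [Module.Finite R B]
    {γ : M → (B →ₐ[R] R)} (F : Form γ (Bialgebra.comulAlgHom R B)) {χ : M → R} (hmul : ∀ m n, χ (m * n) = χ m * χ n)
    (hl : l ≠ 0) {y : B} (hy : ∀ m, l * γ m y = χ m - 1) :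
    CoalgebraStruct.comul (R := R) y = y ⊗ₜ[R] 1 + 1 ⊗ₜ[R] y + l • (y ⊗ₜ[R] y) := by
  apply ext2 F
  intro m n
  apply mul_left_cancel₀ hl
  have h1 := F.comul y m n
  rw [Bialgebra.comulAlgHom_apply] at h1
  rw [h1, hy, map_add, map_add, map_smul, gg_tmul, gg_tmul, gg_tmul, map_one, map_one, smul_eq_mul, hmul]
  have e1 : χ m = 1 + l * γ m y := by rw [hy]; ring
  have e2 : χ n = 1 + l * γ n y := by rw [hy]; ring
  rw [e1, e2]
  ring

end Mor

section Char
variable {R : Type u} [CommRing R] {p : ℕ} [hp : Fact p.Prime] {ζ : R} (hζ : IsPrimitiveRoot ζ p)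

/-- the standard character of `ℤ/p` -/
def stdChar (ζ : R) (m : Multiplicative (ZMod p)) : R := ζ ^ (Multiplicative.toAdd m).val

include hζ in
lemma stdChar_mul (m n : Multiplicative (ZMod p)) : stdChar ζ (m * n) = stdChar ζ m * stdChar ζ n := by
  rw [stdChar, stdChar, stdChar, toAdd_mul, ZMod.val_add, ← pow_eq_pow_mod _ hζ.pow_eq_one, pow_add]

omit hp in
lemma stdChar_one : stdChar ζ (1 : Multiplicative (ZMod p)) = 1 := by
  rw [stdChar, toAdd_one, ZMod.val_zero, pow_zero]

lemma stdChar_gen : stdChar ζ (Multiplicative.ofAdd (1 : ZMod p)) = ζ := by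
  have : Fact (1 < p) := ⟨hp.out.one_lt⟩
  rw [stdChar, toAdd_ofAdd, ZMod.val_one, pow_one]

omit hp in
include hζ in
lemma stdChar_pow (m : Multiplicative (ZMod p)) : stdChar ζ m ^ p = 1 := by
  rw [stdChar, ← pow_mul, mul_comm, pow_mul, hζ.pow_eq_one, one_pow]

end Char

section Main
variable {R : Type u} [CommRing R] [IsDomain R] [IsDiscreteValuationRing R] {p : ℕ} [hp : Fact p.Prime]
  [CharP (IsLocalRing.ResidueField R) p] {ζ : R} (hζ : IsPrimitiveRoot ζ p)
  (G : Over (Spec (CommRingCat.of R))) [GrpObj G] [IsFinite G.hom] [Flat G.hom]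
  (e : Red.bc (jK R) G ≅ TwC.const (Spec (CommRingCat.of (FractionRing R))) (Multiplicative (ZMod p)))
  (he : TwC.IsConstGrp (Multiplicative (ZMod p)) (Red.bc (jK R) G) e)

include hζ he in
theorem exists_iso : ∃ (lam : R) (h : SekSuwa.DivCond lam p), lam ≠ 0 ∧
    Nonempty (Grp.mk G ≅ Grp.mk (SekSuwa.GK R lam p h)) := by
  obtain ⟨B, _, _, i, hi, hfin, hfree⟩ := exists_hopf_free G
  have F := form i e he
  have hcard : Nat.card (Multiplicative (ZMod p)) = p := by
    rw [Nat.card_congr Multiplicative.toAdd, Nat.card_zmod]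
  obtain ⟨l, h, θ, hl, hθ⟩ := exists_equiv F hcard hζ (χ := stdChar ζ) stdChar_one (stdChar_mul hζ)
    (m0 := Multiplicative.ofAdd (1 : ZMod p)) stdChar_gen (stdChar_pow hζ)
  refine ⟨l, h, hl, ?_⟩
  have hm : IsMonHom (spMap θ.toAlgHom : sp R B ⟶ GK R l p h) :=
    isMonHom_of_comul θ.toAlgHom (comul_of_divided F (stdChar_mul hζ) hl hθ)
  have hiso : IsIso (spMap θ.toAlgHom : sp R B ⟶ GK R l p h) := by
    refine ⟨spMap θ.symm.toAlgHom, ?_, ?_⟩
    · have h1 := spMap_comp θ.symm.toAlgHom θ.toAlgHom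
      have h2 : θ.toAlgHom.comp θ.symm.toAlgHom = AlgHom.id R B := by ext x; exact θ.apply_symm_apply x
      rw [h2] at h1
      exact h1.symm.trans (spMap_id)
    · have h1 := spMap_comp θ.toAlgHom θ.symm.toAlgHom
      have h2 : θ.symm.toAlgHom.comp θ.toAlgHom = AlgHom.id R (AK R l p h) := by ext x; exact θ.symm_apply_apply x
      rw [h2] at h1
      exact h1.symm.trans (spMap_id)
  let E : sp R B ≅ GK R l p h := asIso (spMap θ.toAlgHom)
  have hE : IsMonHom (i.symm ≪≫ E).hom := by
    have h1 : IsMonHom i.inv := inferInstance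
    have h2 : IsMonHom E.hom := hm
    exact inferInstanceAs (IsMonHom (i.inv ≫ E.hom))
  exact ⟨Grp.mkIso' (i.symm ≪≫ E)⟩

end Main

end K831.OrdP
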