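import Groth.Agent.SekSuwa.K831.FlatPts
import Groth.Agent.SekSuwa.K831.Kernel
import Mathlib.FieldTheory.IsAlgClosed.AlgebraicClosure
import Mathlib.GroupTheory.SpecificGroups.Cyclic
import Mathlib.RingTheory.RootsOfUnity.EnoughRootsOfUnity
import Mathlib.RingTheory.RootsOfUnity.AlgebraicallyClosed

/-!
Every action by automorphisms of `G_{μ,1}` on `G_{λ,1}` is trivial.
-/

set_option autoImplicit false
universe u
open CategoryTheory MonoidalCategory CartesianMonoidalCategory MonObj GrpObj AlgebraicGeometry Limits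
open scoped TensorProduct
open SekSuwa K831.Pts K831.GPts K831.FlatPts K831.Kernel

noncomputable section

namespace K831.ActTriv

section Alg
open Polynomial

lemma joint_inj {C D Ω : Type*} [CommRing C] [CommRing D] [Field Ω] [IsAlgClosed Ω] (φ : C →+* D) (t : D)
    (ht : ∀ d, ∃ G : C[X], d = eval₂ φ t G) {P : C[X]} (hP : P.Monic) (hPt : eval₂ φ t P = 0) (S : Set (C →+* Ω))
    (hS : ∀ c, (∀ s ∈ S, s c = 0) → c = 0) (hsep : ∀ s ∈ S, (P.map s).Separable)
    (hz : ∀ s ∈ S, ∀ x : Ω, (P.map s).IsRoot x → ∃ z : D →+* Ω, z.comp φ = s ∧ z t = x) (d : D)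
    (hd : ∀ z : D →+* Ω, z.comp φ ∈ S → z d = 0) : d = 0 := by
  classical
  by_cases hP1 : P = 1
  · rw [hP1, eval₂_one] at hPt
    rw [← _root_.mul_one d, hPt, mul_zero]
  obtain ⟨G, hG⟩ := ht d
  set G' := G %ₘ P with hG'
  have hGd : d = eval₂ φ t G' := by
    have h3 := modByMonic_add_div G P
    rw [hG]
    conv_lhs => rw [← h3, eval₂_add, eval₂_mul, hPt, zero_mul, add_zero]
  suffices h : G' = 0 by rw [hGd, h, eval₂_zero]
  ext i
  rw [coeff_zero]
  apply hS
  intro s hs
  have hdeg : (G'.map s).natDegree < (P.map s).natDegree := by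
    rw [hP.natDegree_map]
    exact natDegree_map_le.trans_lt (natDegree_modByMonic_lt _ hP hP1)
  have h0 : G'.map s = 0 := by
    refine eq_zero_of_natDegree_lt_card_of_eval_eq_zero' _ (P.map s).roots.toFinset ?_ ?_
    · intro x hx
      rw [Multiset.mem_toFinset] at hx
      obtain ⟨z, hz1, hz2⟩ := hz s hs x (isRoot_of_mem_roots hx)
      rw [eval_map, ← hz1, ← hz2, ← hom_eval₂, ← hGd]
      exact hd z (hz1 ▸ hs)
    · rw [Multiset.toFinset_card_of_nodup (nodup_roots (hsep s hs)), IsAlgClosed.card_roots_eq_natDegree]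
      exact hdeg
  have := congr(coeff $h0 i)
  rwa [coeff_map, coeff_zero] at this

variable {R : Type u} [CommRing R] {lam : R} {N : ℕ}

lemma separable_psiPoly (h : DivCond lam N) {Ω : Type*} [Field Ω] (s : R →+* Ω) (hlam : s lam ≠ 0)
    (hN : (N : Ω) ≠ 0) : ((psiPoly lam N h).map s).Separable := by
  have e1 := congr(Polynomial.map s $(psiPoly_spec h))
  simp only [Polynomial.map_mul, Polynomial.map_sub, Polynomial.map_pow, Polynomial.map_add, Polynomial.map_one, map_C,
    map_X] at e1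
  set P := (psiPoly lam N h).map s
  have e2 := congr(derivative $e1)
  simp only [derivative_mul, derivative_C, zero_mul, zero_add, derivative_sub, derivative_one, sub_zero, derivative_pow,
    derivative_add, derivative_X, _root_.mul_one] at e2
  have hN0 : 0 < N := by
    rcases Nat.eq_zero_or_pos N with h | h
    · subst h; simp at hN
    · exact h
  rw [separable_def']
  have hc : ((N : Ω) * s lam) ≠ 0 := mul_ne_zero hN hlam
  refine ⟨- C (s (lam ^ N)), C (((N : Ω) * s lam)⁻¹ * s (lam ^ N)) * (1 + C (s lam) * X), ?_⟩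
  have e3 : (1 + C (s lam) * X) * (C (s (lam ^ N)) * derivative P) =
      C ((N : Ω) * s lam) * (1 + C (s (lam ^ N)) * P) := by
    rw [e2]
    have e4 : (1 + C (s lam) * X) ^ N = 1 + C (s (lam ^ N)) * P := by rw [e1]; ring
    rw [← e4]
    obtain ⟨M, rfl⟩ := Nat.exists_eq_succ_of_ne_zero hN0.ne'
    simp only [Nat.succ_eq_add_one, Nat.add_sub_cancel, map_mul, map_natCast]
    ring
  have e5 : C (((N : Ω) * s lam)⁻¹) * C ((N : Ω) * s lam) = (1 : Polynomial Ω) := by
    rw [← C_mul, inv_mul_cancel₀ hc, C_1]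
  calc -C (s (lam ^ N)) * P + C (((N : Ω) * s lam)⁻¹ * s (lam ^ N)) * (1 + C (s lam) * X) * derivative P
      = -C (s (lam ^ N)) * P + C (((N : Ω) * s lam)⁻¹) * ((1 + C (s lam) * X) * (C (s (lam ^ N)) * derivative P)) := by
        rw [C_mul]; ring
    _ = -C (s (lam ^ N)) * P + (C (((N : Ω) * s lam)⁻¹) * C ((N : Ω) * s lam)) * (1 + C (s (lam ^ N)) * P) := by
        rw [e3]; ring
    _ = 1 := by rw [e5]; ring

lemma AK_exists_poly (h : DivCond lam N) (hN : 0 < N) (a : AK R lam N h) : ∃ F : R[X], a = aeval AK.t F := by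
  obtain ⟨b, hb⟩ := (equivAK h hN).symm.surjective a
  obtain ⟨F, rfl⟩ := AdjoinRoot.mk_surjective b
  refine ⟨F, ?_⟩
  rw [← hb, ← AdjoinRoot.aeval_eq, ← aeval_algHom_apply (equivAK h hN).symm, ← equivAK_t h hN,
      AlgEquiv.symm_apply_apply]

/-- algebra maps out of `AK` -/
lemma AK_exists_algHom (h : DivCond lam N) (hN : 0 < N) {B : Type*} [CommRing B] [Algebra R B] (b : B)
    (hb : aeval b (psiPoly lam N h) = 0) : ∃ z : AK R lam N h →ₐ[R] B, z AK.t = b := by
  have hb' : eval₂ (Algebra.ofId R B : R →+* B) b (psiPoly lam N h) = 0 := hb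
  refine ⟨(AdjoinRoot.liftAlgHom _ (Algebra.ofId R _) b hb').comp (equivAK h hN).toAlgHom, ?_⟩
  change AdjoinRoot.liftAlgHom _ (Algebra.ofId R _) b hb' (equivAK h hN AK.t) = b
  rw [equivAK_t, AdjoinRoot.liftAlgHom_root]

/-- Geometric points separate the elements of the coordinate ring of `G_{λ,N}`. -/
lemma AK_sep [IsDomain R] (h : DivCond lam N) {Ω : Type*} [Field Ω] [IsAlgClosed Ω] [Algebra R Ω]
    [FaithfulSMul R Ω] (hN : (N : Ω) ≠ 0) (a : AK R lam N h) (ha : ∀ z : AK R lam N h →ₐ[R] Ω, z a = 0) : a = 0 := by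
  have hN0 : 0 < N := by
    rcases Nat.eq_zero_or_pos N with h | h
    · subst h; simp at hN
    · exact h
  have hinj : Function.Injective (algebraMap R Ω) := FaithfulSMul.algebraMap_injective R Ω
  refine joint_inj (algebraMap R (AK R lam N h)) AK.t (AK_exists_poly h hN0) (monic_psiPoly h hN0) AK.aeval_t
    {algebraMap R Ω} ?_ ?_ ?_ a ?_
  · intro c hc
    exact (map_eq_zero_iff _ hinj).mp (hc _ rfl)
  · rintro s rfl
    exact separable_psiPoly h _ (fun h0 => nonZeroDivisors.ne_zero h.nzd ((map_eq_zero_iff _ hinj).mp h0)) hN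
  · rintro s rfl x hx
    obtain ⟨z, hz⟩ := AK_exists_algHom h hN0 (B := Ω) x (by
      rw [IsRoot, eval_map] at hx
      exact hx)
    exact ⟨z.toRingHom, by ext r; exact z.commutes r, hz⟩
  · intro z hz
    exact ha ⟨z, fun r => congr($hz r)⟩

/-- Geometric points separate the elements of the tensor product. -/
lemma AK_tensor_sep [IsDomain R] {mu : R} (h : DivCond lam N) (h' : DivCond mu N) {Ω : Type*} [Field Ω] [IsAlgClosed Ω]
    [Algebra R Ω] [FaithfulSMul R Ω] (hN : (N : Ω) ≠ 0) (a : AK R mu N h' ⊗[R] AK R lam N h)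
    (ha : ∀ z : AK R mu N h' ⊗[R] AK R lam N h →ₐ[R] Ω, z a = 0) : a = 0 := by
  have hN0 : 0 < N := by
    rcases Nat.eq_zero_or_pos N with h | h
    · subst h; simp at hN
    · exact h
  have hinj : Function.Injective (algebraMap R Ω) := FaithfulSMul.algebraMap_injective R Ω
  let φ : AK R mu N h' →+* AK R mu N h' ⊗[R] AK R lam N h := algebraMap _ _
  have hφR (r : R) : φ (algebraMap R _ r) = algebraMap R _ r := rfl
  refine joint_inj φ (1 ⊗ₜ AK.t) (P := (psiPoly lam N h).map (algebraMap R _)) ?_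
    ((monic_psiPoly h hN0).map _) ?_ {s | ∀ r, s (algebraMap R _ r) = algebraMap R Ω r} ?_ ?_ ?_ a ?_
  · intro d
    induction d with
    | zero => exact ⟨0, by simp⟩
    | tmul b c =>
      obtain ⟨F, rfl⟩ := AK_exists_poly h hN0 c
      refine ⟨C b * F.map (algebraMap R _), ?_⟩
      rw [eval₂_mul, eval₂_C, eval₂_map]
      have e1 : (1 : AK R mu N h') ⊗ₜ[R] (aeval AK.t F : AK R lam N h) =
          eval₂ (φ.comp (algebraMap R _)) ((1 : AK R mu N h') ⊗ₜ[R] (AK.t : AK R lam N h)) F := by
        have := (aeval_algHom_apply (Algebra.TensorProduct.includeRight : AK R lam N h →ₐ[R] AK R mu N h' ⊗[R] AK R lam N h)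
          AK.t F).symm
        rw [Algebra.TensorProduct.includeRight_apply, Algebra.TensorProduct.includeRight_apply] at this
        rw [this]
        rfl
      rw [← e1]
      change _ = (b ⊗ₜ[R] (1 : AK R lam N h)) * _
      rw [Algebra.TensorProduct.tmul_mul_tmul, _root_.mul_one, _root_.one_mul]
    | add x y hx hy =>
      obtain ⟨F, hF⟩ := hx
      obtain ⟨F', hF'⟩ := hy
      exact ⟨F + F', by rw [eval₂_add, ← hF, ← hF']⟩
  · rw [eval₂_map]
    have := (aeval_algHom_apply (Algebra.TensorProduct.includeRight : AK R lam N h →ₐ[R] AK R mu N h' ⊗[R] AK R lam N h)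
          AK.t (psiPoly lam N h))
    rw [AK.aeval_t, map_zero] at this
    exact this
  · intro c hc
    refine AK_sep h' hN c (fun z => hc z.toRingHom (fun r => z.commutes r))
  · intro s hs
    rw [Polynomial.map_map]
    have : s.comp (algebraMap R _) = algebraMap R Ω := RingHom.ext hs
    rw [this]
    exact separable_psiPoly h _ (fun h0 => nonZeroDivisors.ne_zero h.nzd ((map_eq_zero_iff _ hinj).mp h0)) hN
  · intro s hs x hx
    have hs' : s.comp (algebraMap R _) = algebraMap R Ω := RingHom.ext hs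
    rw [Polynomial.map_map, hs'] at hx
    obtain ⟨z, hz⟩ := AK_exists_algHom h hN0 (B := Ω) x (by
      rw [IsRoot, eval_map] at hx
      exact hx)
    let s' : AK R mu N h' →ₐ[R] Ω := ⟨s, hs⟩
    refine ⟨(Algebra.TensorProduct.lift s' z (fun _ _ => Commute.all _ _)).toRingHom, ?_, ?_⟩
    · ext b
      change Algebra.TensorProduct.lift s' z (fun _ _ => Commute.all _ _) (b ⊗ₜ 1) = _
      rw [Algebra.TensorProduct.lift_tmul, map_one, _root_.mul_one]
      rfl
    · change Algebra.TensorProduct.lift s' z (fun _ _ => Commute.all _ _) (1 ⊗ₜ AK.t) = _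
      rw [Algebra.TensorProduct.lift_tmul, map_one, _root_.one_mul, hz]
  · intro z hz
    exact ha ⟨z, fun r => by
      have := hz r
      rw [RingHom.comp_apply, hφR] at this
      exact this⟩

end Alg

section Grp

/-- Homs between groups of exponents making them trivial. -/
lemma smul_eq_of_card {M H : Type*} [Group M] [Group H] [Finite H] [IsCyclic H] (p : ℕ) [hp : Fact p.Prime]
    (hH : Nat.card H = 1 ∨ Nat.card H = p) (hM : ∀ g : M, g ^ p = 1) (ρ : M →* MulAut H) (g : M) (x : H) : ρ g x = x := by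
  have h1 : ρ g ^ p = 1 := by rw [← map_pow, hM, map_one]
  have h2 : ρ g ^ (Nat.card (MulAut H)) = 1 := pow_card_eq_one'
  rw [IsCyclic.card_mulAut] at h2
  have h3 : Nat.Coprime p (Nat.totient (Nat.card H)) := by
    rcases hH with h | h
    · rw [h]; simp
    · rw [h, Nat.totient_prime hp.out]
      exact (Nat.coprime_self_sub_right hp.out.one_le).mpr (by simp)
  have h4 : ρ g = 1 := by
    rw [← orderOf_eq_one_iff]
    exact Nat.eq_one_of_dvd_coprimes h3 (orderOf_dvd_of_pow_eq_one h1) (orderOf_dvd_of_pow_eq_one h2)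
  rw [h4]; rfl

end Grp

section Act
variable {S : Scheme.{u}} {G X T : Over S} [GrpObj G]

lemma act_one (a : AlgGrp.Action G X) (x : T ⟶ X) : lift (1 : T ⟶ G) x ≫ a.act = x := by
  have h1 : lift (1 : T ⟶ G) x = lift (toUnit T) x ≫ (η[G] ▷ X) := by
    ext1 <;> simp [Hom.one_def]
  rw [h1, Category.assoc, a.one_act]
  simp

lemma act_mul (a : AlgGrp.Action G X) (g g' : T ⟶ G) (x : T ⟶ X) :
    lift (g * g') x ≫ a.act = lift g (lift g' x ≫ a.act) ≫ a.act := by
  have h1 : lift (g * g') x = lift (lift g g') x ≫ (μ[G] ▷ X) := by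
    ext1 <;> simp [Hom.mul_def]
  rw [h1, Category.assoc, a.mul_act, ← Category.assoc, lift_lift_associator_hom, ← Category.assoc]
  congr 1
  ext1 <;> simp

end Act

section Geom
variable {R : Type u} [CommRing R] {Ω : Type u} [Field Ω] [Algebra R Ω] {lam : R} {N : ℕ} {h : DivCond lam N}

variable (R Ω) in
/-- functions on `Spec Ω` -/
def gam : Γ(((Spec (CommRingCat.of Ω)).asOver (Spec (CommRingCat.of R))).left, ⊤) →+* Ω :=
  (Scheme.ΓSpecIso (CommRingCat.of Ω)).hom.hom

lemma gam_injective : Function.Injective (gam R Ω) :=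
  (ConcreteCategory.bijective_of_isIso (Scheme.ΓSpecIso (CommRingCat.of Ω)).hom).1

/-- the multiplicative character `1 + λ t` on points with values in a field -/
def chi : ((Spec (CommRingCat.of Ω)).asOver (Spec (CommRingCat.of R)) ⟶ GK R lam N h) →* Ω where
  toFun x := gam R Ω
    (1 + str ((Spec (CommRingCat.of Ω)).asOver (Spec (CommRingCat.of R))) lam * tk x)
  map_one' := by
    rw [tk_one, mul_zero, add_zero]
    exact map_one _
  map_mul' x y := by
    rw [← map_mul, tk_mul]
    congr 1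
    ring

lemma chi_injective (hlam : algebraMap R Ω lam ≠ 0) :
    Function.Injective (chi : ((Spec (CommRingCat.of Ω)).asOver (Spec (CommRingCat.of R)) ⟶ GK R lam N h) →* Ω) := by
  intro x y hxy
  have h1 := gam_injective hxy
  apply tk_ext
  rw [add_right_inj] at h1
  have h2 : str ((Spec (CommRingCat.of Ω)).asOver (Spec (CommRingCat.of R))) lam =
      (Scheme.ΓSpecIso (CommRingCat.of Ω)).inv.hom (algebraMap R Ω lam) := by
    rw [str]
    exact evS_SpecMap_apply (A := CommRingCat.of Ω) (algebraMap R Ω) lam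
  have h3 : IsUnit (str ((Spec (CommRingCat.of Ω)).asOver (Spec (CommRingCat.of R))) lam) := by
    rw [h2]
    exact (IsUnit.mk0 _ hlam).map _
  exact h3.mul_left_cancel h1

lemma chi_pow (x : (Spec (CommRingCat.of Ω)).asOver (Spec (CommRingCat.of R)) ⟶ GK R lam N h) : chi x ^ N = 1 := by
  change gam R Ω (_) ^ N = 1
  rw [← map_pow, tk_pow, map_one]

lemma pow_eq_one (hlam : algebraMap R Ω lam ≠ 0)
    (x : (Spec (CommRingCat.of Ω)).asOver (Spec (CommRingCat.of R)) ⟶ GK R lam N h) : x ^ N = 1 :=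
  chi_injective hlam (by rw [map_pow, chi_pow, map_one])

def chi' [NeZero N] : ((Spec (CommRingCat.of Ω)).asOver (Spec (CommRingCat.of R)) ⟶ GK R lam N h) →* rootsOfUnity N Ω :=
  (MonoidHom.toHomUnits chi).codRestrict (rootsOfUnity N Ω) (fun x => by
    rw [mem_rootsOfUnity, ← map_pow]
    ext
    rw [MonoidHom.coe_toHomUnits, map_pow, chi_pow]
    rfl)

lemma chi'_injective [NeZero N] (hlam : algebraMap R Ω lam ≠ 0) :
    Function.Injective (chi' : ((Spec (CommRingCat.of Ω)).asOver (Spec (CommRingCat.of R)) ⟶ GK R lam N h) →* _) := by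
  intro x y hxy
  apply chi_injective hlam
  exact congr((($hxy : rootsOfUnity N Ω) : Ωˣ).val)

lemma smul_geom [IsAlgClosed Ω] [CharZero Ω] {p : ℕ} [hp : Fact p.Prime] {mu : R} {h₁ : DivCond lam p} {h₂ : DivCond mu p}
    (hlam : algebraMap R Ω lam ≠ 0) (hmu : algebraMap R Ω mu ≠ 0)
    (a : AlgGrp.Action (GK R mu p h₂) (GK R lam p h₁))
    (hmul : ∀ (T : Over (Spec (CommRingCat.of R))) (g : T ⟶ GK R mu p h₂)
      (x y : T ⟶ GK R lam p h₁), lift g (x * y) ≫ a.act = (lift g x ≫ a.act) * (lift g y ≫ a.act))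
    (g : (Spec (CommRingCat.of Ω)).asOver (Spec (CommRingCat.of R)) ⟶ GK R mu p h₂)
    (x : (Spec (CommRingCat.of Ω)).asOver (Spec (CommRingCat.of R)) ⟶ GK R lam p h₁) :
    lift g x ≫ a.act = x := by
  have : NeZero p := ⟨hp.out.ne_zero⟩
  have hfin : Finite ((Spec (CommRingCat.of Ω)).asOver (Spec (CommRingCat.of R)) ⟶ GK R lam p h₁) :=
    Finite.of_injective _ (chi'_injective hlam)
  have hcyc : IsCyclic ((Spec (CommRingCat.of Ω)).asOver (Spec (CommRingCat.of R)) ⟶ GK R lam p h₁) :=
    isCyclic_of_injective_ringHom chi (chi_injective hlam)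
  have hcard : Nat.card ((Spec (CommRingCat.of Ω)).asOver (Spec (CommRingCat.of R)) ⟶ GK R lam p h₁) ∣ p := by
    have h1 := Subgroup.card_dvd_of_injective _ (chi'_injective (h := h₁) hlam)
    rwa [HasEnoughRootsOfUnity.natCard_rootsOfUnity] at h1
  let act (g : (Spec (CommRingCat.of Ω)).asOver (Spec (CommRingCat.of R)) ⟶ GK R mu p h₂) :
      ((Spec (CommRingCat.of Ω)).asOver (Spec (CommRingCat.of R)) ⟶ GK R lam p h₁) →
      ((Spec (CommRingCat.of Ω)).asOver (Spec (CommRingCat.of R)) ⟶ GK R lam p h₁) := fun x => lift g x ≫ a.act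
  let ρ : ((Spec (CommRingCat.of Ω)).asOver (Spec (CommRingCat.of R)) ⟶ GK R mu p h₂) →*
      MulAut ((Spec (CommRingCat.of Ω)).asOver (Spec (CommRingCat.of R)) ⟶ GK R lam p h₁) :=
    { toFun := fun g =>
        { toFun := fun x => lift g x ≫ a.act
          invFun := fun x => lift g⁻¹ x ≫ a.act
          left_inv := fun x => by
            change lift g⁻¹ (lift g x ≫ a.act) ≫ a.act = x
            rw [← act_mul, inv_mul_cancel, act_one]
          right_inv := fun x => by
            change lift g (lift g⁻¹ x ≫ a.act) ≫ a.act = x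
            rw [← act_mul, mul_inv_cancel, act_one]
          map_mul' := fun x y => hmul _ g x y }
      map_one' := by
        ext1 x
        exact act_one a x
      map_mul' := fun g g' => by
        ext1 x
        exact act_mul a g g' x }
  exact smul_eq_of_card p ((Nat.dvd_prime hp.out).mp hcard) (pow_eq_one hmu) ρ g x

end Geom

section Main
variable {R : Type u} [CommRing R] [IsDomain R] [CharZero R] {p : ℕ} [hp : Fact p.Prime]
  {lam mu : R} {h₁ : DivCond lam p} {h₂ : DivCond mu p}

theorem action_trivial (a : AlgGrp.Action (GK R mu p h₂) (GK R lam p h₁))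
    (hmul : ∀ (T : Over (Spec (CommRingCat.of R))) (g : T ⟶ GK R mu p h₂)
      (x y : T ⟶ GK R lam p h₁), lift g (x * y) ≫ a.act = (lift g x ≫ a.act) * (lift g y ≫ a.act))
    (T : Over (Spec (CommRingCat.of R))) (g : T ⟶ GK R mu p h₂) (x : T ⟶ GK R lam p h₁) :
    lift g x ≫ a.act = x := by
  let B := AK R mu p h₂ ⊗[R] AK R lam p h₁
  let Ω := AlgebraicClosure (FractionRing R)
  have : CharZero (FractionRing R) := charZero_of_injective_algebraMap (IsFractionRing.injective R (FractionRing R))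
  have : CharZero Ω := charZero_of_injective_algebraMap (algebraMap (FractionRing R) Ω).injective
  have hinj : Function.Injective (algebraMap R Ω) := by
    rw [IsScalarTower.algebraMap_eq R (FractionRing R) Ω]
    exact (algebraMap (FractionRing R) Ω).injective.comp (IsFractionRing.injective R (FractionRing R))
  have : FaithfulSMul R Ω := (faithfulSMul_iff_algebraMap_injective R Ω).mpr hinj
  have hne {r : R} (hr : r ∈ nonZeroDivisors R) : algebraMap R Ω r ≠ 0 :=
    fun h0 => nonZeroDivisors.ne_zero hr ((map_eq_zero_iff _ hinj).mp h0)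
  let U : Over (Spec (CommRingCat.of R)) := (Spec (CommRingCat.of B)).asOver (Spec (CommRingCat.of R))
  let κ₁ : U ⟶ GK R mu p h₂ := Over.homMk (Spec.map (CommRingCat.ofHom (Algebra.TensorProduct.includeLeft : _ →ₐ[R] B).toRingHom)) (by
    change Spec.map _ ≫ Spec.map (CommRingCat.ofHom (algebraMap R _)) = Spec.map (CommRingCat.ofHom (algebraMap R _))
    rw [← Spec.map_comp, ← CommRingCat.ofHom_comp]
    congr 2)
  let κ₂ : U ⟶ GK R lam p h₁ := Over.homMk (Spec.map (CommRingCat.ofHom (Algebra.TensorProduct.includeRight : _ →ₐ[R] B).toRingHom)) (by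
    change Spec.map _ ≫ Spec.map (CommRingCat.ofHom (algebraMap R _)) = Spec.map (CommRingCat.ofHom (algebraMap R _))
    rw [← Spec.map_comp, ← CommRingCat.ofHom_comp]
    congr 2
    exact (Algebra.TensorProduct.includeRight : _ →ₐ[R] B).comp_algebraMap)
  have key : lift κ₁ κ₂ ≫ a.act = κ₂ := by
    apply tk_ext
    rw [← sub_eq_zero]
    have hb := ConcreteCategory.bijective_of_isIso (Scheme.ΓSpecIso (CommRingCat.of B)).hom
    apply hb.1
    refine Eq.trans ?_ (map_zero (Scheme.ΓSpecIso (CommRingCat.of B)).hom.hom).symm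
    refine AK_tensor_sep (Ω := Ω) h₁ h₂ (by exact_mod_cast hp.out.ne_zero) _ (fun z => ?_)
    let Z : (Spec (CommRingCat.of Ω)).asOver (Spec (CommRingCat.of R)) ⟶ U :=
      Over.homMk (Spec.map (CommRingCat.ofHom z.toRingHom)) (by
        change Spec.map _ ≫ Spec.map (CommRingCat.ofHom (algebraMap R _)) = Spec.map (CommRingCat.ofHom (algebraMap R _))
        rw [← Spec.map_comp, ← CommRingCat.ofHom_comp]
        congr 2
        exact z.comp_algebraMap)
    have h1 (w : Γ(U.left, ⊤)) : z ((Scheme.ΓSpecIso (CommRingCat.of B)).hom.hom w) =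
        (Scheme.ΓSpecIso (CommRingCat.of Ω)).hom.hom (Z.left.appTop.hom w) := by
      have h3 := Scheme.ΓSpecIso_naturality (CommRingCat.ofHom z.toRingHom)
      exact (congr(CommRingCat.Hom.hom $h3 w)).symm
    refine (h1 _).trans ?_
    rw [map_sub, ← tk_comp, ← tk_comp]
    have h4 := smul_geom (Ω := Ω) (hne h₁.nzd) (hne h₂.nzd) a hmul (Z ≫ κ₁) (Z ≫ κ₂)
    rw [← comp_lift_assoc] at h4
    rw [h4, sub_self]
    exact map_zero _
  let q : T ⟶ U := ofEv (ev2 g x) (by
    ext r
    exact ev2_algebraMap g x r)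
  have hq1 : q ≫ κ₁ = g := by
    apply Pts.ext
    rw [ev_comp_right q κ₁ _ rfl, ev_ofEv]
    ext b
    change ev2 g x (b ⊗ₜ 1) = _
    rw [ev2_tmul, map_one, _root_.mul_one]
  have hq2 : q ≫ κ₂ = x := by
    apply Pts.ext
    rw [ev_comp_right q κ₂ _ rfl, ev_ofEv]
    ext b
    change ev2 g x (1 ⊗ₜ b) = _
    rw [ev2_tmul, map_one, _root_.one_mul]
  calc lift g x ≫ a.act = q ≫ lift κ₁ κ₂ ≫ a.act := by rw [comp_lift_assoc, hq1, hq2]
    _ = x := by rw [key, hq2]

end Main

end K831.ActTriv
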