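import Groth.Agent.SekSuwa.K831.Pts
import Groth.Agent.PrincBund.K826.Descend
import Groth.Agent.NonAbH1.K551.Tors
import Groth.Agent.CurvesA.Hilbert90Alg
import Groth.Agent.Sga3B.DSPts
import Groth.Prelude.Def_ActBC

/-!
Hilbert 90: torsors under a group whose points are the units are trivial locally for the Zariski topology.
-/

set_option autoImplicit false
universe u
open CategoryTheory MonoidalCategory CartesianMonoidalCategory MonObj GrpObj AlgebraicGeometry Limits
open scoped TensorProduct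
open K831.Pts Groth.Agent.Books.BorelOrb K551.Tors Groth.Agent.CurvesA.Hilbert90Alg

noncomputable section

namespace K831.H90

/-- An isomorphism of the functor of points with the functor of units. -/
structure Coord {X : Scheme.{u}} (G : Over X) [GrpObj G] where
  cr : ∀ {T : Over X}, (T ⟶ G) → Γ(T.left, ⊤)
  cr_comp : ∀ {T T' : Over X} (h : T' ⟶ T) (x : T ⟶ G), cr (h ≫ x) = h.left.appTop.hom (cr x)
  cr_mul : ∀ {T : Over X} (x y : T ⟶ G), cr (x * y) = cr x * cr y
  cr_one : ∀ {T : Over X}, cr (1 : T ⟶ G) = 1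
  cr_ext : ∀ {T : Over X} {x y : T ⟶ G}, cr x = cr y → x = y
  exists_cr : ∀ {T : Over X} (v : Γ(T.left, ⊤)), IsUnit v → ∃ x : T ⟶ G, cr x = v

lemma Coord.isUnit_cr {X : Scheme.{u}} {G : Over X} [GrpObj G] (c : Coord G) {T : Over X} (x : T ⟶ G) : IsUnit (c.cr x) :=
  IsUnit.of_mul_eq_one (c.cr x⁻¹) (by rw [← c.cr_mul, mul_inv_cancel, c.cr_one])

/-- `Spec C` as a scheme over `Spec A` -/
abbrev spo (A C : Type u) [CommRing A] [CommRing C] [Algebra A C] : Over (Spec (CommRingCat.of A)) :=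
  (Spec (CommRingCat.of C)).asOver (Spec (CommRingCat.of A))

section Inc
variable (A C : Type u) [CommRing A] [CommRing C] [Algebra A C]

/-- the canonical map to global sections of `Spec C` -/
def inc : C →+* Γ((spo A C).left, ⊤) := ev (𝟙 (spo A C))

lemma inc_bijective : Function.Bijective (inc A C) := by
  have h1 : inc A C = (Scheme.ΓSpecIso (CommRingCat.of C)).inv.hom := by
    change evS (𝟙 (Spec (CommRingCat.of C))) = _
    rw [evS, Scheme.Hom.id_appTop]
    rfl
  rw [h1]
  exact ConcreteCategory.bijective_of_isIso (Scheme.ΓSpecIso (CommRingCat.of C)).inv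

end Inc

section Pt
variable {A B C : Type u} [CommRing A] [CommRing B] [CommRing C] [Algebra A B] [Algebra A C]

/-- the point given by an algebra map -/
def pt (φ : B →ₐ[A] C) : spo A C ⟶ spo A B :=
  Over.homMk (Spec.map (CommRingCat.ofHom φ.toRingHom)) (by
    change Spec.map _ ≫ Spec.map (CommRingCat.ofHom (algebraMap A B)) = Spec.map (CommRingCat.ofHom (algebraMap A C))
    rw [← Spec.map_comp, ← CommRingCat.ofHom_comp]
    congr 2
    exact φ.comp_algebraMap)

lemma ev_comp_pt {T : Over (Spec (CommRingCat.of A))} (x : T ⟶ spo A C) (φ : B →ₐ[A] C) (b : B) :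
    ev (x ≫ pt φ) b = ev x (φ b) := by
  rw [ev_comp_right x (pt φ) φ.toRingHom rfl]; rfl

lemma ev_pt (φ : B →ₐ[A] C) (b : B) : ev (pt φ) b = inc A C (φ b) := by
  rw [inc, ← ev_comp_pt, Category.id_comp]

lemma str_spo (a : A) : str (spo A C) a = inc A C (algebraMap A C a) := by
  rw [inc, ev_algebraMap_apply]

lemma app_inc {T : Over (Spec (CommRingCat.of A))} (x : T ⟶ spo A C) (b : C) : x.left.appTop.hom (inc A C b) = ev x b := by
  rw [inc, ← ev_comp_apply, Category.comp_id]

lemma ev2_pt (θ : B ⊗[A] B →ₐ[A] C) (z : B ⊗[A] B) :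
    ev2 (pt (θ.comp Algebra.TensorProduct.includeLeft)) (pt (θ.comp Algebra.TensorProduct.includeRight)) z =
      inc A C (θ z) := by
  induction z using TensorProduct.induction_on with
  | zero => rw [map_zero, map_zero, map_zero]
  | tmul x y =>
    rw [ev2_tmul, ev_pt, ev_pt, ← map_mul]
    congr 1
    simp only [AlgHom.comp_apply, Algebra.TensorProduct.includeLeft_apply, Algebra.TensorProduct.includeRight_apply,
      ← map_mul, Algebra.TensorProduct.tmul_mul_tmul, _root_.mul_one, _root_.one_mul]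
  | add x y hx hy => rw [map_add, hx, hy, map_add, map_add]

/-- the point of `Spec (B ⊗ B)` given by a pair -/
def pair {T : Over (Spec (CommRingCat.of A))} (y1 y2 : T ⟶ spo A B) : T ⟶ spo A (B ⊗[A] B) :=
  ofEv (ev2 y1 y2) (by ext r; exact ev2_algebraMap y1 y2 r)

lemma ev_pair {T : Over (Spec (CommRingCat.of A))} (y1 y2 : T ⟶ spo A B) : ev (pair y1 y2) = ev2 y1 y2 := ev_ofEv _ _

lemma pair_left {T : Over (Spec (CommRingCat.of A))} (y1 y2 : T ⟶ spo A B) :
    pair y1 y2 ≫ pt Algebra.TensorProduct.includeLeft = y1 := by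
  apply Pts.ext
  ext b
  rw [ev_comp_pt, ev_pair, Algebra.TensorProduct.includeLeft_apply, ev2_tmul, map_one, _root_.mul_one]

lemma pair_right {T : Over (Spec (CommRingCat.of A))} (y1 y2 : T ⟶ spo A B) :
    pair y1 y2 ≫ pt Algebra.TensorProduct.includeRight = y2 := by
  apply Pts.ext
  ext b
  rw [ev_comp_pt, ev_pair, Algebra.TensorProduct.includeRight_apply, ev2_tmul, map_one, _root_.one_mul]

end Pt

section Affine
variable {A B : Type u} [CommRing A] [CommRing B] [Algebra A B] {G Q : Over (Spec (CommRingCat.of A))} [GrpObj G]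
  (c : Coord G) {b : AlgGrp.Action G Q} (hb : NonAbH1.IsPseudoTorsorSch b) (e : Q ≅ spo A B)

/-- the universal difference, as a point -/
def uniPt : spo A (B ⊗[A] B) ⟶ G :=
  dif hb (pt (Algebra.TensorProduct.includeLeft : B →ₐ[A] B ⊗[A] B) ≫ e.inv)
    (pt (Algebra.TensorProduct.includeRight : B →ₐ[A] B ⊗[A] B) ≫ e.inv)

/-- the universal difference -/
def uni : B ⊗[A] B := Function.surjInv (inc_bijective A (B ⊗[A] B)).2 (c.cr (uniPt hb e))

lemma inc_uni : inc A _ (uni c hb e) = c.cr (uniPt hb e) := Function.surjInv_eq _ _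

lemma isUnit_uni : IsUnit (uni c hb e) := by
  have h1 := c.isUnit_cr (uniPt hb e)
  rw [← inc_uni] at h1
  let E : (B ⊗[A] B) ≃+* Γ((spo A (B ⊗[A] B)).left, ⊤) := RingEquiv.ofBijective _ (inc_bijective A (B ⊗[A] B))
  have h2 := h1.map E.symm
  have h3 : E.symm (inc A _ (uni c hb e)) = uni c hb e := E.symm_apply_apply (uni c hb e)
  rwa [h3] at h2

lemma cr_dif {T : Over (Spec (CommRingCat.of A))} (y1 y2 : T ⟶ Q) :
    c.cr (dif hb y1 y2) = ev2 (y1 ≫ e.hom) (y2 ≫ e.hom) (uni c hb e) := by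
  have h1 : y1 = pair (y1 ≫ e.hom) (y2 ≫ e.hom) ≫ pt Algebra.TensorProduct.includeLeft ≫ e.inv := by
    rw [← Category.assoc, pair_left, Category.assoc, Iso.hom_inv_id, Category.comp_id]
  have h2 : y2 = pair (y1 ≫ e.hom) (y2 ≫ e.hom) ≫ pt Algebra.TensorProduct.includeRight ≫ e.inv := by
    rw [← Category.assoc, pair_right, Category.assoc, Iso.hom_inv_id, Category.comp_id]
  rw [← ev_pair, ← app_inc, inc_uni, ← c.cr_comp, uniPt, comp_dif, ← h1, ← h2]

lemma cr_dif_pt {C : Type u} [CommRing C] [Algebra A C] (θ : B ⊗[A] B →ₐ[A] C) :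
    c.cr (dif hb (pt (θ.comp Algebra.TensorProduct.includeLeft) ≫ e.inv)
      (pt (θ.comp Algebra.TensorProduct.includeRight) ≫ e.inv)) = inc A C (θ (uni c hb e)) := by
  rw [cr_dif c hb e, Category.assoc, Category.assoc, Iso.inv_hom_id, Category.comp_id, Category.comp_id, ev2_pt]

lemma uni_cocycle : i12 A B (uni c hb e) * i23 A B (uni c hb e) = i13 A B (uni c hb e) := by
  apply (inc_bijective A _).1
  have e1 : (i12 A B).comp Algebra.TensorProduct.includeRight = (i23 A B).comp Algebra.TensorProduct.includeLeft := by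
    ext x
    simp [i12, i23]
  have e2 : (i13 A B).comp Algebra.TensorProduct.includeRight = (i23 A B).comp Algebra.TensorProduct.includeRight := by
    ext x
    simp [i13, i23]
  have e3 : (i13 A B).comp Algebra.TensorProduct.includeLeft = (i12 A B).comp Algebra.TensorProduct.includeLeft := by
    ext x
    simp [i13, i12, Algebra.TensorProduct.one_def]
  rw [map_mul, ← cr_dif_pt, ← cr_dif_pt, ← cr_dif_pt, ← c.cr_mul, e1, e2, e3, dif_mul_dif]

lemma lmul_uni : Algebra.TensorProduct.lmul' A (S := B) (uni c hb e) = 1 := by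
  apply (inc_bijective A _).1
  have e1 : (Algebra.TensorProduct.lmul' A (S := B)).comp Algebra.TensorProduct.includeLeft =
      (Algebra.TensorProduct.lmul' A (S := B)).comp Algebra.TensorProduct.includeRight := by
    ext x
    simp
  rw [← cr_dif_pt, e1, dif_self, c.cr_one, map_one]

lemma cr_mul_ev {m : B} (hm : uni c hb e * (m ⊗ₜ 1) = 1 ⊗ₜ m) {T : Over (Spec (CommRingCat.of A))} (y1 y2 : T ⟶ Q) :
    c.cr (dif hb y1 y2) * ev (y1 ≫ e.hom) m = ev (y2 ≫ e.hom) m := by
  have h1 := congr(ev2 (y1 ≫ e.hom) (y2 ≫ e.hom) $hm)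
  rw [map_mul, ← cr_dif, ev2_tmul, ev2_tmul, map_one, map_one, _root_.mul_one, _root_.one_mul] at h1
  exact h1

include c hb e in
/-- Hilbert 90 over an affine base. -/
theorem exists_local_section_affine {K : Precoverage Scheme.{u}} (hK : K ≤ Scheme.fpqcPrecoverage)
    (hl : NonAbH1.IsLocallyTrivialFor K Q) [Module.Flat A B] (hs : Function.Surjective (PrimeSpectrum.comap (algebraMap A B)))
    (x : PrimeSpectrum A) :
    ∃ g : A, x ∈ PrimeSpectrum.basicOpen g ∧ Nonempty (spo A (Localization.Away g) ⟶ Q) := by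
  obtain ⟨q, hq⟩ := hs x
  have h1 := span_eq_top (uni c hb e) (uni_cocycle c hb e) (lmul_uni c hb e)
  obtain ⟨m, hm, hmq⟩ : ∃ m : B, uni c hb e * (m ⊗ₜ 1) = 1 ⊗ₜ m ∧ m ∉ q.asIdeal := by
    by_contra hcon
    push Not at hcon
    have : Ideal.span {m : B | uni c hb e * (m ⊗ₜ 1) = 1 ⊗ₜ m} ≤ q.asIdeal := Ideal.span_le.mpr hcon
    rw [h1] at this
    exact q.isPrime.ne_top (top_le_iff.mp this)
  have hsat := fun (q q' : PrimeSpectrum B) => mem_iff_mem (uni c hb e) (isUnit_uni c hb e) m hm q q'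
  let V : Set (PrimeSpectrum A) := PrimeSpectrum.comap (algebraMap A B) '' (PrimeSpectrum.basicOpen m : Set (PrimeSpectrum B))
  have hV : PrimeSpectrum.comap (algebraMap A B) ⁻¹' V = PrimeSpectrum.basicOpen m := by
    ext q'
    constructor
    · rintro ⟨q'', hq'', he⟩ hmem
      exact hq'' ((hsat q'' q' he).mpr hmem)
    · exact fun h => ⟨q', h, rfl⟩
  have hVo : IsOpen V := by
    have h2 : Topology.IsQuotientMap (PrimeSpectrum.comap (algebraMap A B)) :=
      PrimeSpectrum.isQuotientMap_of_generalizingMap hs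
        (RingHom.Flat.generalizingMap_comap (RingHom.flat_algebraMap_iff.mpr inferInstance))
    rw [← h2.isOpen_preimage, hV]
    exact (PrimeSpectrum.basicOpen m).isOpen
  have hxV : x ∈ V := ⟨q, hmq, hq⟩
  obtain ⟨_, ⟨g, rfl⟩, hxg, hgV⟩ := PrimeSpectrum.isTopologicalBasis_basic_opens.exists_subset_of_mem_open hxV hVo
  refine ⟨g, hxg, ?_⟩
  have hrad : algebraMap A B g ∈ (Ideal.span {m}).radical := by
    rw [← PrimeSpectrum.basicOpen_le_basicOpen_iff]
    intro q' hq'
    have : q' ∈ PrimeSpectrum.comap (algebraMap A B) ⁻¹' V := hgV hq'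
    rw [hV] at this
    exact this
  obtain ⟨n, hn⟩ := hrad
  obtain ⟨m', hm'⟩ := Ideal.mem_span_singleton.mp hn
  let W := spo A (Localization.Away g)
  have hunit {T : Over (Spec (CommRingCat.of A))} (t : T ⟶ W) (y : T ⟶ Q) : IsUnit (ev (y ≫ e.hom) m) := by
    have h3 : IsUnit (str T g) := by
      rw [← ev_algebraMap_apply t g]
      exact (IsLocalization.Away.algebraMap_isUnit g).map _
    have h4 : str T g ^ n = ev (y ≫ e.hom) m * ev (y ≫ e.hom) m' := by
      rw [← map_mul, ← hm', map_pow, ev_algebraMap_apply]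
    exact isUnit_of_mul_isUnit_left (h4 ▸ h3.pow n)
  choose F hF using fun (T : Over (Spec (CommRingCat.of A))) (t : T ⟶ W) (y : T ⟶ Q) => c.exists_cr _ (hunit t y)
  obtain ⟨s, -, -⟩ := K826.Descend.existsUnique_glue hK hl (T := W) (Y := Q) (fun T t y => sm b (F T t y) y)
    (fun T' T'' r t y => by
      rw [comp_sm]
      congr 1
      apply c.cr_ext
      rw [c.cr_comp, hF, hF, Category.assoc, ← ev_comp_apply])
    (fun T t y y' => by
      have h3 : F T t y' = F T t y * dif hb y y' := by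
        apply c.cr_ext
        rw [c.cr_mul, hF, hF, mul_comm, cr_mul_ev c hb e hm]
      rw [h3, mul_sm, sm_dif])
  exact ⟨s⟩

end Affine

set_option backward.isDefEq.respectTransparency.types false in
lemma isAffineHom_bc {S S' : Scheme.{u}} (c : S' ⟶ S) (G : Over S) [IsAffineHom G.hom] : IsAffineHom (Red.bc c G).hom :=
  MorphismProperty.pullback_snd (P := @IsAffineHom) G.hom c inferInstance

section AffIso
variable {A : Type u} [CommRing A] (Q : Over (Spec (CommRingCat.of A))) [IsAffine Q.left]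

/-- the functions on `Q` -/
def Fn : Type u := Γ(Q.left, ⊤)

instance : CommRing (Fn Q) := inferInstanceAs (CommRing Γ(Q.left, ⊤))

instance : Algebra A (Fn Q) := (str Q).toAlgebra

/-- `Q` as the spectrum of its functions -/
def affIso : Q ≅ spo A (Fn Q) :=
  Over.isoMk Q.left.isoSpec (by
    change Q.left.toSpecΓ ≫ Spec.map (CommRingCat.ofHom (evS Q.hom)) = Q.hom
    exact mkS_evS Q.hom)

lemma SpecMap_Fn : (Spec.map (CommRingCat.ofHom (algebraMap A (Fn Q))) : Spec (CommRingCat.of (Fn Q)) ⟶ _) =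
    Q.left.isoSpec.inv ≫ Q.hom := (Over.w (affIso Q).inv).symm

lemma flat_Fn [Flat Q.hom] : Module.Flat A (Fn Q) := by
  have h2 : Flat (Spec.map (CommRingCat.ofHom (algebraMap A (Fn Q)))) := by
    rw [SpecMap_Fn]
    exact inferInstanceAs (Flat (Q.left.isoSpec.inv ≫ Q.hom))
  rw [Flat.SpecMap_iff] at h2
  exact RingHom.flat_algebraMap_iff.mp h2

lemma surjective_Fn [Surjective Q.hom] : Function.Surjective (PrimeSpectrum.comap (algebraMap A (Fn Q))) := by
  have h2 : Surjective (Spec.map (CommRingCat.ofHom (algebraMap A (Fn Q)))) := by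
    rw [SpecMap_Fn]
    exact inferInstanceAs (Surjective (Q.left.isoSpec.inv ≫ Q.hom))
  exact h2.surj

end AffIso

section Glob
variable {X : Scheme.{u}} {G : Over X} [GrpObj G]

/-- coordinates of a base change -/
def Coord.bc (c : Coord G) {Y : Scheme.{u}} (ρ : Y ⟶ X) : Coord (Red.bc ρ G) where
  cr {T} x := c.cr ((Groth.Agent.Sga3B.DSPts.bcEquiv ρ T G).symm x)
  cr_comp {T T'} h x := by
    rw [← Groth.Agent.Sga3B.DSPts.bcEquiv_symm_naturality, c.cr_comp]
    rfl
  cr_mul x y := by rw [map_mul, c.cr_mul]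
  cr_one {T} := by rw [map_one, c.cr_one]
  cr_ext h := (Groth.Agent.Sga3B.DSPts.bcEquiv ρ _ G).symm.injective (c.cr_ext h)
  exists_cr {T} v hv := by
    obtain ⟨x, hx⟩ := c.exists_cr (T := (Over.map ρ).obj T) v hv
    exact ⟨Groth.Agent.Sga3B.DSPts.bcEquiv ρ T G x, by rw [MulEquiv.symm_apply_apply, hx]⟩

/-- **Hilbert 90**: a torsor under a group whose points are the units has sections locally for the Zariski topology. -/
theorem exists_local_section (c : Coord G) {Q : Over X} {b : AlgGrp.Action G Q} (hb : NonAbH1.IsPseudoTorsorSch b)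
    {K : Precoverage Scheme.{u}} [K.IsStableUnderBaseChange] (hK : K ≤ Scheme.fpqcPrecoverage)
    (hl : NonAbH1.IsLocallyTrivialFor K Q) [Flat Q.hom] [Surjective Q.hom] [IsAffineHom Q.hom] (x : X) :
    ∃ (A : Type u) (_ : CommRing A) (ρ : Spec (CommRingCat.of A) ⟶ X), IsOpenImmersion ρ ∧ x ∈ Set.range ρ ∧
      Nonempty (Over.mk ρ ⟶ Q) := by
  obtain ⟨V, hV, hxV, -⟩ := exists_isAffineOpen_mem_and_subset (x := x) (U := ⊤) trivial
  let A0 : Type u := Γ(X, V)
  let ρ : Spec (CommRingCat.of A0) ⟶ X := hV.fromSpec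
  have hρ : IsOpenImmersion ρ := inferInstanceAs (IsOpenImmersion hV.fromSpec)
  have hx : x ∈ Set.range ρ := by
    have := hV.range_fromSpec
    change x ∈ Set.range hV.fromSpec
    rw [this]
    exact hxV
  obtain ⟨x0, rfl⟩ := hx
  let Q0 : Over (Spec (CommRingCat.of A0)) := Red.bc ρ Q
  have h1 : IsAffineHom Q0.hom := isAffineHom_bc ρ Q
  have h2 : IsAffine Q0.left := isAffine_of_isAffineHom Q0.hom
  have h3 : Flat Q0.hom := inferInstanceAs (Flat (pullback.snd Q.hom ρ))
  have h4 : Surjective Q0.hom := inferInstanceAs (Surjective (pullback.snd Q.hom ρ))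
  have h5 := flat_Fn Q0
  obtain ⟨g, hg, ⟨s⟩⟩ := exists_local_section_affine (c.bc ρ) (NonAbH1.isPseudoTorsorSch_bc ρ hb) (affIso Q0) hK
    (NonAbH1.isLocallyTrivialFor_bc ρ K hl) (surjective_Fn Q0) x0
  let j : Spec (CommRingCat.of (Localization.Away g)) ⟶ Spec (CommRingCat.of A0) :=
    Spec.map (CommRingCat.ofHom (algebraMap A0 (Localization.Away g)))
  have hj : IsOpenImmersion j := inferInstanceAs (IsOpenImmersion (Spec.map (CommRingCat.ofHom (algebraMap A0 (Localization.Away g)))))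
  refine ⟨Localization.Away g, inferInstance, j ≫ ρ, inferInstance, ?_, ⟨Over.homMk (s.left ≫ pullback.fst Q.hom ρ) ?_⟩⟩
  · obtain ⟨z, hz⟩ : x0 ∈ Set.range j := by
      have h6 := PrimeSpectrum.localization_away_comap_range (Localization.Away g) g
      have h7 : x0 ∈ Set.range (PrimeSpectrum.comap (algebraMap A0 (Localization.Away g))) := by
        rw [h6]
        exact hg
      exact h7
    exact ⟨z, by rw [← hz]; rfl⟩
  · have h6 : s.left ≫ pullback.snd Q.hom ρ = j := Over.w s
    change (s.left ≫ pullback.fst Q.hom ρ) ≫ Q.hom = j ≫ ρ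
    rw [Category.assoc, pullback.condition, ← Category.assoc, h6]
    rfl

end Glob

end K831.H90
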