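import Groth.Agent.SekSuwa.K831.PushGm
import Groth.Agent.SekSuwa.K831.H90

/-!
Torsors under `G^(λ)` over a flat `X` are locally trivial for the Zariski topology.
-/

set_option autoImplicit false
universe u
open CategoryTheory MonoidalCategory CartesianMonoidalCategory MonObj GrpObj AlgebraicGeometry Limits
open scoped TensorProduct
open SekSuwa K831.Pts K831.GPts K831.FlatPts K831.BcPts Groth.Agent.Books.BorelOrb K551.Tors K831.PushGm

noncomputable section

namespace K831.ZarA1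

section Aff
variable {X : Scheme.{u}} {A C : Type u} [CommRing A] [CommRing C] (ρ : Spec (CommRingCat.of A) ⟶ X) {T T' : Over X}

/-- the ring homomorphism of a point of an affine `X`-scheme -/
def evV {ρ : Spec (CommRingCat.of A) ⟶ X} (t : T ⟶ Over.mk ρ) : A →+* Γ(T.left, ⊤) :=
  evS (show T.left ⟶ Spec (CommRingCat.of A) from t.left)

variable {ρ} in
lemma evV_comp (s : T' ⟶ T) (t : T ⟶ Over.mk ρ) (b : A) : evV (s ≫ t) b = s.left.appTop.hom (evV t b) :=
  congr($(evS_comp s.left (show T.left ⟶ Spec (CommRingCat.of A) from t.left)) b)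

variable {ρ} in
lemma evV_ext {t t' : T ⟶ Over.mk ρ} (h : evV t = evV t') : t = t' := by
  ext1
  exact evS_injective h

/-- a map of affine `X`-schemes -/
def proj (φ : A →+* C) : Over.mk (Spec.map (CommRingCat.ofHom φ) ≫ ρ) ⟶ Over.mk ρ :=
  Over.homMk (Spec.map (CommRingCat.ofHom φ))

lemma evV_proj (φ : A →+* C) (z : T ⟶ Over.mk (Spec.map (CommRingCat.ofHom φ) ≫ ρ)) :
    evV (z ≫ proj ρ φ) = (evV z).comp φ :=
  evS_comp_SpecMap (show T.left ⟶ Spec (CommRingCat.of C) from z.left) φ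

lemma exists_factor (φ : A →+* C) (t : T ⟶ Over.mk ρ) (ψ : C →+* Γ(T.left, ⊤)) (h : ψ.comp φ = evV t) :
    ∃ z : T ⟶ Over.mk (Spec.map (CommRingCat.ofHom φ) ≫ ρ), z ≫ proj ρ φ = t := by
  have h1 : (mkS ψ : T.left ⟶ Spec (CommRingCat.of C)) ≫ Spec.map (CommRingCat.ofHom φ) = t.left := by
    apply evS_injective
    rw [evS_comp_SpecMap, evS_mkS, h]
    rfl
  refine ⟨Over.homMk (mkS ψ) ?_, ?_⟩
  · change mkS ψ ≫ Spec.map (CommRingCat.ofHom φ) ≫ ρ = T.hom
    rw [← Category.assoc, h1]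
    exact Over.w t
  · ext1
    exact h1

/-- the tautological functions on `Spec C` -/
def incV {σ : Spec (CommRingCat.of C) ⟶ X} : C →+* Γ((Over.mk σ).left, ⊤) := evV (𝟙 (Over.mk σ))

lemma evV_eq {σ : Spec (CommRingCat.of C) ⟶ X} (t : T ⟶ Over.mk σ) (b : C) : evV t b = t.left.appTop.hom (incV b) := by
  rw [incV, ← evV_comp, Category.comp_id]

lemma incV_surjective {σ : Spec (CommRingCat.of C) ⟶ X} : Function.Surjective (incV : C →+* Γ((Over.mk σ).left, ⊤)) := by
  have h1 : (incV : C →+* Γ((Over.mk σ).left, ⊤)) = (Scheme.ΓSpecIso (CommRingCat.of C)).inv.hom := by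
    change evS (𝟙 (Spec (CommRingCat.of C))) = _
    rw [evS, Scheme.Hom.id_appTop]
    rfl
  rw [h1]
  exact (ConcreteCategory.bijective_of_isIso (Scheme.ΓSpecIso (CommRingCat.of C)).inv).2

lemma isUnit_of_incV {σ : Spec (CommRingCat.of C) ⟶ X} {c : C} (h : IsUnit (incV c : Γ((Over.mk σ).left, ⊤))) : IsUnit c := by
  have h1 : (incV : C →+* Γ((Over.mk σ).left, ⊤)) = (Scheme.ΓSpecIso (CommRingCat.of C)).inv.hom := by
    change evS (𝟙 (Spec (CommRingCat.of C))) = _
    rw [evS, Scheme.Hom.id_appTop]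
    rfl
  rw [h1] at h
  have h2 := h.map (Scheme.ΓSpecIso (CommRingCat.of C)).hom.hom
  rwa [← CommRingCat.comp_apply, Iso.inv_hom_id] at h2

end Aff

variable {R : Type u} [CommRing R] {X : Scheme.{u}} (f : X ⟶ Spec (CommRingCat.of R)) {lam : R}
  {P : Over X} {a : AlgGrp.Action (Red.bc f (G R lam)) P} (hP : NonAbH1.IsTorsorFor Scheme.fppfPrecoverage a)

/-- the units of `𝔾_m` -/
def coordGm : H90.Coord (Red.bc f (Red.diag R ℤ)) where
  cr x := chb f x 1
  cr_comp h x := chb_comp f h x 1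
  cr_mul x y := chb_mul f x y 1
  cr_one := chb_one f 1
  cr_ext h := chbGm_ext f h
  exists_cr v hv := exists_chbGm f v hv

/-- the structure homomorphism of an affine `X`-scheme -/
def kap {A : Type u} [CommRing A] (ρ : Spec (CommRingCat.of A) ⟶ X) : R →+* A := (Spec.preimage (ρ ≫ f)).hom

lemma evV_kap {A : Type u} [CommRing A] {ρ : Spec (CommRingCat.of A) ⟶ X} {T : Over X} (t : T ⟶ Over.mk ρ) (r : R) :
    evV t (kap f ρ r) = sr f T r := by
  have h1 : Spec.map (CommRingCat.ofHom (kap f ρ)) = ρ ≫ f := Spec.map_preimage (ρ ≫ f)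
  have h2 := evS_comp_SpecMap (show T.left ⟶ Spec (CommRingCat.of A) from t.left) (kap f ρ)
  rw [h1, ← Category.assoc] at h2
  have h3 : (show T.left ⟶ Spec (CommRingCat.of A) from t.left) ≫ ρ = T.hom := Over.w t
  rw [h3] at h2
  exact congr($h2 r).symm

include hP in
theorem exists_section_nhds [Flat f] (hlam : lam ∈ nonZeroDivisors R) (x : X) :
    ∃ (W : Scheme.{u}) (σ : W ⟶ X), IsOpenImmersion σ ∧ x ∈ Set.range σ ∧ NonAbH1.HasSectionOver P σ := by
  obtain ⟨Q, b, q, hb, hq⟩ := exists_push f hP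
  have i1 : IsAffineHom (Red.bc f (Red.diag R ℤ)).hom := by
    have : IsAffineHom (Red.diag R ℤ).hom :=
      inferInstanceAs (IsAffineHom (Spec.map (CommRingCat.ofHom (algebraMap R (MonoidAlgebra R (Multiplicative ℤ))))))
    exact PushGm.isAffineHom_bc f _
  have i2 : Flat (Red.bc f (Red.diag R ℤ)).hom := by
    have : Flat (Red.diag R ℤ).hom := by
      change Flat (Spec.map (CommRingCat.ofHom (algebraMap R (MonoidAlgebra R (Multiplicative ℤ)))))
      rw [Flat.SpecMap_iff]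
      exact RingHom.flat_algebraMap_iff.mpr inferInstance
    exact inferInstanceAs (Flat (pullback.snd (Red.diag R ℤ).hom f))
  have j1 : IsAffineHom Q.hom := isAffineHom_of_torsor hb
  have j2 : Flat Q.hom := flat_of_torsor hb
  have j3 : Surjective Q.hom := surjective_of_torsor hb
  obtain ⟨A, _, ρ, hρ, ⟨x0, rfl⟩, ⟨y⟩⟩ := H90.exists_local_section (coordGm f) hb.1
    Scheme.fppfPrecoverage_le_fpqcPrecoverage hb.2 x
  let l : A := kap f ρ lam
  let I : Ideal A := Ideal.span {l}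
  let φ : A →+* A ⧸ I := Ideal.Quotient.mk I
  let T1 : Over X := Over.mk (Spec.map (CommRingCat.ofHom φ) ≫ ρ)
  have hT1 : sr f T1 lam = 0 := by
    rw [← evV_kap f (proj ρ φ), ← Category.id_comp (proj ρ φ), evV_proj, RingHom.comp_apply]
    have : φ l = 0 := Ideal.Quotient.eq_zero_iff_mem.mpr (Ideal.mem_span_singleton_self _)
    rw [this, map_zero]
  obtain ⟨h, hh⟩ := exists_mod f hP hb.1 q hq hT1 (proj ρ φ ≫ y)
  obtain ⟨u, hu⟩ := incV_surjective (σ := Spec.map (CommRingCat.ofHom φ) ≫ ρ) (chb f h 1)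
  have hu1 : IsUnit u := isUnit_of_incV (hu ▸ isUnit_chb f h 1)
  obtain ⟨a0, rfl⟩ := Ideal.Quotient.mk_surjective u
  obtain ⟨g, hg, hgx⟩ : ∃ g : A, φ g = φ a0 ∧ g ∉ x0.asIdeal := by
    by_cases ha : a0 ∈ x0.asIdeal
    · refine ⟨a0 + l, ?_, fun hal => ?_⟩
      · rw [map_add, Ideal.Quotient.eq_zero_iff_mem.mpr (Ideal.mem_span_singleton_self l), add_zero]
      · have hl : l ∈ x0.asIdeal := (Ideal.add_mem_iff_right _ ha).mp hal
        obtain ⟨v, hv⟩ := hu1.exists_right_inv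
        obtain ⟨v, rfl⟩ := Ideal.Quotient.mk_surjective v
        rw [← map_mul, ← map_one (Ideal.Quotient.mk I), Ideal.Quotient.eq] at hv
        have h1 : I ≤ x0.asIdeal := by
          rw [Ideal.span_le]
          rintro _ rfl
          exact hl
        have h2 : (1 : A) ∈ x0.asIdeal := by
          have h3 := Ideal.sub_mem _ (Ideal.mul_mem_right v _ ha) (h1 hv)
          rwa [sub_sub_cancel] at h3
        exact x0.isPrime.ne_top ((Ideal.eq_top_iff_one _).mpr h2)
    · exact ⟨a0, rfl, ha⟩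
  let ψ : A →+* Localization.Away g := algebraMap A _
  let W : Over X := Over.mk (Spec.map (CommRingCat.ofHom ψ) ≫ ρ)
  have hj : IsOpenImmersion (Spec.map (CommRingCat.ofHom ψ)) :=
    inferInstanceAs (IsOpenImmersion (Spec.map (CommRingCat.ofHom (algebraMap A (Localization.Away g)))))
  have hW : IsOpenImmersion W.hom := inferInstanceAs (IsOpenImmersion (Spec.map (CommRingCat.ofHom ψ) ≫ ρ))
  obtain ⟨w0, hw0⟩ := exists_chbGm f (T := W) (incV (ψ g)) ((IsLocalization.Away.algebraMap_isUnit g).map _)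
  obtain ⟨s⟩ := exists_point f hP hb.1 q hq hlam (V := W) (sm b w0 (proj ρ ψ ≫ y)) (by
    intro T hT t x
    obtain ⟨z, hz⟩ := exists_factor ρ φ (t ≫ proj ρ ψ) (Ideal.Quotient.lift I (evV (t ≫ proj ρ ψ)) (fun r hr => by
      obtain ⟨c, rfl⟩ := Ideal.mem_span_singleton.mp hr
      rw [map_mul, evV_kap, hT, zero_mul])) (by ext r; rfl)
    rw [hh T z x, comp_sm, ← Category.assoc, ← Category.assoc, hz]
    congr 1
    apply chbGm_ext f
    rw [chb_comp, chb_comp, hw0, ← hu, ← evV_eq, ← evV_eq]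
    have e1 := congr($(evV_proj ρ φ z) g)
    have e2 := congr($(evV_proj ρ ψ t) g)
    rw [hz] at e1
    rw [RingHom.comp_apply] at e1 e2
    rw [← hg, ← e1, e2])
  refine ⟨_, W.hom, hW, ?_, s.left, Over.w s⟩
  obtain ⟨z, hz⟩ : x0 ∈ Set.range (Spec.map (CommRingCat.ofHom ψ)) := by
    have h6 := PrimeSpectrum.localization_away_comap_range (Localization.Away g) g
    have h7 : x0 ∈ Set.range (PrimeSpectrum.comap (algebraMap A (Localization.Away g))) := by
      rw [h6]
      exact hgx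
    exact h7
  exact ⟨z, by rw [← hz]; rfl⟩

include hP in
theorem isTorsorFor_zariski [Flat f] (hlam : lam ∈ nonZeroDivisors R) : NonAbH1.IsTorsorFor Scheme.zariskiPrecoverage a := by
  refine ⟨hP.1, ?_⟩
  choose W σ hσ hx hs using fun x => exists_section_nhds f hP hlam x
  refine ⟨Presieve.ofArrows W σ, ?_, ?_⟩
  · rw [Scheme.zariskiPrecoverage, Scheme.ofArrows_mem_precoverage_iff]
    exact ⟨fun x => ⟨x, hx x⟩, hσ⟩
  · rintro _ _ ⟨x⟩
    exact hs x

end K831.ZarA1
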