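import Groth.Agent.SekSuwa.K831.ExtKer
import Groth.Prelude.Def_NonAbH2
import Groth.Prelude.Def_Mor2
import Mathlib.GroupTheory.Sylow
import Mathlib.GroupTheory.SpecificGroups.Cyclic
import Mathlib.AlgebraicGeometry.Sites.Fpqc

/-!
Finite flat group schemes of order `p²` with constant generic fibre are extensions of `G_{μ,1}` by `G_{λ,1}`.
-/

set_option autoImplicit false
universe u
open CategoryTheory MonoidalCategory CartesianMonoidalCategory MonObj GrpObj AlgebraicGeometry Limits
open scoped TensorProduct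
open SekSuwa K831.Pts K831.GPts K831.BcPts K831.Core K831.Kernel K831.RankP K831.GenFib K831.OrdP K831.ExtFlat K831.ExtKer
  Groth.Agent.Sga3B.AffTest Groth.Agent.Sga3B.DSPts

noncomputable section

namespace K831.ExtMain

section Exact
variable {S : Scheme.{u}} {G' G G'' : Over S} [GrpObj G'] [GrpObj G] [GrpObj G'']

omit [GrpObj G'] in
theorem whisker_mul (u : G' ⟶ G) : (G ◁ u) ≫ μ[G] = fst G G' * (snd G G' ≫ u) := by
  rw [Hom.mul_def]
  congr 1

/-- exactness from points, fppf topology -/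
theorem isExactSeq_fppf (u : G' ⟶ G) (v : G ⟶ G'') [hu : IsMonHom u] [hv : IsMonHom v]
    (h1 : u ≫ v = 1) (h2 : ∀ (T : Over S) (x : T ⟶ G), x ≫ v = 1 → ∃ z : T ⟶ G', z ≫ u = x)
    [hm : Mono u] [Flat v.left] [Surjective v.left] [LocallyOfFinitePresentation v.left] :
    NonAbH1.IsExactSeq Scheme.fppfPrecoverage u v := by
  have hmulv : ∀ {T : Over S} (x y : T ⟶ G), (x * y) ≫ v = (x ≫ v) * (y ≫ v) := fun x y =>
    MonObj.mul_comp x y v
  have hinvv : ∀ {T : Over S} (x : T ⟶ G), (x⁻¹) ≫ v = (x ≫ v)⁻¹ := fun x =>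
    GrpObj.inv_comp x v
  refine ⟨hu, hv, h1, ?_, ?_⟩
  · rw [whisker_mul]
    refine IsPullback.of_isLimit' ⟨?_⟩ ?_
    · rw [hmulv, Category.assoc, h1, comp_one, _root_.mul_one]
    · have hz : ∀ s : PullbackCone v v, ∃ z : s.pt ⟶ G', z ≫ u = s.fst⁻¹ * s.snd := fun s =>
        h2 s.pt (s.fst⁻¹ * s.snd) (by rw [hmulv, hinvv, s.condition, inv_mul_cancel])
      refine PullbackCone.IsLimit.mk _ (fun s => lift s.fst (hz s).choose) ?_ ?_ ?_
      · intro s
        simp
      · intro s
        rw [comp_mul, lift_fst, lift_snd_assoc]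
        rw [(hz s).choose_spec, mul_inv_cancel_left]
      · intro s m hm1 hm2
        rw [comp_mul, ← Category.assoc] at hm2
        refine CartesianMonoidalCategory.hom_ext _ _ (by simpa using hm1) ?_
        rw [lift_snd, ← cancel_mono u, (hz s).choose_spec, ← hm2, hm1,
          inv_mul_cancel_left]
  · refine ⟨Presieve.singleton v.left, Scheme.Hom.singleton_mem_fppfPrecoverage v.left, ?_⟩
    rintro S' f ⟨⟩
    exact ⟨𝟙 _, Category.id_comp _⟩

end Exact

section Grp
variable {p : ℕ} [hp : Fact p.Prime]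

/-- A group of order `p²` is an extension of `ℤ/p` by `ℤ/p`. -/
lemma exists_quot (M : Type*) [Group M] [Finite M] (hM : Nat.card M = p ^ 2) :
    ∃ (N : Subgroup M) (f : M →* Multiplicative (ZMod p)) (_ : N ≃* Multiplicative (ZMod p)),
      Nat.card N = p ∧ (∀ m, f m = 1 ↔ m ∈ N) ∧ Function.Surjective f := by
  have hZ : Nat.card (Multiplicative (ZMod p)) = p := by
    rw [Nat.card_congr Multiplicative.toAdd, Nat.card_zmod]
  obtain ⟨N, hN⟩ := Sylow.exists_subgroup_card_pow_prime (G := M) p (n := 1) (by rw [hM]; exact pow_dvd_pow p one_le_two)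
  rw [pow_one] at hN
  have hc : IsMulCommutative M := IsPGroup.isMulCommutative_of_card_eq_prime_sq hM
  have hcomm : ∀ a b : M, a * b = b * a := hc.is_comm.comm
  have hnorm : N.Normal := ⟨fun n hn g => by rwa [hcomm g n, mul_inv_cancel_right]⟩
  have hq : Nat.card (M ⧸ N) = p := by
    have h1 := Subgroup.card_eq_card_quotient_mul_card_subgroup N
    rw [hM, hN, sq] at h1
    exact (Nat.mul_right_cancel hp.out.pos h1).symm
  let g : N ≃* Multiplicative (ZMod p) := mulEquivOfPrimeCardEq hN hZ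
  let q : M ⧸ N ≃* Multiplicative (ZMod p) := mulEquivOfPrimeCardEq hq hZ
  refine ⟨N, q.toMonoidHom.comp (QuotientGroup.mk' N), g, hN, fun m => ?_, ?_⟩
  · change q (QuotientGroup.mk m) = 1 ↔ _
    rw [map_eq_one_iff q q.injective, QuotientGroup.eq_one_iff]
  · exact q.surjective.comp (QuotientGroup.mk'_surjective N)

lemma stdChar_eq_one {R : Type u} [CommRing R] {ζ : R} (hζ : IsPrimitiveRoot ζ p) (m : Multiplicative (ZMod p)) :
    stdChar ζ m = 1 ↔ m = 1 := by
  constructor
  · intro h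
    have h1 : p ∣ (Multiplicative.toAdd m).val := hζ.dvd_of_pow_eq_one _ h
    have h2 : (Multiplicative.toAdd m).val < p := ZMod.val_lt _
    have h3 : (Multiplicative.toAdd m).val = 0 := Nat.eq_zero_of_dvd_of_lt h1 h2
    have h4 : Multiplicative.toAdd m = 0 := (ZMod.val_eq_zero _).mp h3
    exact Multiplicative.toAdd.injective h4
  · rintro rfl
    exact stdChar_one

end Grp

section Card
variable {R : Type u} [CommRing R] [IsDomain R] {C : Type u} [CommRing C] [Algebra R C] {M : Type*} [Group M] [Finite M]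
  {γ : M → (C →ₐ[R] R)} {Δ : C →ₐ[R] C ⊗[R] C} (F : Form γ Δ) [Module.Free R C] [Module.Finite R C]

omit [Module.Free R C] in
include F in
lemma card_eq_finrank : Nat.card M = Module.finrank R C := by
  classical
  refine le_antisymm ?_ (finrank_le F)
  have := Fintype.ofFinite M
  obtain ⟨d, hd, h⟩ := density F
  choose c hc using fun m : M => h (Pi.single m 1)
  have h1 : LinearIndependent R c := by
    rw [Fintype.linearIndependent_iff]
    intro g hg m
    have h2 := congr(γ m $hg)
    rw [map_sum, map_zero, Finset.sum_eq_single m] at h2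
    · rw [map_smul, hc, Pi.single_eq_same, _root_.mul_one, smul_eq_mul] at h2
      exact (mul_eq_zero.mp h2).resolve_right hd
    · intro n _ hn
      rw [map_smul, hc, Pi.single_eq_of_ne hn.symm, mul_zero, smul_zero]
    · intro h
      exact absurd (Finset.mem_univ m) h
  rw [Nat.card_eq_fintype_card]
  exact h1.fintype_card_le_finrank

end Card

section Sp
variable {R : Type u} [CommRing R] {B C : Type u} [CommRing B] [HopfAlgebra R B] [CommRing C] [HopfAlgebra R C]
  (κ : B →ₐ[R] C)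

omit [HopfAlgebra R B] [HopfAlgebra R C] in
lemma ev_spMap [Algebra R B] [Algebra R C] (κ : B →ₐ[R] C) {T : Over (Spec (CommRingCat.of R))} (x : T ⟶ sp R C) (b : B) :
    ev (x ≫ spMap κ) b = ev x (κ b) := by
  have := ev_comp_right x (spMap κ) κ.toRingHom rfl
  exact congr($this b)

theorem isMonHom_spMap (hκ : ∀ b, CoalgebraStruct.comul (R := R) (κ b) =
    Algebra.TensorProduct.map κ κ (CoalgebraStruct.comul (R := R) b)) : IsMonHom (spMap κ) := by
  apply Groth.Agent.Sga3B.Pts.isMonHom_of_points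
  intro T x y
  apply K831.Pts.ext
  ext b
  rw [ev_spMap, ev_mul_apply, ev_mul_apply, hκ]
  generalize (CoalgebraStruct.comul (R := R) b) = z
  induction z using TensorProduct.induction_on with
  | zero => simp only [map_zero]
  | tmul a b => rw [Algebra.TensorProduct.map_tmul, ev2_tmul, ev2_tmul, ev_spMap, ev_spMap]
  | add a b ha hb => rw [map_add, map_add, map_add, ha, hb]

omit [HopfAlgebra R B] [HopfAlgebra R C] in
lemma mono_spMap [Algebra R B] [Algebra R C] (κ : B →ₐ[R] C) (hs : Function.Surjective κ) : Mono (spMap κ) := by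
  refine ⟨fun {T} x y hxy => ?_⟩
  apply K831.Pts.ext
  ext c
  obtain ⟨b, rfl⟩ := hs c
  rw [← ev_spMap, ← ev_spMap, hxy]

omit [HopfAlgebra R B] [HopfAlgebra R C] in
lemma exists_factor [Algebra R B] [Algebra R C] (κ : B →ₐ[R] C) (hs : Function.Surjective κ)
    {T : Over (Spec (CommRingCat.of R))} (x : T ⟶ sp R B) (hx : ∀ b, κ b = 0 → ev x b = 0) :
    ∃ z : T ⟶ sp R C, z ≫ spMap κ = x := by
  let φ : C →+* Γ(T.left, ⊤) := (RingHom.liftOfSurjective κ.toRingHom hs) ⟨ev x, fun b hb => hx b hb⟩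
  have hφ (b : B) : φ (κ b) = ev x b := RingHom.liftOfRightInverse_comp_apply _ _ _ ⟨ev x, fun b hb => hx b hb⟩ b
  refine ⟨ofEv φ ?_, ?_⟩
  · ext r
    rw [RingHom.comp_apply, ← κ.commutes, hφ, ev_algebraMap_apply]
  · apply K831.Pts.ext
    ext b
    rw [ev_spMap, ev_ofEv, hφ]

end Sp

section Main
variable {R : Type u} [CommRing R] [IsDomain R] [IsDiscreteValuationRing R] {p : ℕ} [hp : Fact p.Prime]
  [CharP (IsLocalRing.ResidueField R) p] {ζ : R} (hζ : IsPrimitiveRoot ζ p)

include hζ hp in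
/-- The two algebra maps defining the extension. -/
theorem exists_algHoms {B : Type u} [CommRing B] [HopfAlgebra R B] [Module.Free R B] [Module.Finite R B] {M : Type}
    [Group M] [Finite M] (hM : Nat.card M = p ^ 2) {γ : M → (B →ₐ[R] R)} (F : Form γ (Bialgebra.comulAlgHom R B)) :
    ∃ (lam mu : R) (h₁ : DivCond lam p) (h₂ : DivCond mu p) (κ : B →ₐ[R] AK R lam p h₁) (θ : AK R mu p h₂ →ₐ[R] B),
      lam ≠ 0 ∧ mu ≠ 0 ∧ Function.Surjective κ ∧ θ.toRingHom.Flat ∧ Function.Injective θ ∧
      (∀ b, κ b = 0 → ∃ c, b = θ AK.t * c) ∧ κ (θ AK.t) = 0 ∧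
      (∀ b, CoalgebraStruct.comul (R := R) (κ b) =
        Algebra.TensorProduct.map κ κ (CoalgebraStruct.comul (R := R) b)) ∧
      CoalgebraStruct.comul (R := R) (θ AK.t) = θ AK.t ⊗ₜ[R] 1 + 1 ⊗ₜ[R] θ AK.t + mu • (θ AK.t ⊗ₜ[R] θ AK.t) := by
  obtain ⟨N, f, g, hN, hf, hfs⟩ := exists_quot M hM
  obtain ⟨m0, hm0⟩ := hfs (Multiplicative.ofAdd (1 : ZMod p))
  have hχmul : ∀ m n : M, stdChar ζ (f (m * n)) = stdChar ζ (f m) * stdChar ζ (f n) := fun m n => by
    rw [map_mul, stdChar_mul hζ]
  obtain ⟨mu, h₂, y, hmu, hv, hy, hli⟩ := exists_divided F hζ (χ := fun m => stdChar ζ (f m))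
    (by rw [map_one, stdChar_one]) hχmul (m0 := m0)
    (by rw [hm0, stdChar_gen]) (fun m => stdChar_pow hζ _)
  have hΔ := comul_of_divided F hχmul hmu hv
  have hpow : (1 + mu • y) ^ p = 1 := by
    apply ext_point F
    intro m
    have h1 : γ m (1 + mu • y) = stdChar ζ (f m) := by
      rw [map_add, map_one, map_smul, smul_eq_mul, hv]
      ring
    rw [map_pow, h1, stdChar_pow hζ, map_one]
  have hinj : Function.Injective (algebraMap R B) := fun a b hab => by
    have h1 := congr(γ 1 $hab)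
    rwa [AlgHom.commutes, AlgHom.commutes] at h1
  have hε := counit_of_comul hΔ (IsUnit.of_pow_eq_one hpow hp.out.ne_zero) hinj
  have hflat := flat_th h₂ hp.out.pos hy hΔ hli hε
  have hN' : ∀ m, γ m y = 0 ↔ m ∈ (N : Set M) := fun m => by
    have h1 : γ m y = 0 ↔ stdChar ζ (f m) = 1 := by
      constructor
      · intro h
        have h2 := hv m
        rw [h, mul_zero] at h2
        exact (sub_eq_zero.mp h2.symm)
      · intro h
        have h2 := hv m
        rw [h, sub_self] at h2
        exact (mul_eq_zero.mp h2).resolve_left hmu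
    rw [h1, stdChar_eq_one hζ, hf]
    rfl
  have hvan : ∀ b : B, (∀ m ∈ N, γ m b = 0) → ∃ c, b = y * c := fun b hb =>
    exists_eq_mul h₂ hp.out.pos F hy hflat (N : Set M) hN' hb
  obtain ⟨lam, h₁, κ, hlam, hκs, hκ, hκy, hκΔ⟩ := exists_sub F (fun m hm => (hN' m).mpr hm) hvan hN hζ
    (χ := fun n => stdChar ζ (g n)) (by rw [map_one, stdChar_one])
    (fun m n => by rw [map_mul, stdChar_mul hζ])
    (m0 := g.symm (Multiplicative.ofAdd (1 : ZMod p)))
    (by rw [g.apply_symm_apply, stdChar_gen]) (fun m => stdChar_pow hζ _)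
  have ht := th_t h₂ hp.out.pos y hy
  refine ⟨lam, mu, h₁, h₂, κ, th h₂ hp.out.pos y hy, hlam, hmu, hκs, hflat, injective_th h₂ hp.out.pos hy hli, ?_, ?_, hκΔ, ?_⟩
  · rw [ht]; exact hκ
  · rw [ht]; exact hκy
  · rw [ht]; exact hΔ

include hζ in
theorem exists_isExactSeq (G : Over (Spec (CommRingCat.of R))) [GrpObj G] (hG : Mor2.IsFinLocFreeOfDeg (p ^ 2) G.hom)
    (M : Type) [Group M] [Finite M]
    (e : Red.bc (jK R) G ≅ TwC.const (Spec (CommRingCat.of (FractionRing R))) M)
    (he : TwC.IsConstGrp M (Red.bc (jK R) G) e) :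
    ∃ (lam mu : R) (h₁ : SekSuwa.DivCond lam p) (h₂ : SekSuwa.DivCond mu p)
      (u : SekSuwa.GK R lam p h₁ ⟶ G) (v : G ⟶ SekSuwa.GK R mu p h₂),
      lam ≠ 0 ∧ mu ≠ 0 ∧ NonAbH1.IsExactSeq Scheme.fppfPrecoverage u v := by
  have hGfin : IsFinite G.hom := hG.1.1
  have hGflat : Flat G.hom := hG.1.2.1
  obtain ⟨B, _, _, i, hi, hfin, hfree⟩ := exists_hopf_free G
  have F := form i e he
  have hM : Nat.card M = p ^ 2 := by
    rw [card_eq_finrank F]
    have h0 : IsIso i.hom.left := inferInstanceAs (IsIso ((Over.forget _).map i.hom))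
    have h1 : Spec.map (CommRingCat.ofHom (algebraMap R B)) = i.hom.left ≫ G.hom := (Over.w i.hom).symm
    have x : Spec (CommRingCat.of R) := Classical.arbitrary (PrimeSpectrum R)
    have h2 := Scheme.Hom.finrank_SpecMap_algebraMap R B x
    have h3 : Scheme.Hom.finrank (i.hom.left ≫ G.hom) = Scheme.Hom.finrank G.hom :=
      Scheme.Hom.finrank_comp_left_of_isIso _ _
    rw [Module.rankAtStalk_eq_finrank_of_free] at h2
    refine h2.symm.trans ?_
    rw [h1]
    exact (congr_fun h3 x).trans (hG.2 x)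
  obtain ⟨lam, mu, h₁, h₂, κ, θ, hlam, hmu, hκs, hθflat, hθinj, hκ, hκθ, hκΔ, hθΔ⟩ := exists_algHoms hζ hM F
  have : Module.Finite R (AK R mu p h₂) := finite_AK h₂ hp.out.pos
  have : Module.Finite R (AK R lam p h₁) := finite_AK h₁ hp.out.pos
  let u' : GK R lam p h₁ ⟶ sp R B := spMap κ
  let v' : sp R B ⟶ GK R mu p h₂ := spMap θ
  have hu' : IsMonHom u' := isMonHom_spMap κ hκΔ
  have hv' : IsMonHom v' := isMonHom_of_comul θ hθΔ
  have htk {T : Over (Spec (CommRingCat.of R))} (x : T ⟶ sp R B) : tk (x ≫ v') = ev x (θ AK.t) :=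
    ev_spMap θ x AK.t
  let u : GK R lam p h₁ ⟶ G := u' ≫ i.hom
  let v : G ⟶ GK R mu p h₂ := i.inv ≫ v'
  have hi' : IsMonHom i.inv := inferInstance
  have hu : IsMonHom u := inferInstanceAs (IsMonHom (u' ≫ i.hom))
  have hv : IsMonHom v := inferInstanceAs (IsMonHom (i.inv ≫ v'))
  have huv : u ≫ v = 1 := by
    have h1 : u ≫ v = u' ≫ v' := by
      change (u' ≫ i.hom) ≫ i.inv ≫ v' = u' ≫ v'
      rw [Category.assoc, i.hom_inv_id_assoc]
    rw [h1]
    apply tk_ext
    rw [htk, tk_one]
    have h2 : ev u' (θ AK.t) = ev (𝟙 (sp R (AK R lam p h₁))) (κ (θ AK.t)) := by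
      have := ev_spMap κ (𝟙 (sp R (AK R lam p h₁))) (θ AK.t)
      rwa [Category.id_comp] at this
    rw [h2, hκθ, map_zero]
  have hmono : Mono u := by
    have : Mono u' := mono_spMap κ hκs
    exact mono_comp _ _
  have hker (T : Over (Spec (CommRingCat.of R))) (x : T ⟶ G) (hx : x ≫ v = 1) : ∃ z : T ⟶ GK R lam p h₁, z ≫ u = x := by
    have h1 : tk ((x ≫ i.inv) ≫ v') = 0 := by
      rw [Category.assoc]
      change tk (x ≫ v) = 0
      rw [hx, tk_one]
    rw [htk] at h1
    obtain ⟨z, hz⟩ := exists_factor κ hκs (x ≫ i.inv) (fun b hb => by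
      obtain ⟨c, rfl⟩ := hκ b hb
      rw [map_mul, h1, zero_mul])
    refine ⟨z, ?_⟩
    change z ≫ u' ≫ i.hom = x
    rw [← Category.assoc]
    change (z ≫ spMap κ) ≫ i.hom = x
    rw [hz, Category.assoc, i.inv_hom_id, Category.comp_id]
  have h0 : IsIso i.inv.left := inferInstanceAs (IsIso ((Over.forget _).map i.inv))
  have hfθ : θ.toRingHom.Finite := by
    have h3 : (algebraMap R B).Finite := RingHom.finite_algebraMap.mpr inferInstance
    have h4 : θ.toRingHom.comp (algebraMap R (AK R mu p h₂)) = algebraMap R B := θ.comp_algebraMap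
    rw [← h4] at h3
    exact RingHom.Finite.of_comp_finite h3
  have hnoeth : IsNoetherianRing (AK R mu p h₂) := Algebra.FiniteType.isNoetherianRing R _
  have hflat : Flat v'.left := by
    change Flat (Spec.map (CommRingCat.ofHom θ.toRingHom))
    rw [Flat.SpecMap_iff]
    exact hθflat
  have hsurj : Surjective v'.left := by
    let _ : Algebra (AK R mu p h₂) B := θ.toRingHom.toAlgebra
    have : Module.Finite (AK R mu p h₂) B := hfθ
    have : FaithfulSMul (AK R mu p h₂) B := (faithfulSMul_iff_algebraMap_injective _ _).mpr hθinj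
    exact ⟨Algebra.IsIntegral.comap_surjective (AK R mu p h₂) B⟩
  have hlfp : LocallyOfFinitePresentation v'.left := by
    change LocallyOfFinitePresentation (Spec.map (CommRingCat.ofHom θ.toRingHom))
    rw [HasRingHomProperty.Spec_iff (P := @LocallyOfFinitePresentation)]
    exact RingHom.FinitePresentation.of_finiteType.mp hfθ.finiteType
  have hflat' : Flat v.left := MorphismProperty.comp_mem @Flat i.inv.left v'.left inferInstance inferInstance
  have hsurj' : Surjective v.left := by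
    have h6 : Surjective i.inv.left := inferInstance
    exact ⟨hsurj.surj.comp h6.surj⟩
  have hlfp' : LocallyOfFinitePresentation v.left :=
    MorphismProperty.comp_mem @LocallyOfFinitePresentation i.inv.left v'.left inferInstance inferInstance
  exact ⟨lam, mu, h₁, h₂, u, v, hlam, hmu, isExactSeq_fppf u v huv hker⟩

end Main

end K831.ExtMain
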