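import Groth.Agent.SekSuwa.K831.GPts
import Mathlib.AlgebraicGeometry.Morphisms.Flat

/-!
Flat `R`-schemes: non-zero-divisors of `R` stay non-zero-divisors on global sections, and division by them is local.
-/

set_option autoImplicit false
universe u
open CategoryTheory MonoidalCategory CartesianMonoidalCategory MonObj GrpObj AlgebraicGeometry Limits
open scoped TensorProduct
open SekSuwa K831.Pts K831.GPts

noncomputable section

namespace K831.FlatPts

section Sheaf
variable {Y : Scheme.{u}}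

/-- restriction of global sections -/
def res (U : Y.Opens) : Γ(Y, ⊤) →+* Γ(Y, U) := (Y.presheaf.map (homOfLE (le_top : U ≤ ⊤)).op).hom

/-- restriction between opens -/
def resLE {V U : Y.Opens} (h : V ≤ U) : Γ(Y, U) →+* Γ(Y, V) := (Y.presheaf.map (homOfLE h).op).hom

lemma resLE_res {V U : Y.Opens} (h : V ≤ U) (b : Γ(Y, ⊤)) : resLE h (res U b) = res V b := by
  change (Y.presheaf.map (homOfLE h).op).hom ((Y.presheaf.map (homOfLE (le_top : U ≤ ⊤)).op).hom b) = _
  rw [← CommRingCat.comp_apply, ← Functor.map_comp]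
  rfl

lemma exists_affine (y : Y) : ∃ U : Y.affineOpens, y ∈ U.1 := by
  obtain ⟨U, hU, hy, -⟩ := exists_isAffineOpen_mem_and_subset (x := y) (U := ⊤) trivial
  exact ⟨⟨U, hU⟩, hy⟩

lemma iSup_affine : (⊤ : Y.Opens) ≤ ⨆ U : Y.affineOpens, U.1 := by
  intro y _
  obtain ⟨U, hU⟩ := exists_affine y
  exact TopologicalSpace.Opens.mem_iSup.mpr ⟨U, hU⟩

lemma ext_affine {b c : Γ(Y, ⊤)} (h : ∀ U : Y.affineOpens, res U.1 b = res U.1 c) : b = c :=
  TopCat.Sheaf.eq_of_locally_eq' Y.sheaf (fun U : Y.affineOpens => U.1) ⊤ (fun _ => homOfLE le_top) iSup_affine b c h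

lemma ext_open {V : Y.Opens} {b c : Γ(Y, V)} (h : ∀ (U : Y.affineOpens) (hU : U.1 ≤ V), resLE hU b = resLE hU c) : b = c := by
  refine TopCat.Sheaf.eq_of_locally_eq' Y.sheaf (fun U : {U : Y.affineOpens // U.1 ≤ V} => U.1.1) V
    (fun U => homOfLE U.2) ?_ b c (fun U => h U.1 U.2)
  intro y hy
  obtain ⟨U, hU, hyU, hUV⟩ := exists_isAffineOpen_mem_and_subset (x := y) (U := V) hy
  exact TopologicalSpace.Opens.mem_iSup.mpr ⟨⟨⟨U, hU⟩, hUV⟩, hyU⟩

lemma resLE_resLE {W V U : Y.Opens} (h : V ≤ U) (h' : W ≤ V) (b : Γ(Y, U)) :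
    resLE h' (resLE h b) = resLE (h'.trans h) b := by
  change (Y.presheaf.map (homOfLE h').op).hom ((Y.presheaf.map (homOfLE h).op).hom b) = _
  rw [← CommRingCat.comp_apply, ← Functor.map_comp]
  rfl

lemma mem_nonZeroDivisors_open {a : Γ(Y, ⊤)} (ha : ∀ U : Y.affineOpens, res U.1 a ∈ nonZeroDivisors Γ(Y, U.1)) (V : Y.Opens) :
    res V a ∈ nonZeroDivisors Γ(Y, V) := by
  rw [mem_nonZeroDivisors_iff_right]
  intro x hx
  apply ext_open
  intro U hU
  have h1 := congr(resLE hU $hx)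
  rw [map_mul, resLE_res, map_zero] at h1
  rw [map_zero]
  exact (mem_nonZeroDivisors_iff_right.mp (ha U)) _ h1

/-- Division by a section which is a non-zero-divisor everywhere is local. -/
lemma exists_div {a : Γ(Y, ⊤)} (ha : ∀ U : Y.affineOpens, res U.1 a ∈ nonZeroDivisors Γ(Y, U.1)) (w : Γ(Y, ⊤))
    (hw : ∀ y : Y, ∃ U : Y.Opens, y ∈ U ∧ ∃ c : Γ(Y, U), res U w = res U a * c) : ∃ c : Γ(Y, ⊤), w = a * c := by
  choose U hyU c hc using hw
  obtain ⟨s, hs, -⟩ := TopCat.Sheaf.existsUnique_gluing' Y.sheaf (fun y : Y => U y) ⊤ (fun y => homOfLE le_top)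
    (fun y _ => TopologicalSpace.Opens.mem_iSup.mpr ⟨y, hyU y⟩) c (by
      intro i j
      have h1 := mem_nonZeroDivisors_open ha (U i ⊓ U j)
      change resLE inf_le_left (c i) = resLE inf_le_right (c j)
      apply cancel_nzd h1
      have h2 := congr(resLE (inf_le_left : U i ⊓ U j ≤ U i) $(hc i))
      have h3 := congr(resLE (inf_le_right : U i ⊓ U j ≤ U j) $(hc j))
      rw [resLE_res, map_mul, resLE_res] at h2 h3
      rw [← h2, ← h3])
  let s' : Γ(Y, ⊤) := s
  refine ⟨s', ?_⟩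
  refine TopCat.Sheaf.eq_of_locally_eq' Y.sheaf (fun y : Y => U y) ⊤ (fun y => homOfLE le_top)
    (fun y _ => TopologicalSpace.Opens.mem_iSup.mpr ⟨y, hyU y⟩) w (a * s') ?_
  intro y
  change res (U y) w = res (U y) (a * s')
  rw [map_mul, hc y]
  congr 1
  exact (hs y).symm

end Sheaf

section Flat
variable {R : Type u} [CommRing R] {T : Over (Spec (CommRingCat.of R))}

lemma map_mem_nonZeroDivisors_of_flat {A B : Type*} [CommRing A] [CommRing B] (φ : A →+* B) (h : φ.Flat) {a : A}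
    (ha : a ∈ nonZeroDivisors A) : φ a ∈ nonZeroDivisors B := by
  algebraize [φ]
  have h1 : IsSMulRegular A a := by
    intro x y hxy
    simp only [smul_eq_mul] at hxy
    exact cancel_nzd ha hxy
  have h2 : IsSMulRegular B a := h1.of_flat 
  rw [mem_nonZeroDivisors_iff_right]
  intro x hx
  apply h2
  change a • x = a • 0
  rw [Algebra.smul_def, smul_zero, mul_comm]
  exact hx

lemma res_str_mem [Flat T.hom] {r : R} (hr : r ∈ nonZeroDivisors R) (U : T.left.affineOpens) :
    res U.1 (str T r) ∈ nonZeroDivisors Γ(T.left, U.1) := by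
  have h1 : (T.hom.appLE ⊤ U.1 le_top).hom.Flat :=
    Scheme.Hom.flat_appLE T.hom (isAffineOpen_top _) U.2 le_top
  have h2 : ((Scheme.ΓSpecIso (CommRingCat.of R)).inv.hom r) ∈
      nonZeroDivisors Γ(Spec (CommRingCat.of R), ⊤) := by
    refine map_mem_nonZeroDivisors_of_flat _ ?_ hr
    exact RingHom.Flat.of_bijective (ConcreteCategory.bijective_of_isIso _)
  exact map_mem_nonZeroDivisors_of_flat _ h1 h2

lemma res_top (b : Γ(T.left, ⊤)) : res ⊤ b = b := by
  change (T.left.presheaf.map (homOfLE (le_top : (⊤ : T.left.Opens) ≤ ⊤)).op).hom b = b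
  have : (homOfLE (le_top : (⊤ : T.left.Opens) ≤ ⊤)).op = 𝟙 _ := rfl
  rw [this, CategoryTheory.Functor.map_id]
  rfl

lemma str_mem [Flat T.hom] {r : R} (hr : r ∈ nonZeroDivisors R) : str T r ∈ nonZeroDivisors Γ(T.left, ⊤) := by
  have := mem_nonZeroDivisors_open (Y := T.left) (res_str_mem hr) ⊤
  rwa [res_top] at this

/-- `α` is injective on points with values in flat schemes. -/
lemma alpha_injective [Flat T.hom] {lam : R} (hlam : lam ∈ nonZeroDivisors R) {x y : T ⟶ G R lam}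
    (h : x ≫ alpha R lam = y ≫ alpha R lam) : x = y := by
  apply tv_ext
  have h1 := congr(ch $h 1)
  rw [ch_alpha, ch_alpha, add_right_inj] at h1
  exact cancel_nzd (str_mem hlam) h1

lemma alphaN_injective [Flat T.hom] {lam : R} {N : ℕ} {h : DivCond lam N} {x y : T ⟶ GK R lam N h}
    (e : x ≫ alphaN R lam N h = y ≫ alphaN R lam N h) : x = y := by
  apply tk_ext
  have h1 := congr(ch $e 1)
  rw [ch_alphaN, ch_alphaN, add_right_inj] at h1
  exact cancel_nzd (str_mem h.nzd) h1

end Flat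

end K831.FlatPts
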