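import Groth.Agent.SekSuwa.K831.TorsLift
import Groth.Agent.SekSuwa.K831.FlatPts
import Groth.Agent.S14540

/-!
Torsors under `G^(λ)` over an `X` flat over `R` and the push forward along `α^(λ) : G^(λ) → 𝔾_m`.
-/

set_option autoImplicit false
universe u
open CategoryTheory MonoidalCategory CartesianMonoidalCategory MonObj GrpObj AlgebraicGeometry Limits
open scoped TensorProduct
open SekSuwa K831.Pts K831.GPts K831.FlatPts K831.BcPts Groth.Agent.Books.BorelOrb K551.Tors

noncomputable section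

namespace K831.PushGm

section FromSpec
variable {Y : Scheme.{u}}

lemma fromSpec_appTop_apply {U : Y.Opens} (hU : IsAffineOpen U) (b : Γ(Y, ⊤)) :
    hU.fromSpec.appTop.hom b = (Scheme.ΓSpecIso Γ(Y, U)).inv.hom (res U b) := by
  have h1 : hU.fromSpec.appTop = Y.presheaf.map (homOfLE (le_top : U ≤ ⊤)).op ≫ (Scheme.ΓSpecIso Γ(Y, U)).inv := by
    change hU.fromSpec.app ⊤ = _
    rw [hU.fromSpec_app_of_le ⊤ le_top]
    congr 1
  rw [h1]
  rfl

lemma SpecMap_fromSpec_appTop_apply {U : Y.Opens} (hU : IsAffineOpen U) {B : Type u} [CommRing B] (φ : Γ(Y, U) →+* B)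
    (b : Γ(Y, ⊤)) : (Spec.map (CommRingCat.ofHom φ) ≫ hU.fromSpec).appTop.hom b =
      (Scheme.ΓSpecIso (CommRingCat.of B)).inv.hom (φ (res U b)) := by
  rw [Scheme.Hom.comp_appTop, CommRingCat.comp_apply, fromSpec_appTop_apply, ← CommRingCat.comp_apply]
  have h1 := Scheme.ΓSpecIso_inv_naturality (R := Γ(Y, U)) (S := CommRingCat.of B) (CommRingCat.ofHom φ)
  exact (congrArg (fun k => k.hom (res U b)) h1).symm

end FromSpec

section Div
variable {R : Type u} [CommRing R] {X : Scheme.{u}} (f : X ⟶ Spec (CommRingCat.of R))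

/-- A function on a flat `T` which vanishes on all `T' ⟶ T` on which `λ` vanishes is a multiple of `λ`. -/
theorem exists_div' [Flat f] {T : Over X} [Flat T.hom] {lam : R} (hlam : lam ∈ nonZeroDivisors R) (v : Γ(T.left, ⊤))
    (hv : ∀ (T' : Over X) (_ : sr f T' lam = 0) (t : T' ⟶ T), t.left.appTop.hom v = 0) : ∃ c, v = sr f T lam * c := by
  have hfl : Flat (dn f T).hom := by
    change Flat (T.hom ≫ f)
    infer_instance
  have hnz : ∀ U : T.left.affineOpens, res U.1 (sr f T lam) ∈ nonZeroDivisors Γ(T.left, U.1) :=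
    fun U => res_str_mem (T := dn f T) hlam U
  refine exists_div hnz v (fun y => ?_)
  obtain ⟨U, hU⟩ := exists_affine y
  refine ⟨U.1, hU, ?_⟩
  let I : Ideal Γ(T.left, U.1) := Ideal.span {res U.1 (sr f T lam)}
  let φ : CommRingCat.of (Γ(T.left, U.1)) ⟶ CommRingCat.of (Γ(T.left, U.1) ⧸ I) := CommRingCat.ofHom (Ideal.Quotient.mk I)
  let t0 : Spec (CommRingCat.of (Γ(T.left, U.1) ⧸ I)) ⟶ T.left := Spec.map φ ≫ U.2.fromSpec
  let T' : Over X := Over.mk (t0 ≫ T.hom)
  let t : T' ⟶ T := Over.homMk t0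
  have key (b : Γ(T.left, ⊤)) : t.left.appTop.hom b =
      (Scheme.ΓSpecIso (CommRingCat.of (Γ(T.left, U.1) ⧸ I))).inv.hom (Ideal.Quotient.mk I (res U.1 b)) :=
    SpecMap_fromSpec_appTop_apply U.2 (Ideal.Quotient.mk I) b
  have h1 : sr f T' lam = 0 := by
    rw [← sr_comp f t, key, Ideal.Quotient.eq_zero_iff_mem.mpr (Ideal.mem_span_singleton_self _), map_zero]
  have h2 := hv T' h1 t
  rw [key] at h2
  have h3 : Ideal.Quotient.mk I (res U.1 v) = 0 := by
    have := congr((Scheme.ΓSpecIso (CommRingCat.of (Γ(T.left, U.1) ⧸ I))).hom.hom $h2)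
    rwa [map_zero, ← CommRingCat.comp_apply, Iso.inv_hom_id] at this
  rw [Ideal.Quotient.eq_zero_iff_mem, Ideal.mem_span_singleton] at h3
  exact h3

end Div

section FlatG
variable {R : Type u} [CommRing R] {X : Scheme.{u}} (f : X ⟶ Spec (CommRingCat.of R)) (lam : R)

/-- `A R lam` is the localisation of `R[X]` at `1 + λX`. -/
def equivA : SekSuwa.A R lam ≃ₐ[R] Localization.Away (1 + Polynomial.C lam * Polynomial.X : Polynomial R) :=
  let u : Polynomial R := 1 + Polynomial.C lam * Polynomial.X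
  let g : Polynomial R →ₐ[R] Localization.Away u := IsScalarTower.toAlgHom R (Polynomial R) (Localization.Away u)
  have hg : (1 + lam • g Polynomial.X) * IsLocalization.Away.invSelf u = 1 := by
    have h1 : 1 + lam • g Polynomial.X = algebraMap _ _ u := by
      change _ = g u
      rw [map_add, map_one, ← Polynomial.smul_eq_C_mul, map_smul]
    rw [h1]
    exact IsLocalization.Away.mul_invSelf u
  have hu : IsUnit (Polynomial.aeval (A.t : SekSuwa.A R lam) u) := by
    have h1 : Polynomial.aeval (A.t : SekSuwa.A R lam) u = A.u := by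
      rw [map_add, map_one, ← Polynomial.smul_eq_C_mul, map_smul, Polynomial.aeval_X]; rfl
    rw [h1]
    exact A.isUnit_u
  have hu' : ∀ y : Submonoid.powers u, IsUnit ((Polynomial.aeval (A.t : SekSuwa.A R lam)) (y : Polynomial R)) := by
    rintro ⟨_, n, rfl⟩
    rw [map_pow]
    exact hu.pow n
  let F := A.lift R lam (g Polynomial.X) (IsLocalization.Away.invSelf u) hg
  let G : Localization.Away u →ₐ[R] SekSuwa.A R lam := IsLocalization.liftAlgHom (M := Submonoid.powers u)
    (S := Localization.Away u) (f := Polynomial.aeval (A.t : SekSuwa.A R lam)) hu'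
  have hGg (z : Polynomial R) : G (algebraMap _ _ z) = Polynomial.aeval (A.t : SekSuwa.A R lam) z :=
    IsLocalization.lift_eq hu' z
  have hFt : F A.t = algebraMap _ _ (Polynomial.X : Polynomial R) := A.lift_t _ _ _
  have hFi : F A.inv = IsLocalization.Away.invSelf u := A.lift_inv _ _ _
  AlgEquiv.ofAlgHom F G
    (by
      have h1 : ((F.comp G).toRingHom.comp (algebraMap (Polynomial R) _)) = algebraMap (Polynomial R) (Localization.Away u) := by
        apply Polynomial.ringHom_ext
        · intro r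
          change F (G (algebraMap _ _ (Polynomial.C r))) = _
          rw [hGg, Polynomial.aeval_C, AlgHom.commutes]
          rfl
        · change F (G (algebraMap _ _ Polynomial.X)) = _
          rw [hGg, Polynomial.aeval_X, hFt]
      have h2 : (F.comp G).toRingHom = RingHom.id _ := IsLocalization.ringHom_ext (Submonoid.powers u) (by rw [h1]; rfl)
      exact AlgHom.ext fun z => congr($h2 z))
    (by
      apply A.algHom_ext
      · change G (F A.t) = A.t
        rw [hFt, hGg, Polynomial.aeval_X]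
      · change G (F A.inv) = A.inv
        rw [hFi]
        have h1 : G (algebraMap _ _ u) * G (IsLocalization.Away.invSelf u) = 1 := by
          rw [← map_mul, IsLocalization.Away.mul_invSelf, map_one]
        have h2 : G (algebraMap _ _ u) = A.u := by
          rw [hGg, map_add, map_one, ← Polynomial.smul_eq_C_mul, map_smul, Polynomial.aeval_X]; rfl
        rw [h2] at h1
        exact (left_inv_eq_right_inv (A.inv_mul_u) h1).symm)

lemma flat_G : Flat (G R lam).hom := by
  have : Module.Flat R (SekSuwa.A R lam) := by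
    have h1 : Module.Flat (Polynomial R) (Localization.Away (1 + Polynomial.C lam * Polynomial.X : Polynomial R)) :=
      IsLocalization.flat _ (Submonoid.powers (1 + Polynomial.C lam * Polynomial.X : Polynomial R))
    have h2 : Module.Flat R (Localization.Away (1 + Polynomial.C lam * Polynomial.X : Polynomial R)) :=
      Module.Flat.trans R (Polynomial R) _
    exact Module.Flat.of_linearEquiv (equivA lam).toLinearEquiv
  change Flat (Spec.map (CommRingCat.ofHom (algebraMap R (SekSuwa.A R lam))))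
  rw [Flat.SpecMap_iff]
  exact RingHom.flat_algebraMap_iff.mpr this

lemma flat_bcG : Flat (Red.bc f (G R lam)).hom := by
  have := flat_G lam
  exact inferInstanceAs (Flat (pullback.snd (G R lam).hom f))

end FlatG

section Push
variable {R : Type u} [CommRing R] {X : Scheme.{u}} (f : X ⟶ Spec (CommRingCat.of R)) {lam : R}
  {P Q : Over X} {a : AlgGrp.Action (Red.bc f (G R lam)) P} (hP : NonAbH1.IsTorsorFor Scheme.fppfPrecoverage a)
  {b : AlgGrp.Action (Red.bc f (Red.diag R ℤ)) Q} (hQ : NonAbH1.IsPseudoTorsorSch b) (q : P ⟶ Q)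
  (hq : a.act ≫ q = lift (fst _ P ≫ (Over.pullback f).map (alpha R lam)) (snd _ P ≫ q) ≫ b.act)

include hq in
lemma sm_q {T : Over X} (g : T ⟶ Red.bc f (G R lam)) (x : T ⟶ P) :
    sm a g x ≫ q = sm b (g ≫ (Over.pullback f).map (alpha R lam)) (x ≫ q) := by
  have := TorsLift.isMonHom_map f (alpha R lam)
  exact TorsLift.sm_comp a b ((Over.pullback f).map (alpha R lam)) q hq g x

include hP hQ hq in
/-- Where `λ` vanishes, `q : P → Q` is constant: the push forward has a canonical section. -/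
theorem exists_mod {V : Over X} (hV : sr f V lam = 0) (y : V ⟶ Q) : ∃ h : V ⟶ Red.bc f (Red.diag R ℤ),
    ∀ (T : Over X) (t : T ⟶ V) (x : T ⟶ P), x ≫ q = sm b (t ≫ h) (t ≫ y) := by
  obtain ⟨h, hh, -⟩ := K826.Descend.existsUnique_glue Scheme.fppfPrecoverage_le_fpqcPrecoverage hP.2 (T := V)
    (Y := Red.bc f (Red.diag R ℤ)) (fun T t x => dif hQ (x ≫ q) (t ≫ y))
    (fun T' T'' r t x => by rw [comp_dif, Category.assoc, Category.assoc]) (by
      intro T' t x x'
      have h1 : x ≫ q = x' ≫ q := by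
        rw [← sm_dif hP.1 x x', sm_q f q hq]
        have h2 : dif hP.1 x x' ≫ (Over.pullback f).map (alpha R lam) = 1 := by
          apply chbGm_ext f
          rw [chb_alpha, chb_one, ← sr_comp f t, hV, map_zero, zero_mul, add_zero]
        rw [h2, one_sm]
      rw [h1])
  refine ⟨h, fun T t x => ?_⟩
  rw [hh T t x, sm_dif]

include hP hQ hq in
/-- A point of `Q` with values in a flat `V` which agrees with the canonical point where `λ = 0` yields a point of `P`. -/
theorem exists_point [Flat f] (hlam : lam ∈ nonZeroDivisors R) {V : Over X} [Flat V.hom] (y : V ⟶ Q)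
    (hy : ∀ (T : Over X) (_ : sr f T lam = 0) (t : T ⟶ V) (x : T ⟶ P), x ≫ q = t ≫ y) : Nonempty (V ⟶ P) := by
  have hfG : Flat (Red.bc f (G R lam)).hom := flat_bcG f lam
  have hfP : Flat P.hom := flat_of_torsor hP
  have hf1 : Flat (V ⊗ P).hom := by
    rw [Over.tensorObj_hom]
    infer_instance
  have hf2 : Flat (V ⊗ (Red.bc f (G R lam) ⊗ P)).hom := by
    have : Flat (Red.bc f (G R lam) ⊗ P).hom := by
      rw [Over.tensorObj_hom]
      infer_instance
    rw [Over.tensorObj_hom]
    infer_instance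
  let w : V ⊗ P ⟶ Red.bc f (Red.diag R ℤ) := dif hQ (snd V P ≫ q) (fst V P ≫ y)
  have hw (T : Over X) (t : T ⟶ V) (x : T ⟶ P) : lift t x ≫ w = dif hQ (x ≫ q) (t ≫ y) := by
    rw [comp_dif, lift_snd_assoc, lift_fst_assoc]
  have hw' (T : Over X) (t : T ⟶ V ⊗ P) : dif hQ ((t ≫ snd V P) ≫ q) ((t ≫ fst V P) ≫ y) = t ≫ w := by
    rw [comp_dif, Category.assoc, Category.assoc]
  obtain ⟨c, hc⟩ := exists_div' f hlam (chb f w 1 - 1) (by
    intro T hT t
    rw [map_sub, map_one, ← chb_comp]
    have h1 : t ≫ w = 1 := by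
      rw [← hw' _ t, hy T hT (t ≫ fst V P) (t ≫ snd V P), dif_self]
    rw [h1, chb_one, sub_self])
  have hc' : chb f w 1 = 1 + sr f _ lam * c := by rw [← hc, add_sub_cancel]
  obtain ⟨x0, hx0⟩ := exists_tvb f c (hc' ▸ isUnit_chb f w 1)
  have hx0w : x0 ≫ (Over.pullback f).map (alpha R lam) = w := by
    apply chbGm_ext f
    rw [chb_alpha, hx0, hc']
  have mh := TorsLift.isMonHom_map f (alpha R lam)
  have equiv0 (T : Over X) (hT : Flat T.hom) (t : T ⟶ V) (g : T ⟶ Red.bc f (G R lam)) (x : T ⟶ P) :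
      lift t (sm a g x) ≫ x0 = g * (lift t x ≫ x0) := by
    apply un_injective f
    have hT' : Flat (dn f T).hom := by
      change Flat (T.hom ≫ f)
      infer_instance
    apply alpha_injective (T := dn f T) hlam
    rw [← un_map, ← un_map]
    congr 1
    rw [Category.assoc, hx0w, hw, sm_q f q hq, dif_sm_left, @MonObj.mul_comp _ _ _ _ _ _ _ _ _ _ _ mh, Category.assoc, hx0w, hw]
  have equiv (T : Over X) (t : T ⟶ V) (g : T ⟶ Red.bc f (G R lam)) (x : T ⟶ P) :
      lift t (sm a g x) ≫ x0 = g * (lift t x ≫ x0) := by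
    have h1 := equiv0 (V ⊗ (Red.bc f (G R lam) ⊗ P)) hf2 (fst _ _) (snd _ _ ≫ fst _ _) (snd _ _ ≫ snd _ _)
    have h2 := congr(lift t (lift g x) ≫ $h1)
    rw [MonObj.comp_mul, ← Category.assoc, ← Category.assoc, ← Category.assoc, comp_lift, comp_lift, comp_sm, lift_fst,
      lift_snd_assoc, lift_snd_assoc, lift_snd, lift_fst, lift_snd, lift_fst] at h2
    exact h2
  obtain ⟨s, -, -⟩ := K826.Descend.existsUnique_glue Scheme.fppfPrecoverage_le_fpqcPrecoverage hP.2 (T := V)
    (Y := P) (fun T t x => sm a ((lift t x ≫ x0)⁻¹) x)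
    (fun T' T'' r t x => by rw [comp_sm, GrpObj.comp_inv, ← Category.assoc, comp_lift]) (by
      intro T' t x x'
      have h1 : lift t x ≫ x0 = dif hP.1 x x' * (lift t x' ≫ x0) := by
        rw [← equiv, sm_dif]
      rw [h1, _root_.mul_inv_rev, mul_sm]
      congr 1
      nth_rw 2 [← sm_dif hP.1 x x']
      rw [← mul_sm, inv_mul_cancel, one_sm])
  exact ⟨s⟩

end Push

section Exists
variable {R : Type u} [CommRing R] {X : Scheme.{u}} (f : X ⟶ Spec (CommRingCat.of R)) {lam : R}
  {P : Over X} {a : AlgGrp.Action (Red.bc f (G R lam)) P} (hP : NonAbH1.IsTorsorFor Scheme.fppfPrecoverage a)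

set_option backward.isDefEq.respectTransparency.types false in
lemma isAffineHom_bc {S S' : Scheme.{u}} (c : S' ⟶ S) (G : Over S) [IsAffineHom G.hom] : IsAffineHom (Red.bc c G).hom :=
  MorphismProperty.pullback_snd (P := @IsAffineHom) G.hom c inferInstance

include hP in
/-- The push forward along `α` exists. -/
theorem exists_push : ∃ (Q : Over X) (b : AlgGrp.Action (Red.bc f (Red.diag R ℤ)) Q) (q : P ⟶ Q),
    NonAbH1.IsTorsorFor Scheme.fppfPrecoverage b ∧
    a.act ≫ q = lift (fst _ P ≫ (Over.pullback f).map (alpha R lam)) (snd _ P ≫ q) ≫ b.act := by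
  have h1 : IsAffineHom (Red.bc f (G R lam)).hom := by
    have : IsAffineHom (G R lam).hom :=
      inferInstanceAs (IsAffineHom (Spec.map (CommRingCat.ofHom (algebraMap R (SekSuwa.A R lam)))))
    exact isAffineHom_bc f _
  have h2 : IsAffineHom (Red.bc f (Red.diag R ℤ)).hom := by
    have : IsAffineHom (Red.diag R ℤ).hom :=
      inferInstanceAs (IsAffineHom (Spec.map (CommRingCat.ofHom (algebraMap R (MonoidAlgebra R (Multiplicative ℤ))))))
    exact isAffineHom_bc f _
  have h3 := TorsLift.isMonHom_map f (alpha R lam)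
  have hP' : NonAbH1.IsLocallyTrivialFor Scheme.fpqcPrecoverage P := by
    obtain ⟨K, hK, hs⟩ := hP.2
    exact ⟨K, Scheme.fppfPrecoverage_le_fpqcPrecoverage _ hK, hs⟩
  obtain ⟨P', q, hq⟩ := @Groth.Agent.S14540.result X (Red.bc f (G R lam)) (Red.bc f (Red.diag R ℤ)) _ _ h1 h2
    ((Over.pullback f).map (alpha R lam)) h3 ⟨P, a, hP.1, hP'⟩
  exact ⟨_, P'.act, q, ⟨P'.isTorsor.1, K826.BcTors.isLocallyTrivialFor_of_hom q hP.2⟩, hq⟩

end Exists

section A1
variable {R : Type u} [CommRing R] {X : Scheme.{u}} (f : X ⟶ Spec (CommRingCat.of R)) {lam : R}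
  {P : Over X} {a : AlgGrp.Action (Red.bc f (G R lam)) P} (hP : NonAbH1.IsTorsorFor Scheme.fppfPrecoverage a)

/-- the closed subscheme where `λ` vanishes, as an `X`-scheme -/
abbrev Zl (lam : R) : Over X :=
  Over.mk (pullback.fst f (Spec.map (CommRingCat.ofHom (Ideal.Quotient.mk (Ideal.span ({lam} : Set R))))))

lemma sr_Zl : sr f (Zl f lam) lam = 0 := by
  have h1 : sr f (Zl f lam) = evS (pullback.snd f (Spec.map (CommRingCat.ofHom (Ideal.Quotient.mk (Ideal.span ({lam} : Set R))))) ≫
      Spec.map (CommRingCat.ofHom (Ideal.Quotient.mk (Ideal.span ({lam} : Set R))))) := by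
    rw [← pullback.condition]; rfl
  rw [h1, evS_comp_SpecMap, RingHom.comp_apply,
    Ideal.Quotient.eq_zero_iff_mem.mpr (Ideal.mem_span_singleton_self _), map_zero]

lemma nonempty_Zl {T : Over X} (hT : sr f T lam = 0) : Nonempty (T ⟶ Zl f lam) := by
  let φ : R ⧸ Ideal.span ({lam} : Set R) →+* Γ(T.left, ⊤) := Ideal.Quotient.lift _ (sr f T) (fun r hr => by
    obtain ⟨c, rfl⟩ := Ideal.mem_span_singleton.mp hr
    rw [map_mul, hT, zero_mul])
  refine ⟨Over.homMk (pullback.lift T.hom (mkS φ) ?_) (pullback.lift_fst _ _ _)⟩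
  apply evS_injective
  rw [evS_comp_SpecMap, evS_mkS]
  rfl

include hP in
theorem hasSectionOver [Flat f] (hlam : lam ∈ nonZeroDivisors R)
    (hunit : Function.Surjective (Units.map
      (Limits.pullback.fst f (Spec.map (CommRingCat.ofHom (Ideal.Quotient.mk (Ideal.span ({lam} : Set R)))))).appTop.hom.toMonoidHom))
    (hpic : ∀ (Q : Over X) (b : AlgGrp.Action (Red.bc f (Red.diag R ℤ)) Q),
      NonAbH1.IsTorsorFor Scheme.fppfPrecoverage b → NonAbH1.HasSectionOver Q (𝟙 X)) :
    NonAbH1.HasSectionOver P (𝟙 X) := by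
  obtain ⟨Q, b, q, hb, hq⟩ := exists_push f hP
  obtain ⟨s, hs⟩ := hpic Q b hb
  let V : Over X := Over.mk (𝟙 X)
  let y : V ⟶ Q := Over.homMk s hs
  let i : Zl f lam ⟶ V := Over.homMk (Zl f lam).hom (Category.comp_id _)
  obtain ⟨h, hh⟩ := exists_mod f hP hb.1 q hq (sr_Zl f) (i ≫ y)
  obtain ⟨w, hw⟩ := hunit (isUnit_chb f h 1).unit
  obtain ⟨w0, hw0⟩ := exists_chbGm f (T := V) (w : Γ(X, ⊤)) w.isUnit
  have hiw : i ≫ w0 = h := by
    apply chbGm_ext f
    rw [chb_comp, hw0]
    exact congr(Units.val $hw)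
  have hVf : Flat V.hom := inferInstanceAs (Flat (𝟙 X))
  obtain ⟨x⟩ := exists_point f hP hb.1 q hq hlam (V := V) (sm b w0 y) (by
    intro T hT t x
    obtain ⟨z⟩ := nonempty_Zl f hT
    rw [hh T z x, comp_sm, ← hiw, ← Category.assoc, ← Category.assoc]
    have : z ≫ i = t := by
      ext1
      have h1 := Over.w (z ≫ i)
      have h2 := Over.w t
      exact (Category.comp_id _).symm.trans (h1.trans (h2.symm.trans (Category.comp_id _)))
    rw [this])
  exact ⟨x.left, Over.w x⟩

end A1

end K831.PushGm
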