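import Groth.Agent.SekSuwa.K831.BcPts
import Groth.Agent.PrincBund.K826.Descend
import Groth.Agent.NonAbH1.K551.Tors

/-!
Lifting points along an equivariant morphism of torsors; base change of homomorphisms.
-/

set_option autoImplicit false
universe u
open CategoryTheory MonoidalCategory CartesianMonoidalCategory MonObj GrpObj AlgebraicGeometry Limits
open Groth.Agent.Books.BorelOrb K551.Tors K831.BcPts

noncomputable section

namespace K831.TorsLift

section
variable {S : Scheme.{u}} {G G' P P' T : Over S} [GrpObj G] [GrpObj G'] (a : AlgGrp.Action G P)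
    (hP : NonAbH1.IsTorsorFor Scheme.fppfPrecoverage a) (a' : AlgGrp.Action G' P')
    (hP' : NonAbH1.IsPseudoTorsorSch a') (φ : G ⟶ G') [IsMonHom φ] (q : P ⟶ P')
    (hq : a.act ≫ q = lift (fst _ P ≫ φ) (snd _ P ≫ q) ≫ a'.act)

include hq in
omit [IsMonHom φ] in
lemma sm_comp {T : Over S} (g : T ⟶ G) (x : T ⟶ P) : sm a g x ≫ q = sm a' (g ≫ φ) (x ≫ q) := by
  rw [sm, sm, Category.assoc, hq, comp_lift_assoc, lift_fst_assoc, lift_snd_assoc]

include hP hP' hq in
/-- If `φ` is bijective on points over `T`, every point of `P'` over `T` lifts to `P`. -/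
theorem exists_lift (hinj : ∀ (T' : Over S) (_ : T' ⟶ T) (g g' : T' ⟶ G), g ≫ φ = g' ≫ φ → g = g')
    (hsurj : ∀ (T' : Over S) (_ : T' ⟶ T) (g' : T' ⟶ G'), ∃ g : T' ⟶ G, g ≫ φ = g') (y : T ⟶ P') :
    ∃ x : T ⟶ P, x ≫ q = y := by
  have hinj' {T' : Over S} (t : T' ⟶ T) {x x' : T' ⟶ P} (hxx : x ≫ q = x' ≫ q) : x = x' := by
    have h1 := sm_comp a a' φ q hq (dif hP.1 x x') x'
    rw [sm_dif, hxx] at h1
    have h2 : dif hP.1 x x' ≫ φ = (1 : T' ⟶ G) ≫ φ := by
      rw [MonObj.one_comp]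
      apply sm_injective hP' (x' ≫ q)
      rw [← h1, one_sm]
    have h3 := hinj T' t _ _ h2
    rw [← sm_dif hP.1 x x', h3, one_sm]
  have hex {T' : Over S} (t : T' ⟶ T) (x : T' ⟶ P) : ∃ z : T' ⟶ P, z ≫ q = t ≫ y := by
    obtain ⟨g, hg⟩ := hsurj T' t (dif hP' (t ≫ y) (x ≫ q))
    exact ⟨sm a g x, by rw [sm_comp a a' φ q hq, hg, sm_dif]⟩
  choose F hF using fun (T' : Over S) (t : T' ⟶ T) (x : T' ⟶ P) => hex t x
  obtain ⟨x, hx, -⟩ := K826.Descend.existsUnique_glue Scheme.fppfPrecoverage_le_fpqcPrecoverage hP.2 (T := T) (Y := P) F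
    (fun T' T'' r t x => hinj' (r ≫ t) (by rw [Category.assoc, hF, hF, Category.assoc]))
    (fun T' t x x' => hinj' t (by rw [hF, hF]))
  refine ⟨x, ?_⟩
  refine K826.Descend.hom_ext_of_locTriv Scheme.fppfPrecoverage_le_fpqcPrecoverage hP.2 (fun T' t p => ?_)
  rw [← Category.assoc, hx T' t p, hF]

end

section
variable {R : Type u} [CommRing R] {X : Scheme.{u}} (f : X ⟶ Spec (CommRingCat.of R))
  {G H : Over (Spec (CommRingCat.of R))} [GrpObj G] [GrpObj H] (φ : G ⟶ H) [IsMonHom φ]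

lemma isMonHom_map : IsMonHom ((Over.pullback f).map φ) := by
  apply Groth.Agent.Sga3B.Pts.isMonHom_of_points
  intro T x y
  apply un_injective f
  rw [un_map, un_mul, un_mul, un_map, un_map, MonObj.mul_comp]

end

end K831.TorsLift
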