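import Groth.Agent.SekSuwa.K831.BcPts
import Groth.Agent.SekSuwa.K831.Kernel
import Groth.Agent.Ega2.Normal
import Groth.Agent.PrincBund.K826.Descend
import Groth.Agent.SekSuwa.K831.TorsLift
import Groth.Agent.NonAbH1.K551.Tors

/-!
Torsors under `G_{λ,N}` over a normal integral scheme whose push forward to `μ_N` is trivial are trivial.
-/

set_option autoImplicit false
universe u
open CategoryTheory MonoidalCategory CartesianMonoidalCategory MonObj GrpObj AlgebraicGeometry Limits
open scoped TensorProduct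
open SekSuwa K831.Pts K831.GPts K831.FlatPts K831.BcPts K831.Kernel Groth.Agent.Sga3B.DSPts

noncomputable section

namespace K831.NormalSec

/-- An integral morphism onto a normal integral scheme with a section over a (quasi-compactly embedded) nonempty open
has a section. -/
theorem exists_section_of_rational {X Y : Scheme.{u}} [IsIntegral X] (hX : Pi1.IsNormalScheme X) (g : Y ⟶ X)
    [IsIntegralHom g] (U : X.Opens) (hU : (U : Set X).Nonempty) [QuasiCompact U.ι] (s : (U : Scheme.{u}) ⟶ Y)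
    (hs : s ≫ g = U.ι) : ∃ s' : X ⟶ Y, s' ≫ g = 𝟙 X := by
  have : Nonempty (U : Scheme.{u}) := hU.to_subtype
  have : QuasiCompact (s ≫ g) := by rw [hs]; infer_instance
  have : QuasiCompact s := QuasiCompact.of_comp s g
  have : IsIntegral s.image := Groth.Agent.Ega2.Normal.isIntegral_image s
  have h1 : s.toImage ≫ (s.imageι ≫ g) = U.ι := by rw [Scheme.Hom.toImage_imageι_assoc, hs]
  have h2 : IsIso (s.imageι ≫ g) :=
    Groth.Agent.Ega2.Normal.isIso_of_integral_hom_of_rational_section hX (s.imageι ≫ g) U hU s.toImage h1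
  exact ⟨inv (s.imageι ≫ g) ≫ s.imageι, by rw [Category.assoc, IsIso.inv_hom_id]⟩

section Unit
variable {R : Type u} [CommRing R] {X : Scheme.{u}} (f : X ⟶ Spec (CommRingCat.of R)) {lam : R} {N : ℕ}
  {h : DivCond lam N} {T : Over X}

/-- Where `λ` is invertible, `α^{λ,N}` is bijective on points. -/
lemma exists_alphaN (hN : 0 < N) (hT : IsUnit (sr f T lam)) (y : T ⟶ Red.bc f (Red.diag R (ZMod N))) :
    ∃ x : T ⟶ Red.bc f (GK R lam N h), x ≫ (Over.pullback f).map (alphaN R lam N h) = y := by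
  obtain ⟨c, hc⟩ := hT.exists_right_inv
  obtain ⟨x, hx⟩ := exists_tkb f (T := T) (h := h) (c * (chb f y 1 - 1)) hN (by
    let _ := (sr f T).toAlgebra
    have h1 := aeval_psiPoly h (c * (chb f y 1 - 1))
    change sr f T (lam ^ N) * Polynomial.eval₂ (sr f T) (c * (chb f y 1 - 1)) (psiPoly lam N h) =
      (1 + sr f T lam * (c * (chb f y 1 - 1))) ^ N - 1 at h1
    rw [← _root_.mul_assoc, hc, _root_.one_mul, add_sub_cancel, chbMu_pow, sub_self, map_pow] at h1
    exact (hT.pow N).mul_left_cancel (h1.trans (mul_zero _).symm))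
  refine ⟨x, chbMu_ext f ?_⟩
  rw [chb_alphaN, hx, ← _root_.mul_assoc, hc, _root_.one_mul, add_sub_cancel]

lemma alphaN_inj (hT : IsUnit (sr f T lam)) {x y : T ⟶ Red.bc f (GK R lam N h)}
    (e : x ≫ (Over.pullback f).map (alphaN R lam N h) = y ≫ (Over.pullback f).map (alphaN R lam N h)) : x = y := by
  apply tkb_ext f
  have h1 := congr(chb f $e 1)
  rw [chb_alphaN, chb_alphaN, add_right_inj] at h1
  exact hT.mul_left_cancel h1

/-- a point of `P'` over a locus where `λ` is invertible lifts uniquely to `P`, if `P → P'` is equivariant along `α`. -/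
theorem exists_lift (hN : 0 < N) {P P' : Over X} (a : AlgGrp.Action (Red.bc f (GK R lam N h)) P)
    (hP : NonAbH1.IsTorsorFor Scheme.fppfPrecoverage a)
    (a' : AlgGrp.Action (Red.bc f (Red.diag R (ZMod N))) P')
    (hP' : NonAbH1.IsPseudoTorsorSch a')
    (q : P ⟶ P') (hq : a.act ≫ q = lift (fst _ P ≫ (Over.pullback f).map (alphaN R lam N h)) (snd _ P ≫ q) ≫ a'.act)
    (hT : IsUnit (sr f T lam)) (y : T ⟶ P') : ∃ x : T ⟶ P, x ≫ q = y := by
  have hunit {T' : Over X} (t : T' ⟶ T) : IsUnit (sr f T' lam) := by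
    rw [← sr_comp f t]
    exact hT.map _
  have := TorsLift.isMonHom_map f (alphaN R lam N h)
  exact TorsLift.exists_lift a hP a' hP' ((Over.pullback f).map (alphaN R lam N h)) q hq
    (fun T' t g g' e => alphaN_inj f (hunit t) e) (fun T' t g => exists_alphaN f hN (hunit t) g) y

end Unit

lemma isUnit_ι_appTop {X : Scheme.{u}} (r : Γ(X, ⊤)) : IsUnit ((X.basicOpen r).ι.appTop.hom r) := by
  have h1 := RingedSpace.isUnit_res_basicOpen X.toRingedSpace r
  change IsUnit ((X.presheaf.map (homOfLE (X.basicOpen_le r)).op).hom r) at h1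
  have h2 : (X.basicOpen r).ι ''ᵁ ⊤ ≤ X.basicOpen r := by simp
  have h3 : (X.basicOpen r).ι.appTop.hom r = (X.presheaf.map (homOfLE h2).op).hom
      ((X.presheaf.map (homOfLE (X.basicOpen_le r)).op).hom r) := by
    rw [Scheme.Opens.ι_appTop, ← CommRingCat.comp_apply, ← Functor.map_comp]
    rfl
  rw [h3]
  exact h1.map _

section Main
variable {R : Type u} [CommRing R] {X : Scheme.{u}} [IsIntegral X] (hX : Pi1.IsNormalScheme X)
  (f : X ⟶ Spec (CommRingCat.of R)) [Flat f] {lam : R} {N : ℕ} {h : DivCond lam N}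

include hX in
theorem hasSectionOver (hN : 0 < N) {P P' : Over X} (a : AlgGrp.Action (Red.bc f (GK R lam N h)) P)
    (hP : NonAbH1.IsTorsorFor Scheme.fppfPrecoverage a)
    (a' : AlgGrp.Action (Red.bc f (Red.diag R (ZMod N))) P')
    (hP' : NonAbH1.IsPseudoTorsorSch a')
    (hpush : NonAbH1.IsPushforwardAlongSch ((Over.pullback f).map (alphaN R lam N h)) a a')
    (htriv : NonAbH1.HasSectionOver P' (𝟙 X)) : NonAbH1.HasSectionOver P (𝟙 X) := by
  obtain ⟨q, hq⟩ := hpush
  obtain ⟨s, hs⟩ := htriv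
  let r : Γ(X, ⊤) := sr f (Over.mk (𝟙 X)) lam
  have hr0 : r ≠ 0 := by
    have h1 : Flat (Over.mk (𝟙 X)).hom := inferInstanceAs (Flat (𝟙 X))
    have h2 := sr_mem f (T := Over.mk (𝟙 X)) h.nzd
    exact nonZeroDivisors.ne_zero h2
  let U : X.Opens := X.basicOpen r
  have hU : (U : Set X).Nonempty := by
    rw [Set.nonempty_iff_ne_empty]
    intro h0
    apply hr0
    rw [← basicOpen_eq_bot_iff]
    ext1
    exact h0
  let T : Over X := Over.mk U.ι
  let t : T ⟶ Over.mk (𝟙 X) := Over.homMk U.ι (Category.comp_id _)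
  have hT : IsUnit (sr f T lam) := by
    have e1 : sr f T lam = U.ι.appTop.hom r := (sr_comp f t lam).symm
    rw [e1]
    exact isUnit_ι_appTop r
  obtain ⟨x, hx⟩ := exists_lift f hN a hP a' hP' q hq hT (t ≫ (Over.homMk s hs : Over.mk (𝟙 X) ⟶ P'))
  have hfinG : IsFinite (Red.bc f (GK R lam N h)).hom := by
    have : IsFinite (GK R lam N h).hom := (isFinLocFreeOfDeg_GK R lam N hN h).1.1
    exact inferInstanceAs (IsFinite (pullback.snd (GK R lam N h).hom f))
  have hfin : IsFinite P.hom := K551.Tors.isFinite_of_torsor hP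
  have : IsIntegralHom P.hom := inferInstance
  obtain ⟨s', hs'⟩ := exists_section_of_rational hX P.hom U hU x.left (Over.w x)
  exact ⟨s', hs'⟩

end Main

end K831.NormalSec
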