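import Groth.Agent.SekSuwa.K831.BcPts
import Groth.Agent.SekSuwa.K831.Kernel
import Mathlib.AlgebraicGeometry.Morphisms.ClosedImmersion

/-!
Characters of `G_{μ,N}` over `R/λ` extend to `G^(μ)`: the reduced polynomial representing the character is multiplicative.
-/

set_option autoImplicit false
universe u
open CategoryTheory MonoidalCategory CartesianMonoidalCategory MonObj GrpObj AlgebraicGeometry Limits
open scoped TensorProduct
open SekSuwa K831.Pts K831.GPts K831.FlatPts K831.BcPts K831.Kernel Groth.Agent.Sga3B.DSPts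

noncomputable section

namespace K831.CharExt

section Poly
open Polynomial
variable {A : Type u} [CommRing A]

lemma eq_zero_of_mk {B : Type u} [CommRing B] {P G : B[X]} (hP : P.Monic) (hG : G.natDegree < P.natDegree)
    (h : AdjoinRoot.mk P G = 0) : G = 0 := by
  by_contra hne
  exact AdjoinRoot.mk_ne_zero_of_natDegree_lt hP hne hG h

lemma step {B : Type u} [CommRing B] [Nontrivial B] (m : B) {F P : B[X]} (hP : P.Monic) (hF : F.natDegree < P.natDegree)
    (y : B) (H : eval₂ (AdjoinRoot.of P) (AdjoinRoot.root P + AdjoinRoot.of P y +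
        AdjoinRoot.of P m * (AdjoinRoot.root P * AdjoinRoot.of P y)) F =
      eval₂ (AdjoinRoot.of P) (AdjoinRoot.root P) F * eval₂ (AdjoinRoot.of P) (AdjoinRoot.of P y) F) (x : B) :
    eval (x + y + m * (x * y)) F = eval x F * eval y F := by
  set G : B[X] := F.comp (X + C y + C m * (X * C y)) - F * C (eval y F) with hG
  have hdeg : G.natDegree ≤ F.natDegree := by
    refine (natDegree_sub_le _ _).trans (max_le ?_ (natDegree_mul_C_le _ _))
    refine natDegree_comp_le.trans ?_
    have : (X + C y + C m * (X * C y)).natDegree ≤ 1 := by compute_degree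
    calc _ ≤ F.natDegree * 1 := Nat.mul_le_mul_left _ this
      _ = _ := _root_.mul_one _
  have h0 : AdjoinRoot.mk P G = 0 := by
    rw [hG, map_sub, map_mul, sub_eq_zero]
    have e1 (Q : B[X]) : AdjoinRoot.mk P Q = eval₂ (AdjoinRoot.of P) (AdjoinRoot.root P) Q := by
      rw [← AdjoinRoot.aeval_eq]; rfl
    rw [e1, e1, e1, eval₂_comp]
    simp only [eval₂_add, eval₂_mul, eval₂_X, eval₂_C]
    rw [H, eval, hom_eval₂, RingHom.comp_id]
  have h1 : G = 0 := eq_zero_of_mk hP (lt_of_le_of_lt hdeg hF) h0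
  have h2 := congr(eval x $h1)
  rw [hG] at h2
  simp only [eval_sub, eval_comp, eval_add, eval_mul, eval_X, eval_C, eval_zero] at h2
  exact sub_eq_zero.mp h2

/-- If `F` of degree `< deg P` satisfies `F(x ⋆ y) = F(x) F(y)` on roots of `P`, it does so everywhere. -/
theorem mul_of_roots (m : A) {F P : A[X]} (hP : P.Monic) (hF : F.natDegree < P.natDegree)
    (H : ∀ (B : Type u) [CommRing B] (s : A →+* B) (x y : B), eval₂ s x P = 0 → eval₂ s y P = 0 →
      eval₂ s (x + y + s m * (x * y)) F = eval₂ s x F * eval₂ s y F)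
    (B : Type u) [CommRing B] (s : A →+* B) (x y : B) :
    eval₂ s (x + y + s m * (x * y)) F = eval₂ s x F * eval₂ s y F := by
  have key : ∀ (B : Type u) [CommRing B] (s : A →+* B) (x y : B), eval₂ s y P = 0 →
      eval₂ s (x + y + s m * (x * y)) F = eval₂ s x F * eval₂ s y F := by
    intro B _ s x y hy
    rcases subsingleton_or_nontrivial B with hB | hB
    · exact Subsingleton.elim _ _
    · have hP' : (P.map s).Monic := hP.map s
      have hdeg : (F.map s).natDegree < (P.map s).natDegree := by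
        rw [hP.natDegree_map]
        exact natDegree_map_le.trans_lt hF
      have := step (s m) hP' hdeg y (by
        have h1 := H (AdjoinRoot (P.map s)) ((AdjoinRoot.of (P.map s)).comp s) (AdjoinRoot.root _)
          (AdjoinRoot.of (P.map s) y) (by
            rw [← eval₂_map]
            exact AdjoinRoot.eval₂_root _) (by
            rw [← hom_eval₂, hy, map_zero])
        rw [eval₂_map, eval₂_map, eval₂_map]
        exact h1) x
      rwa [eval_map, eval_map, eval_map] at this
  rcases subsingleton_or_nontrivial B with hB | hB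
  · exact Subsingleton.elim _ _
  · have hP' : (P.map s).Monic := hP.map s
    have hdeg : (F.map s).natDegree < (P.map s).natDegree := by
      rw [hP.natDegree_map]
      exact natDegree_map_le.trans_lt hF
    have := step (s m) hP' hdeg y (by
      have h1 := key (AdjoinRoot (P.map s)) ((AdjoinRoot.of (P.map s)).comp s) 
        (AdjoinRoot.of (P.map s) y) (AdjoinRoot.root _) (by
          rw [← eval₂_map]
          exact AdjoinRoot.eval₂_root _)
      rw [eval₂_map, eval₂_map, eval₂_map, mul_comm (eval₂ _ _ _), ← h1]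
      congr 1
      simp only [RingHom.comp_apply]
      ring) x
    rwa [eval_map, eval_map, eval_map] at this

end Poly

section Sch
open Polynomial
variable {R : Type u} [CommRing R] (lam mu : R) {N : ℕ} (h : DivCond mu N)

/-- the closed subscheme `λ = 0` of `Spec R` -/
abbrev jq : Spec (CommRingCat.of (R ⧸ Ideal.span ({lam} : Set R))) ⟶ Spec (CommRingCat.of R) :=
  Spec.map (CommRingCat.ofHom (Ideal.Quotient.mk (Ideal.span ({lam} : Set R))))

instance isClosedImmersion_jq : IsClosedImmersion (jq lam) :=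
  IsClosedImmersion.spec_of_surjective _ Ideal.Quotient.mk_surjective

variable {lam}

lemma sr_eq {T : Over (Spec (CommRingCat.of (R ⧸ Ideal.span ({lam} : Set R))))} :
    sr (jq lam) T = (evS T.hom).comp (Ideal.Quotient.mk (Ideal.span ({lam} : Set R))) := by
  rw [sr, str]
  exact evS_comp_SpecMap _ _

/-- Every function on the base change of `G_{μ,N}` to a closed subscheme is a polynomial in the coordinate. -/
lemma exists_poly (hN : 0 < N) (v : Γ((Red.bc (jq lam) (GK R mu N h)).left, ⊤)) :
    ∃ F : R[X], v = eval₂ (sr (jq lam) _) (tkb (jq lam) (𝟙 (Red.bc (jq lam) (GK R mu N h)))) F := by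
  set π : (Red.bc (jq lam) (GK R mu N h)).left ⟶ Spec (CommRingCat.of (AK R mu N h)) :=
    pullback.fst (GK R mu N h).hom (jq lam) with hπ
  have : IsClosedImmersion π := by
    have e1 : IsClosedImmersion (pullback.fst (Spec.map (CommRingCat.ofHom (algebraMap R (AK R mu N h)))) (jq lam)) :=
      inferInstance
    exact e1
  have hs : Function.Surjective π.appTop.hom := (IsClosedImmersion.isAffine_surjective_of_isAffine π).2
  have hev : ev (un (jq lam) (𝟙 (Red.bc (jq lam) (GK R mu N h)))) = evS π := by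
    have e1 : lft (un (jq lam) (𝟙 (Red.bc (jq lam) (GK R mu N h)))) = π := by
      change (((bcEquiv (jq lam) _ (GK R mu N h)).symm (𝟙 _)).left : _ ⟶ _) = π
      rw [bcEquiv_symm_left]
      exact Category.id_comp _
    rw [ev, e1]
  have hs2 : Function.Surjective (evS π) := by
    rw [evS, RingHom.coe_comp]
    exact hs.comp (ConcreteCategory.bijective_of_isIso (Scheme.ΓSpecIso (CommRingCat.of (AK R mu N h))).inv).2
  obtain ⟨a, ha⟩ := hs2 v
  obtain ⟨b, hb⟩ := (equivAK h hN).symm.surjective a
  obtain ⟨F, rfl⟩ := AdjoinRoot.mk_surjective b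
  refine ⟨F, ?_⟩
  have h2 : a = aeval AK.t F := by
    rw [← hb, ← AdjoinRoot.aeval_eq, ← aeval_algHom_apply (equivAK h hN).symm, ← equivAK_t h hN,
      AlgEquiv.symm_apply_apply]
  rw [← ha, h2, ← hev, ev_aeval]
  rfl

theorem exists_extension [Nontrivial R] (hN : 0 < N)
    (φ : Red.bc (jq lam) (GK R mu N h) ⟶ Red.bc (jq lam) (Red.diag R ℤ)) [hφ : IsMonHom φ] :
    ∃ ψ : Red.bc (jq lam) (G R mu) ⟶ Red.bc (jq lam) (Red.diag R ℤ), IsMonHom ψ ∧
      (Over.pullback (jq lam)).map (incl R mu N h) ≫ ψ = φ := by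
  obtain ⟨F₀, hF₀⟩ := exists_poly (lam := lam) mu h hN (chb (jq lam) φ 1)
  have hPm := monic_psiPoly h hN
  have hPd := natDegree_psiPoly h hN
  set F := F₀ %ₘ psiPoly mu N h with hFdef
  have hF : chb (jq lam) φ 1 = eval₂ (sr (jq lam) _) (tkb (jq lam) (𝟙 (Red.bc (jq lam) (GK R mu N h)))) F := by
    have h3 := modByMonic_add_div F₀ (psiPoly mu N h)
    rw [hF₀]
    conv_lhs => rw [← h3, eval₂_add, eval₂_mul, eval_tkb, zero_mul, add_zero]
  have hFd : F.natDegree < N := by
    rw [← hPd]
    apply natDegree_modByMonic_lt _ hPm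
    intro h1
    rw [h1] at hPd
    simp at hPd
    omega
  -- value on points
  have hval {T : Over (Spec (CommRingCat.of (R ⧸ Ideal.span ({lam} : Set R))))}
      (x : T ⟶ Red.bc (jq lam) (GK R mu N h)) :
      chb (jq lam) (x ≫ φ) 1 = eval₂ (sr (jq lam) T) (tkb (jq lam) x) F := by
    rw [chb_comp, hF, hom_eval₂]
    have e1 : (x.left.appTop.hom).comp (sr (jq lam) (Red.bc (jq lam) (GK R mu N h))) = sr (jq lam) T :=
      RingHom.ext fun r => sr_comp (jq lam) x r
    rw [e1, ← tkb_comp, Category.comp_id]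
  let q := Ideal.Quotient.mk (Ideal.span ({lam} : Set R))
  by_cases hA : Subsingleton (R ⧸ Ideal.span ({lam} : Set R))
  · -- everything is empty
    have hE : IsEmpty (Red.bc (jq lam) (G R mu)).left := by
      have : IsEmpty (Spec (CommRingCat.of (R ⧸ Ideal.span ({lam} : Set R)))) := by
        exact (PrimeSpectrum.isEmpty_iff_subsingleton (R := (R ⧸ Ideal.span ({lam} : Set R)))).mpr hA
      exact Function.isEmpty (Red.bc (jq lam) (G R mu)).hom
    have hsub : ∀ (U V : Over (Spec (CommRingCat.of (R ⧸ Ideal.span ({lam} : Set R))))) (a b : U ⟶ V), a = b := by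
      intro U V a b
      have : IsEmpty (Spec (CommRingCat.of (R ⧸ Ideal.span ({lam} : Set R)))) := by
        exact (PrimeSpectrum.isEmpty_iff_subsingleton (R := (R ⧸ Ideal.span ({lam} : Set R)))).mpr hA
      have hU : IsEmpty U.left := Function.isEmpty U.hom
      ext1
      exact (isInitialOfIsEmpty (X := U.left)).hom_ext _ _
    refine ⟨1, Groth.Agent.Sga3B.Pts.isMonHom_of_points _ (fun T x y => hsub _ _ _ _), hsub _ _ _ _⟩
  have hmul := mul_of_roots (A := R ⧸ Ideal.span ({lam} : Set R)) (q mu) (F := F.map q) (P := (psiPoly mu N h).map q)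
    (hPm.map q) (by
      rw [not_subsingleton_iff_nontrivial] at hA
      rw [hPm.natDegree_map, hPd]
      exact natDegree_map_le.trans_lt hFd) (by
      intro B _ s x y hx hy
      rw [eval₂_map] at hx hy ⊢
      rw [eval₂_map, eval₂_map]
      let T : Over (Spec (CommRingCat.of (R ⧸ Ideal.span ({lam} : Set R)))) := Over.mk (Spec.map (CommRingCat.ofHom s))
      let io : B →+* Γ(T.left, ⊤) := (Scheme.ΓSpecIso (CommRingCat.of B)).inv.hom
      have hio : Function.Injective io :=
        (ConcreteCategory.bijective_of_isIso (Scheme.ΓSpecIso (CommRingCat.of B)).inv).1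
      have hsr : sr (jq lam) T = io.comp (s.comp q) := by
        rw [sr_eq, ← RingHom.comp_assoc]
        congr 1
        ext a
        exact evS_SpecMap_apply (A := CommRingCat.of B) s a
      have hrt (z : B) (hz : eval₂ (s.comp q) z (psiPoly mu N h) = 0) :
          eval₂ (sr (jq lam) T) (io z) (psiPoly mu N h) = 0 := by
        rw [hsr, ← hom_eval₂, hz, map_zero]
      obtain ⟨x', hx'⟩ := exists_tkb (jq lam) (T := T) (h := h) (io x) hN (hrt x hx)
      obtain ⟨y', hy'⟩ := exists_tkb (jq lam) (T := T) (h := h) (io y) hN (hrt y hy)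
      have h1 : chb (jq lam) ((x' * y') ≫ φ) 1 = chb (jq lam) (x' ≫ φ) 1 * chb (jq lam) (y' ≫ φ) 1 := by
        have e2 := @MonObj.mul_comp _ _ _ _ _ _ _ _ x' y' φ hφ
        rw [e2, chb_mul]
      rw [hval, hval, hval, tkb_mul, hx', hy', hsr] at h1
      apply hio
      rw [map_mul, hom_eval₂, hom_eval₂, hom_eval₂, ← h1]
      congr 1
      simp only [map_add, map_mul, RingHom.comp_apply])
  have hmul' (T : Over (Spec (CommRingCat.of (R ⧸ Ideal.span ({lam} : Set R))))) (b c : Γ(T.left, ⊤)) :
      eval₂ (sr (jq lam) T) (b + c + sr (jq lam) T mu * (b * c)) F =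
        eval₂ (sr (jq lam) T) b F * eval₂ (sr (jq lam) T) c F := by
    have := hmul Γ(T.left, ⊤) (evS T.hom) b c
    rw [eval₂_map, eval₂_map, eval₂_map] at this
    rw [sr_eq]
    exact this
  have hF0 (T : Over (Spec (CommRingCat.of (R ⧸ Ideal.span ({lam} : Set R))))) :
      eval₂ (sr (jq lam) T) 0 F = 1 := by
    have := hval (1 : T ⟶ Red.bc (jq lam) (GK R mu N h))
    have e3 := @MonObj.mul_comp _ _ _ _ _ _ _ _ (1 : T ⟶ Red.bc (jq lam) (GK R mu N h)) 1 φ hφ
    rw [_root_.mul_one] at e3
    have e4 := congr(chb (jq lam) $e3 1)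
    rw [chb_mul] at e4
    have e5 : chb (jq lam) ((1 : T ⟶ Red.bc (jq lam) (GK R mu N h)) ≫ φ) 1 = 1 := by
      refine (isUnit_chb (jq lam) ((1 : T ⟶ Red.bc (jq lam) (GK R mu N h)) ≫ φ) 1).mul_left_cancel ?_
      rw [← e4, _root_.mul_one]
    rw [tkb_one, e5] at this
    exact this.symm
  have hunit {T : Over (Spec (CommRingCat.of (R ⧸ Ideal.span ({lam} : Set R))))} (b : Γ(T.left, ⊤))
      (hb : IsUnit (1 + sr (jq lam) T mu * b)) : IsUnit (eval₂ (sr (jq lam) T) b F) := by
    obtain ⟨c, hc⟩ := hb.exists_right_inv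
    refine IsUnit.of_mul_eq_one (eval₂ (sr (jq lam) T) (-(b * c)) F) ?_
    rw [← hmul', ← hF0 T]
    congr 1
    linear_combination (-b) * hc
  obtain ⟨ψ, hψ⟩ := exists_chbGm (R := R) (jq lam) (T := Red.bc (jq lam) (G R mu))
    (eval₂ (sr (jq lam) _) (tvb (jq lam) (𝟙 (Red.bc (jq lam) (G R mu)))) F)
    (hunit _ (isUnit_tvb (jq lam) _))
  have hvψ {T : Over (Spec (CommRingCat.of (R ⧸ Ideal.span ({lam} : Set R))))}
      (x : T ⟶ Red.bc (jq lam) (G R mu)) :
      chb (jq lam) (x ≫ ψ) 1 = eval₂ (sr (jq lam) T) (tvb (jq lam) x) F := by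
    rw [chb_comp, hψ, hom_eval₂]
    have e1 : (x.left.appTop.hom).comp (sr (jq lam) (Red.bc (jq lam) (G R mu))) = sr (jq lam) T :=
      RingHom.ext fun r => sr_comp (jq lam) x r
    rw [e1, ← tvb_comp, Category.comp_id]
  refine ⟨ψ, Groth.Agent.Sga3B.Pts.isMonHom_of_points ψ (fun T x y => ?_), ?_⟩
  · apply chbGm_ext
    rw [hvψ, chb_mul, hvψ, hvψ, tvb_mul, hmul']
  · apply chbGm_ext
    rw [← Category.id_comp φ, hval, hvψ]
    congr 1
    rw [← tvb_incl, Category.id_comp]

end Sch

end K831.CharExt
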