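import Groth.Agent.SekSuwa.K831.Kernel
import Groth.Agent.NonAbH1.K551.Tors
import Mathlib.AlgebraicGeometry.Sites.Fpqc

/-!
The `G_{λ,N}`-torsor over `Spec R` given by the equation `P(t) = b`, for `1 + λ^N b` a unit.
-/

set_option autoImplicit false
universe u
open CategoryTheory MonoidalCategory CartesianMonoidalCategory MonObj GrpObj AlgebraicGeometry Limits
open scoped TensorProduct
open SekSuwa K831.Pts K831.GPts K831.Kernel Groth.Agent.Books.BorelOrb K551.Tors

noncomputable section

namespace K831.BaseTors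

variable {R : Type u} [CommRing R] {lam : R} {N : ℕ} (h : DivCond lam N) (b : R)

/-- the ring `R[T]/(P(T) - b)` -/
abbrev D : Type u := AdjoinRoot (psiPoly lam N h - Polynomial.C b)

/-- its spectrum -/
abbrev Q : Over (Spec (CommRingCat.of R)) := (Spec (CommRingCat.of (D h b))).asOver (Spec (CommRingCat.of R))

lemma monic (hN : 0 < N) : (psiPoly lam N h - Polynomial.C b).Monic := by
  nontriviality R
  apply (monic_psiPoly h hN).sub_of_left
  refine (Polynomial.degree_C_le).trans_lt ?_
  rw [Polynomial.degree_eq_natDegree (monic_psiPoly h hN).ne_zero, natDegree_psiPoly h hN]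
  exact_mod_cast hN

lemma degree_pos [Nontrivial R] (hN : 0 < N) : (psiPoly lam N h - Polynomial.C b).natDegree ≠ 0 := by
  rw [Polynomial.natDegree_sub_C, natDegree_psiPoly h hN]
  exact hN.ne'

lemma free_D (hN : 0 < N) : Module.Free R (D h b) := AdjoinRoot_free (monic h b hN)

lemma finite_D (hN : 0 < N) : Module.Finite R (D h b) := (AdjoinRoot.powerBasis' (monic h b hN)).finite

lemma nontrivial_D [Nontrivial R] (hN : 0 < N) : Nontrivial (D h b) := by
  have h1 := free_D h b hN
  have h2 := finite_D h b hN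
  apply Module.nontrivial_of_finrank_pos (R := R)
  rw [(AdjoinRoot.powerBasis' (monic h b hN)).finrank, AdjoinRoot.powerBasis'_dim]
  exact Nat.pos_of_ne_zero (degree_pos h b hN)

lemma flat_Q (hN : 0 < N) : Flat (Q h b).hom := by
  have := free_D h b hN
  change Flat (Spec.map (CommRingCat.ofHom (algebraMap R (D h b))))
  rw [Flat.SpecMap_iff]
  exact RingHom.flat_algebraMap_iff.mpr inferInstance

lemma surjective_Q [Nontrivial R] (hN : 0 < N) : Surjective (Q h b).hom := by
  have h1 := free_D h b hN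
  have h2 := finite_D h b hN
  have h3 := nontrivial_D h b hN
  have h4 : FaithfulSMul R (D h b) := inferInstance
  exact ⟨Algebra.IsIntegral.comap_surjective R (D h b)⟩

lemma lfp_Q (hN : 0 < N) : LocallyOfFinitePresentation (Q h b).hom := by
  have h1 := free_D h b hN
  have h2 := finite_D h b hN
  have hfp : Module.FinitePresentation R (D h b) := Module.finitePresentation_of_projective _ _
  change LocallyOfFinitePresentation (Spec.map (CommRingCat.ofHom (algebraMap R (D h b))))
  rw [HasRingHomProperty.Spec_iff (P := @LocallyOfFinitePresentation)]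
  exact RingHom.finitePresentation_algebraMap.mpr inferInstance

section Points
variable {T T' : Over (Spec (CommRingCat.of R))}

/-- the coordinate of a point -/
def tq (x : T ⟶ Q h b) : Γ(T.left, ⊤) := ev x (AdjoinRoot.root _)

lemma tq_comp (f : T' ⟶ T) (x : T ⟶ Q h b) : tq h b (f ≫ x) = f.left.appTop.hom (tq h b x) := ev_comp_apply _ _ _

lemma eval_tq (x : T ⟶ Q h b) : Polynomial.eval₂ (str T) (tq h b x) (psiPoly lam N h) = str T b := by
  have h1 : Polynomial.aeval (AdjoinRoot.root (psiPoly lam N h - Polynomial.C b)) (psiPoly lam N h - Polynomial.C b) = 0 := by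
    rw [AdjoinRoot.aeval_eq, AdjoinRoot.mk_self]
  have h2 := congr(ev x $h1)
  rw [ev_aeval, map_zero, Polynomial.eval₂_sub, Polynomial.eval₂_C, sub_eq_zero] at h2
  exact h2

lemma tq_ext {x y : T ⟶ Q h b} (e : tq h b x = tq h b y) : x = y := by
  apply Pts.ext
  refine RingHom.ext fun z => ?_
  obtain ⟨P, rfl⟩ := AdjoinRoot.mk_surjective z
  have h2 : (AdjoinRoot.mk (psiPoly lam N h - Polynomial.C b)) P =
      Polynomial.aeval (AdjoinRoot.root (psiPoly lam N h - Polynomial.C b)) P := (AdjoinRoot.aeval_eq P).symm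
  rw [h2, ev_aeval, ev_aeval]
  change Polynomial.eval₂ (str T) (tq h b x) P = Polynomial.eval₂ (str T) (tq h b y) P
  rw [e]

lemma exists_tq (t : Γ(T.left, ⊤)) (ht : Polynomial.eval₂ (str T) t (psiPoly lam N h) = str T b) :
    ∃ x : T ⟶ Q h b, tq h b x = t := by
  have h0 : Polynomial.eval₂ (str T) t (psiPoly lam N h - Polynomial.C b) = 0 := by
    rw [Polynomial.eval₂_sub, Polynomial.eval₂_C, ht, sub_self]
  let φ : D h b →+* Γ(T.left, ⊤) := AdjoinRoot.lift (str T) t h0
  refine ⟨ofEv φ ?_, ?_⟩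
  · refine RingHom.ext fun r => ?_
    exact AdjoinRoot.lift_of h0
  · rw [tq, ev_ofEv]
    exact AdjoinRoot.lift_root h0

lemma pow_tq (x : T ⟶ Q h b) : (1 + str T lam * tq h b x) ^ N = 1 + str T (lam ^ N) * str T b := by
  let _ := (str T).toAlgebra
  have h1 := aeval_psiPoly h (tq h b x)
  change str T (lam ^ N) * Polynomial.eval₂ (str T) (tq h b x) (psiPoly lam N h) =
    (1 + str T lam * tq h b x) ^ N - 1 at h1
  rw [eval_tq] at h1
  rw [h1]
  ring

end Points

variable (hN : 0 < N) (hb : IsUnit (1 + lam ^ N * b))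

include hN hb in
lemma exists_emb : ∃ j : Q h b ⟶ G R lam, ∀ {T : Over (Spec (CommRingCat.of R))} (x : T ⟶ Q h b), tv (x ≫ j) = tq h b x := by
  obtain ⟨j, hj⟩ := exists_tv (T := Q h b) (lam := lam) (tq h b (𝟙 _)) (by
    have h1 : IsUnit ((1 + str (Q h b) lam * tq h b (𝟙 _)) ^ N) := by
      rw [pow_tq, ← map_mul, ← map_one (str (Q h b)), ← map_add]
      exact hb.map _
    exact (isUnit_pow_iff hN.ne').mp h1)
  exact ⟨j, fun x => by rw [tv_comp, hj, ← tq_comp, Category.comp_id]⟩

/-- the embedding into `G^(λ)` -/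
def emb : Q h b ⟶ G R lam := (exists_emb h b hN hb).choose

lemma tv_emb {T : Over (Spec (CommRingCat.of R))} (x : T ⟶ Q h b) : tv (x ≫ emb h b hN hb) = tq h b x :=
  (exists_emb h b hN hb).choose_spec x

lemma mono_emb {T : Over (Spec (CommRingCat.of R))} {x y : T ⟶ Q h b} (e : x ≫ emb h b hN hb = y ≫ emb h b hN hb) : x = y := by
  apply tq_ext
  rw [← tv_emb h b hN hb, ← tv_emb h b hN hb, e]

lemma tv_emb_psi {T : Over (Spec (CommRingCat.of R))} (x : T ⟶ Q h b) :
    tv ((x ≫ emb h b hN hb) ≫ psi R lam N h) = str T b := by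
  rw [tv_psi, ev_kerGen, tv_emb, eval_tq]

lemma exists_emb_eq {T : Over (Spec (CommRingCat.of R))} (y : T ⟶ G R lam) (hy : tv (y ≫ psi R lam N h) = str T b) :
    ∃ x : T ⟶ Q h b, x ≫ emb h b hN hb = y := by
  rw [tv_psi, ev_kerGen] at hy
  obtain ⟨x, hx⟩ := exists_tq h b (tv y) hy
  exact ⟨x, tv_ext (by rw [tv_emb, hx])⟩

lemma incl_psi_eq {T : Over (Spec (CommRingCat.of R))} (g : T ⟶ GK R lam N h) : (g ≫ incl R lam N h) ≫ psi R lam N h = 1 := by
  rw [Category.assoc, SekSuwa.incl_psi, comp_one]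

lemma exists_act {T : Over (Spec (CommRingCat.of R))} (g : T ⟶ GK R lam N h) (x : T ⟶ Q h b) :
    ∃ y : T ⟶ Q h b, y ≫ emb h b hN hb = (g ≫ incl R lam N h) * (x ≫ emb h b hN hb) := by
  apply exists_emb_eq
  rw [MonObj.mul_comp, incl_psi_eq, _root_.one_mul, tv_emb_psi]

/-- the action morphism -/
def actMor : GK R lam N h ⊗ Q h b ⟶ Q h b := (exists_act h b hN hb (fst _ _) (snd _ _)).choose

lemma actMor_emb : actMor h b hN hb ≫ emb h b hN hb =
    (fst _ _ ≫ incl R lam N h) * (snd _ _ ≫ emb h b hN hb) :=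
  (exists_act h b hN hb (fst _ _) (snd _ _)).choose_spec

lemma lift_actMor {T : Over (Spec (CommRingCat.of R))} (g : T ⟶ GK R lam N h) (x : T ⟶ Q h b) :
    (lift g x ≫ actMor h b hN hb) ≫ emb h b hN hb = (g ≫ incl R lam N h) * (x ≫ emb h b hN hb) := by
  rw [Category.assoc, actMor_emb, comp_mul, lift_fst_assoc, lift_snd_assoc]

/-- the action of `G_{λ,N}` -/
def act : AlgGrp.Action (GK R lam N h) (Q h b) where
  act := actMor h b hN hb
  one_act := by
    apply mono_emb h b hN hb
    rw [Category.assoc, actMor_emb, comp_mul, whiskerRight_fst_assoc, whiskerRight_snd_assoc, leftUnitor_hom]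
    have h1 : fst (𝟙_ (Over (Spec (CommRingCat.of R)))) (Q h b) ≫ η[GK R lam N h] ≫ incl R lam N h = 1 := by
      rw [IsMonHom.one_hom, one_eq_one, comp_one]
    rw [h1, _root_.one_mul]
  mul_act := by
    apply mono_emb h b hN hb
    rw [Category.assoc, Category.assoc, Category.assoc, actMor_emb]
    simp only [comp_mul, whiskerRight_fst_assoc, whiskerRight_snd_assoc, whiskerLeft_fst_assoc, whiskerLeft_snd_assoc,
      actMor_emb, mul_eq_mul, mul_comp, associator_hom_fst_assoc,
      associator_hom_snd_fst_assoc, associator_hom_snd_snd_assoc, _root_.mul_assoc]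

lemma sm_emb {T : Over (Spec (CommRingCat.of R))} (g : T ⟶ GK R lam N h) (x : T ⟶ Q h b) :
    sm (act h b hN hb) g x ≫ emb h b hN hb = (g ≫ incl R lam N h) * (x ≫ emb h b hN hb) :=
  lift_actMor h b hN hb g x

theorem isPseudoTorsorSch : NonAbH1.IsPseudoTorsorSch (act h b hN hb) := by
  apply isPseudoTorsorSch_of_points
  intro T x x'
  have h1 : ev ((x ≫ emb h b hN hb) * (x' ≫ emb h b hN hb)⁻¹) (kerGen lam N h) = 0 := by
    rw [← tv_psi, MonObj.mul_comp, GrpObj.inv_comp]
    have h2 : (x ≫ emb h b hN hb) ≫ psi R lam N h = (x' ≫ emb h b hN hb) ≫ psi R lam N h := by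
      apply tv_ext
      rw [tv_emb_psi, tv_emb_psi]
    rw [h2, mul_inv_cancel, tv_one]
  obtain ⟨g, hg⟩ := exists_lift_incl (N := N) (h := h) _ h1
  refine ⟨g, ?_, ?_⟩
  · apply mono_emb h b hN hb
    rw [sm_emb, hg, inv_mul_cancel_right]
  · intro g' hg'
    change sm (act h b hN hb) g' x' = x at hg'
    rw [← cancel_mono (incl R lam N h), hg, ← hg', sm_emb, mul_inv_cancel_right]

theorem isTorsorFor [Nontrivial R] : NonAbH1.IsTorsorFor Scheme.fppfPrecoverage (act h b hN hb) := by
  have h1 := flat_Q h b hN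
  have h2 := surjective_Q h b hN
  have h3 := lfp_Q h b hN
  exact ⟨isPseudoTorsorSch h b hN hb, isLocallyTrivialFor_fppf (Q h b).hom ⟨𝟙 _, Category.id_comp _⟩⟩

end K831.BaseTors
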