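import Groth.Agent.SekSuwa.K831.Pts

/-!
Points of the groups `G^(λ)`, `G_{λ,N}`, `𝔾_m`, `μ_N` over `Spec R` in terms of coordinates.
-/

set_option autoImplicit false
universe u
open CategoryTheory MonoidalCategory CartesianMonoidalCategory MonObj GrpObj AlgebraicGeometry Limits
open scoped TensorProduct
open SekSuwa K831.Pts

noncomputable section

namespace K831.GPts

variable {R : Type u} [CommRing R] {lam : R} {T T' : Over (Spec (CommRingCat.of R))}

section G

/-- the coordinate of a point of G^(λ) -/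
def tv (x : T ⟶ G R lam) : Γ(T.left, ⊤) := ev x A.t

lemma ev_u (x : T ⟶ G R lam) : ev x A.u = 1 + str T lam * tv x := by
  rw [A.u, map_add, map_one, ev_smul]; rfl

lemma tv_inv (x : T ⟶ G R lam) : (1 + str T lam * tv x) * ev x A.inv = 1 := by
  rw [← ev_u, ← map_mul, A.u_mul_inv, map_one]

lemma isUnit_tv (x : T ⟶ G R lam) : IsUnit (1 + str T lam * tv x) :=
  IsUnit.of_mul_eq_one _ (tv_inv x)

lemma ringHom_ext {C : Type u} [CommRing C] {f g : A R lam →+* C}
    (h0 : f.comp (algebraMap R _) = g.comp (algebraMap R _)) (h : f A.t = g A.t) (h' : f A.inv = g A.inv) : f = g := by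
  let _ : Algebra R C := (f.comp (algebraMap R _)).toAlgebra
  let f' : A R lam →ₐ[R] C := ⟨f, fun r => rfl⟩
  let g' : A R lam →ₐ[R] C := ⟨g, fun r => (congr($h0 r)).symm⟩
  have : f' = g' := A.algHom_ext h h'
  exact congr(AlgHom.toRingHom $this)

lemma tv_ext {x y : T ⟶ G R lam} (h : tv x = tv y) : x = y := by
  apply Pts.ext
  apply ringHom_ext
  · rw [ev_algebraMap, ev_algebraMap]
  · exact h
  · have h1 := tv_inv x
    have h2 := tv_inv y
    rw [h] at h1
    calc ev x A.inv = ev x A.inv * ((1 + str T lam * tv y) * ev y A.inv) := by rw [h2, _root_.mul_one]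
      _ = ((1 + str T lam * tv y) * ev x A.inv) * ev y A.inv := by ring
      _ = ev y A.inv := by rw [h1, _root_.one_mul]

lemma tv_mul (x y : T ⟶ G R lam) : tv (x * y) = tv x + tv y + str T lam * (tv x * tv y) := by
  rw [tv, ev_mul_apply, A.comul_t, map_add, map_add, ev2_smul, ev2_tmul, ev2_tmul, ev2_tmul, map_one, map_one,
    _root_.one_mul, _root_.mul_one]
  rfl

lemma tv_one : tv (1 : T ⟶ G R lam) = 0 := by
  rw [tv, ev_one_apply, A.counit_t, map_zero]

lemma tv_comp (f : T' ⟶ T) (x : T ⟶ G R lam) : tv (f ≫ x) = f.left.appTop.hom (tv x) := ev_comp_apply _ _ _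

/-- The point of G^(λ) with given coordinate. -/
def mkG (b c : Γ(T.left, ⊤)) (h : (1 + str T lam * b) * c = 1) : T ⟶ G R lam :=
  ofEv (letI := (str T).toAlgebra; (A.lift R lam b c (by rw [Algebra.smul_def]; exact h)).toRingHom) (by
    let _ := (str T).toAlgebra
    ext r
    exact (A.lift R lam b c (by rw [Algebra.smul_def]; exact h)).commutes r)

@[simp] lemma tv_mkG (b c : Γ(T.left, ⊤)) (h : (1 + str T lam * b) * c = 1) : tv (mkG b c h) = b := by
  let _ := (str T).toAlgebra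
  rw [tv, mkG, ev_ofEv]
  exact A.lift_t _ _ _

lemma exists_tv (b : Γ(T.left, ⊤)) (h : IsUnit (1 + str T lam * b)) : ∃ x : T ⟶ G R lam, tv x = b := by
  obtain ⟨c, hc⟩ := h.exists_right_inv
  exact ⟨mkG b c hc, tv_mkG b c hc⟩

lemma ev_specHom {B B' : Type u} [CommRing B] [Bialgebra R B] [CommRing B'] [Bialgebra R B'] (f : B →ₐc[R] B')
    (x : T ⟶ (Spec (CommRingCat.of B')).asOver (Spec (CommRingCat.of R))) (b : B) :
    ev (x ≫ specHom f) b = ev x (f b) := by
  rw [ev_comp_right x (specHom f) (f : B →+* B') (specHom_left f)]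
  rfl

lemma tv_psi {N : ℕ} (h : DivCond lam N) (x : T ⟶ G R lam) :
    tv (x ≫ psi R lam N h) = ev x (kerGen lam N h) := by
  rw [tv, psi, ev_specHom, psiHom_t]

lemma ev_aeval {B : Type u} [CommRing B] [Algebra R B]
    (x : T ⟶ (Spec (CommRingCat.of B)).asOver (Spec (CommRingCat.of R))) (b : B) (P : Polynomial R) :
    ev x (Polynomial.aeval b P) = Polynomial.eval₂ (str T) (ev x b) P := by
  rw [Polynomial.aeval_def, Polynomial.hom_eval₂, ev_algebraMap]

lemma ev_kerGen {N : ℕ} (h : DivCond lam N) (x : T ⟶ G R lam) :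
    ev x (kerGen lam N h) = Polynomial.eval₂ (str T) (tv x) (psiPoly lam N h) := by
  rw [kerGen, ev_aeval, tv]

lemma tv_scale (a mu : R) (x : T ⟶ G R (a * mu)) : tv (x ≫ scale R a mu) = str T a * tv x := by
  rw [tv, scale, ev_specHom, scaleHom_t, ev_smul]; rfl

end G

section GK
variable {N : ℕ} {h : DivCond lam N}

/-- the coordinate of a point of G_{λ,N} -/
def tk (x : T ⟶ GK R lam N h) : Γ(T.left, ⊤) := ev x AK.t

lemma tv_incl (x : T ⟶ GK R lam N h) : tv (x ≫ incl R lam N h) = tk x := by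
  rw [tv, incl, ev_specHom]; rfl

lemma tk_comp (f : T' ⟶ T) (x : T ⟶ GK R lam N h) : tk (f ≫ x) = f.left.appTop.hom (tk x) := ev_comp_apply _ _ _

instance mono_incl : Mono (incl R lam N h) := by
  have : IsClosedImmersion (incl R lam N h).left := by
    rw [incl, specHom_left]
    apply IsClosedImmersion.spec_of_surjective
    exact Ideal.Quotient.mk_surjective
  exact Over.mono_of_mono_left _

lemma tk_ext {x y : T ⟶ GK R lam N h} (e : tk x = tk y) : x = y := by
  rw [← cancel_mono (incl R lam N h)]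
  apply tv_ext
  rw [tv_incl, tv_incl, e]

lemma tk_mul (x y : T ⟶ GK R lam N h) : tk (x * y) = tk x + tk y + str T lam * (tk x * tk y) := by
  rw [← tv_incl, mul_comp, tv_mul, tv_incl, tv_incl]

lemma tk_one : tk (1 : T ⟶ GK R lam N h) = 0 := by
  rw [tk, ev_one_apply, AK.counit_t, map_zero]

lemma eval_tk (x : T ⟶ GK R lam N h) : Polynomial.eval₂ (str T) (tk x) (psiPoly lam N h) = 0 := by
  rw [tk, ← ev_aeval, AK.aeval_t, map_zero]

lemma tk_pow (x : T ⟶ GK R lam N h) : (1 + str T lam * tk x) ^ N = 1 := by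
  have := congr(ev x $(AK.u_pow (R := R) (lam := lam) (N := N) (h := h)))
  rw [map_pow, map_add, ev_smul, map_one] at this
  exact this

/-- Points of `G^(λ)` killed by `P` come from `G_{λ,N}`. -/
lemma exists_lift_incl (x : T ⟶ G R lam) (hx : ev x (kerGen lam N h) = 0) :
    ∃ y : T ⟶ GK R lam N h, y ≫ incl R lam N h = x := by
  have key : ∀ a ∈ kerIdeal lam N h, ev x a = 0 := by
    intro a ha
    obtain ⟨c, rfl⟩ := Ideal.mem_span_singleton'.mp ha
    rw [map_mul, hx, mul_zero]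
  let φ : AK R lam N h →+* Γ(T.left, ⊤) := Ideal.Quotient.lift (kerIdeal lam N h) (ev x) key
  have hφ (b : A R lam) : φ (AK.mkHom R lam N h b) = ev x b := rfl
  refine ⟨ofEv (B := AK R lam N h) φ ?_, ?_⟩
  · ext r
    exact ev_algebraMap_apply x r
  · apply Pts.ext
    ext b
    rw [incl, ev_specHom, ev_ofEv, hφ]

lemma exists_tk (b : Γ(T.left, ⊤)) (hN : 0 < N) (hb : Polynomial.eval₂ (str T) b (psiPoly lam N h) = 0) :
    ∃ x : T ⟶ GK R lam N h, tk x = b := by
  have h1 : (1 + str T lam * b) ^ N = 1 := by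
    let _ := (str T).toAlgebra
    have := aeval_psiPoly h b
    change _ * Polynomial.eval₂ (str T) b (psiPoly lam N h) = (1 + str T lam * b) ^ N - 1 at this
    rw [hb, mul_zero] at this
    exact (sub_eq_zero.mp this.symm)
  obtain ⟨x, hx⟩ := exists_tv (lam := lam) b (IsUnit.of_pow_eq_one h1 hN.ne')
  obtain ⟨y, hy⟩ := exists_lift_incl (N := N) (h := h) x (by rw [ev_kerGen, hx, hb])
  exact ⟨y, by rw [← tv_incl, hy, hx]⟩

end GK

section diag
variable {M : Type} [AddCommGroup M]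

/-- the value of a character at a point of a diagonalisable group -/
def ch (x : T ⟶ Red.diag R M) (m : M) : Γ(T.left, ⊤) := ev x (MonoidAlgebra.single (Multiplicative.ofAdd m) 1)

lemma ch_add (x : T ⟶ Red.diag R M) (m n : M) : ch x (m + n) = ch x m * ch x n := by
  rw [ch, ch, ch, ← map_mul, MonoidAlgebra.single_mul_single, _root_.mul_one, ofAdd_add]

lemma ch_zero (x : T ⟶ Red.diag R M) : ch x 0 = 1 := by
  rw [ch, ofAdd_zero, ← MonoidAlgebra.one_def, map_one]

lemma ch_mul (x y : T ⟶ Red.diag R M) (m : M) : ch (x * y) m = ch x m * ch y m := by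
  rw [ch, ev_mul_apply, MonoidAlgebra.comul_single, CommSemiring.comul_apply, TensorProduct.map_tmul, ev2_tmul]
  rfl

lemma ch_one (m : M) : ch (1 : T ⟶ Red.diag R M) m = 1 := by
  rw [ch, ev_one_apply, MonoidAlgebra.counit_single]
  simp

lemma ch_comp (f : T' ⟶ T) (x : T ⟶ Red.diag R M) (m : M) : ch (f ≫ x) m = f.left.appTop.hom (ch x m) := ev_comp_apply _ _ _

lemma ch_ext {x y : T ⟶ Red.diag R M} (h : ∀ m, ch x m = ch y m) : x = y := by
  apply Pts.ext
  apply MonoidAlgebra.ringHom_ext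
  · intro r
    exact (ev_algebraMap_apply x r).trans (ev_algebraMap_apply y r).symm
  · exact fun m => h m.toAdd

/-- The point given by a character with values in the functions. -/
lemma exists_ch (χ : Multiplicative M →* Γ(T.left, ⊤)) : ∃ x : T ⟶ Red.diag R M, ∀ m, ch x m = χ (Multiplicative.ofAdd m) := by
  let _ := (str T).toAlgebra
  refine ⟨ofEv (MonoidAlgebra.lift R Γ(T.left, ⊤) (Multiplicative M) χ).toRingHom ?_, fun m => ?_⟩
  · ext r
    exact (MonoidAlgebra.lift R Γ(T.left, ⊤) (Multiplicative M) χ).commutes r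
  · rw [ch, ev_ofEv]
    simp

lemma isUnit_ch (x : T ⟶ Red.diag R M) (m : M) : IsUnit (ch x m) :=
  IsUnit.of_mul_eq_one (ch x (-m)) (by rw [← ch_add, add_neg_cancel, ch_zero])

end diag

section Gm

lemma ch_natCast (x : T ⟶ Red.diag R ℤ) (n : ℕ) : ch x n = ch x 1 ^ n := by
  induction n with
  | zero => simp [ch_zero]
  | succ n ih => rw [Nat.cast_succ, ch_add, ih, pow_succ]

lemma chGm_ext {x y : T ⟶ Red.diag R ℤ} (h : ch x 1 = ch y 1) : x = y := by
  apply ch_ext
  intro m
  obtain ⟨n, rfl | rfl⟩ := m.eq_nat_or_neg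
  · rw [ch_natCast, ch_natCast, h]
  · have h1 : ch x (-n) * ch x n = 1 := by rw [← ch_add]; simp [ch_zero]
    have h2 : ch y n * ch y (-n) = 1 := by rw [← ch_add]; simp [ch_zero]
    have h3 : ch x (n : ℤ) = ch y n := by rw [ch_natCast, ch_natCast, h]
    rw [h3] at h1
    exact left_inv_eq_right_inv h1 h2

lemma exists_chGm (v : Γ(T.left, ⊤)) (hv : IsUnit v) : ∃ x : T ⟶ Red.diag R ℤ, ch x 1 = v := by
  obtain ⟨x, hx⟩ := exists_ch (R := R) (T := T) (M := ℤ) ((Units.coeHom _).comp (zpowersHom _ hv.unit))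
  exact ⟨x, by rw [hx]; simp⟩

lemma ch_alpha (x : T ⟶ G R lam) : ch (x ≫ alpha R lam) 1 = 1 + str T lam * tv x := by
  rw [ch, alpha, ev_specHom, alphaHom_single_one, ev_u]

end Gm

section mu
variable {N : ℕ}

lemma chMu_natCast (x : T ⟶ Red.diag R (ZMod N)) (n : ℕ) : ch x (n : ZMod N) = ch x 1 ^ n := by
  induction n with
  | zero => simp [ch_zero]
  | succ n ih => rw [Nat.cast_succ, ch_add, ih, pow_succ]

lemma chMu_pow (x : T ⟶ Red.diag R (ZMod N)) : ch x 1 ^ N = 1 := by
  rw [← chMu_natCast, ZMod.natCast_self, ch_zero]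

lemma chMu_ext {x y : T ⟶ Red.diag R (ZMod N)} (h : ch x 1 = ch y 1) : x = y := by
  apply ch_ext
  intro m
  obtain ⟨n, rfl⟩ := ZMod.intCast_surjective m
  obtain ⟨n, rfl | rfl⟩ := n.eq_nat_or_neg
  · rw [Int.cast_natCast, chMu_natCast, chMu_natCast, h]
  · have h1 : ch x (-(n : ZMod N)) * ch x (n : ZMod N) = 1 := by rw [← ch_add]; simp [ch_zero]
    have h2 : ch y (n : ZMod N) * ch y (-(n : ZMod N)) = 1 := by rw [← ch_add]; simp [ch_zero]
    have h3 : ch x (n : ZMod N) = ch y (n : ZMod N) := by rw [chMu_natCast, chMu_natCast, h]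
    rw [h3] at h1
    simpa using left_inv_eq_right_inv h1 h2

lemma exists_chMu (v : Γ(T.left, ⊤)) (hN : 0 < N) (hv : v ^ N = 1) : ∃ x : T ⟶ Red.diag R (ZMod N), ch x 1 = v := by
  have hu : IsUnit v := IsUnit.of_pow_eq_one hv hN.ne'
  have h1 : hu.unit ^ N = 1 := by ext; simpa using hv
  let f : Multiplicative (ZMod N) →* Γ(T.left, ⊤)ˣ :=
    AddMonoidHom.toMultiplicativeLeft (ZMod.lift N ⟨zmultiplesHom (Additive (Γ(T.left, ⊤)ˣ)) (Additive.ofMul hu.unit), by
      change (N : ℤ) • Additive.ofMul hu.unit = 0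
      rw [natCast_zsmul, ← ofMul_pow, h1]; rfl⟩)
  have hf : f (Multiplicative.ofAdd 1) = hu.unit := by
    have : f (Multiplicative.ofAdd ((1 : ℤ) : ZMod N)) = hu.unit := by
      simp only [f, AddMonoidHom.coe_toMultiplicativeLeft, Function.comp_apply, toAdd_ofAdd, ZMod.lift_coe,
        zmultiplesHom_apply, one_smul]
      rfl
    simpa using this
  obtain ⟨x, hx⟩ := exists_ch (R := R) (T := T) (M := ZMod N) ((Units.coeHom _).comp f)
  exact ⟨x, by rw [hx]; simp [hf]⟩

lemma ch_alphaN {h : DivCond lam N} (x : T ⟶ GK R lam N h) : ch (x ≫ alphaN R lam N h) 1 = 1 + str T lam * tk x := by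
  rw [ch, alphaN, ev_specHom, alphaNHom_single_one, map_add, ev_smul, map_one]; rfl

end mu

end K831.GPts
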