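import Groth.Agent.SekSuwa.K831.H90
import Groth.Agent.SekSuwa.K831.GPts
import Groth.Agent.SekSuwa.K831.TorsLift
import Groth.Agent.S14540

/-!
Kummer theory over a local ring: the coordinate of a `μ_N`-torsor.
-/

set_option autoImplicit false
universe u
open CategoryTheory MonoidalCategory CartesianMonoidalCategory MonObj GrpObj AlgebraicGeometry Limits
open scoped TensorProduct
open SekSuwa K831.Pts K831.GPts Groth.Agent.Books.BorelOrb K551.Tors

noncomputable section

namespace K831.MuClass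

variable {R : Type u} [CommRing R]

lemma ch_pow' {T : Over (Spec (CommRingCat.of R))} {M : Type} [AddCommGroup M] (x : T ⟶ Red.diag R M) (n : ℕ) (m : M) :
    ch (x ^ n) m = ch x m ^ n := by
  induction n with
  | zero => rw [pow_zero, pow_zero, ch_one]
  | succ n ih => rw [pow_succ, pow_succ, ch_mul, ih]

variable (R) in
/-- the units of `𝔾_m` -/
def coord : H90.Coord (Red.diag R ℤ) where
  cr x := ch x 1
  cr_comp h x := ch_comp h x 1
  cr_mul x y := ch_mul x y 1
  cr_one := ch_one 1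
  cr_ext h := chGm_ext h
  exists_cr v hv := exists_chGm v hv

variable (R) in
lemma flat_Gm : Flat (Red.diag R ℤ).hom := by
  change Flat (Spec.map (CommRingCat.ofHom (algebraMap R (MonoidAlgebra R (Multiplicative ℤ)))))
  rw [Flat.SpecMap_iff]
  exact RingHom.flat_algebraMap_iff.mpr inferInstance

lemma isAffineHom_diag (M : Type) [AddCommGroup M] : IsAffineHom (Red.diag R M).hom :=
  inferInstanceAs (IsAffineHom (Spec.map (CommRingCat.ofHom (algebraMap R (MonoidAlgebra R (Multiplicative M))))))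

/-- A morphism to a local affine scheme, an open immersion hitting the closed point, is an isomorphism. -/
lemma isIso_of_closedPoint [IsLocalRing R] {U : Scheme.{u}} (ρ : U ⟶ Spec (CommRingCat.of R)) [IsOpenImmersion ρ]
    (h : IsLocalRing.closedPoint R ∈ Set.range ρ) : IsIso ρ := by
  have hr : Set.range ρ = Set.univ := by
    have h1 : IsOpen (Set.range ρ) := ρ.isOpenEmbedding.isOpen_range
    rw [Set.eq_univ_iff_forall]
    intro x
    have h2 : x ⤳ IsLocalRing.closedPoint R := IsLocalRing.specializes_closedPoint x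
    exact h2.mem_open h1 h
  have : Surjective ρ := ⟨Set.range_eq_univ.mp hr⟩
  exact (isIso_iff_isOpenImmersion_and_surjective ρ).mpr ⟨inferInstance, inferInstance⟩

section Push
variable {N : ℕ} {Q : Over (Spec (CommRingCat.of R))} {b : AlgGrp.Action (Red.diag R (ZMod N)) Q}
  (hQ : NonAbH1.IsTorsorFor Scheme.fppfPrecoverage b)

include hQ in
/-- The push forward to `𝔾_m`. -/
theorem exists_push : ∃ (jm : Red.diag R (ZMod N) ⟶ Red.diag R ℤ) (W : Over (Spec (CommRingCat.of R)))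
    (c : AlgGrp.Action (Red.diag R ℤ) W) (q : Q ⟶ W),
    NonAbH1.IsTorsorFor Scheme.fppfPrecoverage c ∧
    (∀ {T : Over (Spec (CommRingCat.of R))} (x : T ⟶ Red.diag R (ZMod N)), ch (x ≫ jm) 1 = ch x 1) ∧
    b.act ≫ q = lift (fst _ Q ≫ jm) (snd _ Q ≫ q) ≫ c.act := by
  obtain ⟨jm, hjm⟩ := exists_chGm (T := Red.diag R (ZMod N)) (ch (𝟙 _) 1) (isUnit_ch _ _)
  have hjm' {T : Over (Spec (CommRingCat.of R))} (x : T ⟶ Red.diag R (ZMod N)) : ch (x ≫ jm) 1 = ch x 1 := by
    rw [ch_comp, hjm, ← ch_comp, Category.comp_id]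
  have h3 := Groth.Agent.Sga3B.Pts.isMonHom_of_points jm (fun T x y => by
    apply chGm_ext
    rw [hjm', ch_mul, ch_mul, hjm', hjm'])
  have h1 : IsAffineHom (Red.diag R (ZMod N)).hom := isAffineHom_diag _
  have h2 : IsAffineHom (Red.diag R ℤ).hom := isAffineHom_diag _
  have hQ' : NonAbH1.IsLocallyTrivialFor Scheme.fpqcPrecoverage Q := by
    obtain ⟨K, hK, hs⟩ := hQ.2
    exact ⟨K, Scheme.fppfPrecoverage_le_fpqcPrecoverage _ hK, hs⟩
  obtain ⟨W, q, hq⟩ := @Groth.Agent.S14540.result (Spec (CommRingCat.of R)) (Red.diag R (ZMod N)) (Red.diag R ℤ) _ _ h1 h2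
    jm h3 ⟨Q, b, hQ.1, hQ'⟩
  exact ⟨jm, _, W.act, q, ⟨W.isTorsor.1, K826.BcTors.isLocallyTrivialFor_of_hom q hQ.2⟩, hjm', hq⟩

/-- `𝔾_m`-torsors over a local ring are trivial. -/
theorem exists_section [IsLocalRing R] {W : Over (Spec (CommRingCat.of R))} {c : AlgGrp.Action (Red.diag R ℤ) W}
    (hc : NonAbH1.IsTorsorFor Scheme.fppfPrecoverage c) : Nonempty (𝟙_ (Over (Spec (CommRingCat.of R))) ⟶ W) := by
  have i1 : IsAffineHom (Red.diag R ℤ).hom := isAffineHom_diag _
  have i2 : Flat (Red.diag R ℤ).hom := flat_Gm R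
  have j1 : IsAffineHom W.hom := isAffineHom_of_torsor hc
  have j2 : Flat W.hom := flat_of_torsor hc
  have j3 : Surjective W.hom := surjective_of_torsor hc
  obtain ⟨A, _, ρ, hρ, hx, ⟨y⟩⟩ := H90.exists_local_section (coord R) hc.1
    Scheme.fppfPrecoverage_le_fpqcPrecoverage hc.2 (IsLocalRing.closedPoint R)
  have := isIso_of_closedPoint ρ hx
  have hy : y.left ≫ W.hom = ρ := Over.w y
  exact ⟨Over.homMk (inv ρ ≫ y.left) (by
    change (inv ρ ≫ y.left) ≫ W.hom = 𝟙 _
    rw [Category.assoc, hy, IsIso.inv_hom_id])⟩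

/-- constants -/
lemma str_unit_surjective : Function.Surjective (str (𝟙_ (Over (Spec (CommRingCat.of R))))) := by
  have h1 : str (𝟙_ (Over (Spec (CommRingCat.of R)))) = (Scheme.ΓSpecIso (CommRingCat.of R)).inv.hom := by
    change evS (𝟙 (Spec (CommRingCat.of R))) = _
    rw [evS, Scheme.Hom.id_appTop]
    rfl
  rw [h1]
  exact (ConcreteCategory.bijective_of_isIso (Scheme.ΓSpecIso (CommRingCat.of R)).inv).2

lemma isUnit_of_str {r : R} (h : IsUnit (str (𝟙_ (Over (Spec (CommRingCat.of R)))) r)) : IsUnit r := by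
  have h1 : str (𝟙_ (Over (Spec (CommRingCat.of R)))) = (Scheme.ΓSpecIso (CommRingCat.of R)).inv.hom := by
    change evS (𝟙 (Spec (CommRingCat.of R))) = _
    rw [evS, Scheme.Hom.id_appTop]
    rfl
  rw [h1] at h
  have h2 := h.map (Scheme.ΓSpecIso (CommRingCat.of R)).hom.hom
  rwa [← CommRingCat.comp_apply, Iso.inv_hom_id] at h2

include hQ in
/-- **Kummer theory over a local ring.** -/
theorem exists_coord [IsLocalRing R] : ∃ (zq : Q ⟶ Red.diag R ℤ) (a0 : R), IsUnit a0 ∧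
    (∀ {T : Over (Spec (CommRingCat.of R))} (g : T ⟶ Red.diag R (ZMod N)) (y : T ⟶ Q),
      ch (sm b g y ≫ zq) 1 = ch g 1 * ch (y ≫ zq) 1) ∧
    ∀ {T : Over (Spec (CommRingCat.of R))} (y : T ⟶ Q), ch (y ≫ zq) 1 ^ N = str T a0 := by
  obtain ⟨jm, W, c, q, hc, hjm, hq⟩ := exists_push hQ
  obtain ⟨w0⟩ := exists_section hc
  let zq : Q ⟶ Red.diag R ℤ := dif hc.1 q (toUnit Q ≫ w0)
  have hz {T : Over (Spec (CommRingCat.of R))} (y : T ⟶ Q) : y ≫ zq = dif hc.1 (y ≫ q) (toUnit T ≫ w0) := by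
    rw [comp_dif, ← Category.assoc y, comp_toUnit]
  have hsm {T : Over (Spec (CommRingCat.of R))} (g : T ⟶ Red.diag R (ZMod N)) (y : T ⟶ Q) :
      sm b g y ≫ q = sm c (g ≫ jm) (y ≫ q) := by
    rw [sm, sm, Category.assoc, hq, comp_lift_assoc, lift_fst_assoc, lift_snd_assoc]
  have hequiv {T : Over (Spec (CommRingCat.of R))} (g : T ⟶ Red.diag R (ZMod N)) (y : T ⟶ Q) :
      ch (sm b g y ≫ zq) 1 = ch g 1 * ch (y ≫ zq) 1 := by
    rw [hz, hsm, dif_sm_left, ch_mul, hjm, ← hz]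
  obtain ⟨a1, ha1, -⟩ := K826.Descend.existsUnique_glue Scheme.fppfPrecoverage_le_fpqcPrecoverage hQ.2
    (T := 𝟙_ (Over (Spec (CommRingCat.of R)))) (Y := Red.diag R ℤ) (fun T t x => (x ≫ zq) ^ N)
    (fun T' T'' r t x => by
      apply chGm_ext
      rw [ch_comp, ch_pow', ch_pow', map_pow, ← ch_comp, Category.assoc])
    (fun T' t x x' => by
      apply chGm_ext
      rw [ch_pow', ch_pow', ← sm_dif hQ.1 x x', hequiv, mul_pow, chMu_pow, _root_.one_mul])
  obtain ⟨a0, ha0⟩ := str_unit_surjective (ch a1 1)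
  refine ⟨zq, a0, isUnit_of_str (ha0 ▸ isUnit_ch a1 1), hequiv, fun {T} y => ?_⟩
  have h1 := ha1 T (toUnit T) y
  have h2 := congr(ch $h1 1)
  rw [ch_comp, ← ha0, str_comp_apply, ch_pow'] at h2
  exact h2.symm

end Push

end K831.MuClass
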