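import Groth.Agent.SekSuwa.K831.PX
import Groth.Agent.SekSuwa.K831.BaseTors
import Groth.Agent.SekSuwa.K831.MuClass

/-!
`G_{λ,N}`-torsors whose push forward to `μ_N` comes from the base come from the base.
-/

set_option autoImplicit false
universe u
open CategoryTheory MonoidalCategory CartesianMonoidalCategory MonObj GrpObj AlgebraicGeometry Limits
open scoped TensorProduct
open SekSuwa K831.Pts K831.GPts K831.FlatPts K831.BcPts Groth.Agent.Books.BorelOrb K551.Tors K831.PX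

noncomputable section

namespace K831.BaseMain

section unQ
variable {S S' : Scheme.{u}} (f : S' ⟶ S) {T T' : Over S'} {G Q : Over S} [GrpObj G]

/-- the underlying point of a point of a base change -/
def unQ (x : T ⟶ Red.bc f Q) : (Over.map f).obj T ⟶ Q := ((Over.mapPullbackAdj f).homEquiv T Q).symm x

/-- the point of a base change given by a point -/
def he (x : (Over.map f).obj T ⟶ Q) : T ⟶ Red.bc f Q := (Over.mapPullbackAdj f).homEquiv T Q x

lemma unQ_he (x : (Over.map f).obj T ⟶ Q) : unQ f (he f x) = x := Equiv.symm_apply_apply _ _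

lemma he_unQ (x : T ⟶ Red.bc f Q) : he f (unQ f x) = x := Equiv.apply_symm_apply _ _

lemma unQ_injective {x y : T ⟶ Red.bc f Q} (h : unQ f x = unQ f y) : x = y :=
  ((Over.mapPullbackAdj f).homEquiv T Q).symm.injective h

lemma unQ_comp (s : T' ⟶ T) (x : T ⟶ Red.bc f Q) : unQ f (s ≫ x) = (Over.map f).map s ≫ unQ f x :=
  (Over.mapPullbackAdj f).homEquiv_naturality_left_symm s x

/-- the action on a base change, on points -/
lemma unQ_sm (b : AlgGrp.Action G Q) (g : T ⟶ Red.bc f G) (y : T ⟶ Red.bc f Q) :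
    unQ f (sm (b.bc f) g y) = sm b ((Groth.Agent.Sga3B.DSPts.bcEquiv f T G).symm g) (unQ f y) := by
  have h1 := AlgGrp.Action.lift_homEquiv_bc_act f b ((Groth.Agent.Sga3B.DSPts.bcEquiv f T G).symm g) (unQ f y)
  have h2 : (Over.mapPullbackAdj f).homEquiv T G ((Groth.Agent.Sga3B.DSPts.bcEquiv f T G).symm g) = g :=
    (Groth.Agent.Sga3B.DSPts.bcEquiv f T G).apply_symm_apply g
  have h3 : (Over.mapPullbackAdj f).homEquiv T Q (unQ f y) = y := he_unQ f y
  rw [h2, h3] at h1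
  rw [sm, h1]
  exact unQ_he f _

end unQ

lemma eval_of_pow {R : Type u} [CommRing R] {lam : R} {N : ℕ} (h : DivCond lam N) {T : Over (Spec (CommRingCat.of R))}
    [Flat T.hom] {t : Γ(T.left, ⊤)} {b : R} (ht : (1 + str T lam * t) ^ N = 1 + str T (lam ^ N) * str T b) :
    Polynomial.eval₂ (str T) t (psiPoly lam N h) = str T b := by
  apply cancel_nzd (str_mem (T := T) h.pow_nzd)
  let _ := (str T).toAlgebra
  have h1 := aeval_psiPoly h t
  change str T (lam ^ N) * Polynomial.eval₂ (str T) t (psiPoly lam N h) = (1 + str T lam * t) ^ N - 1 at h1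
  rw [h1, ht, add_sub_cancel_left]

section Main
open IsLocalRing
variable {R : Type u} [CommRing R] [IsDomain R] [IsDiscreteValuationRing R] {p : ℕ} [hp : Fact p.Prime]
  [CharP (ResidueField R) p] [PerfectField (ResidueField R)] {n : ℕ} {lam : R} {h : DivCond lam (p ^ n)}
  {X : Scheme.{u}} (f : X ⟶ Spec (CommRingCat.of R)) [Flat f] [Surjective f]
  [IsReduced (pullback f (Spec.map (CommRingCat.ofHom (residue R))))]
  {P : Over X} {a : AlgGrp.Action (Red.bc f (GK R lam (p ^ n) h)) P}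
  (hP : NonAbH1.IsTorsorFor Scheme.fppfPrecoverage a)

include hP hp in
/-- A torsor with a semi-invariant function whose power comes from the base comes from the base. -/
theorem exists_base_of_function {z : Γ(P.left, ⊤)} {a0 : R}
    (hz1 : ∀ {T : Over X} (g : T ⟶ Red.bc f (GK R lam (p ^ n) h)) (x : T ⟶ P),
      pb (sm a g x) z = (1 + sr f T lam * tkb f g) * pb x z)
    (hz2 : z ^ p ^ n = sr f P a0) (ha0 : IsUnit a0) :
    ∃ (Q : Over (Spec (CommRingCat.of R))) (b : AlgGrp.Action (SekSuwa.GK R lam (p ^ n) h) Q)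
      (φ : P ≅ Red.bc f Q), NonAbH1.IsTorsorFor Scheme.fppfPrecoverage b ∧
      a.act ≫ φ.hom = (Red.bc f (GK R lam (p ^ n) h) ◁ φ.hom) ≫ (b.bc f).act := by
  have hN : 0 < p ^ n := pow_pos hp.out.pos n
  obtain ⟨c, hc, ⟨b, hb⟩, ⟨t, ht⟩⟩ := exists_const f hP hz1 hz2 ha0
  have hbu : IsUnit (1 + lam ^ p ^ n * b) := hb ▸ ha0.mul (hc.pow _)
  have hfG := flat_bcGK f (h := h) hN
  have hfP : Flat P.hom := flat_of_torsor hP
  have hfP' : Flat (dn f P).hom := inferInstanceAs (Flat (P.hom ≫ f))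
  have hfT : Flat (dn f (Red.bc f (GK R lam (p ^ n) h) ⊗ P)).hom := by
    have h1 : Flat (Red.bc f (GK R lam (p ^ n) h) ⊗ P).hom := by
      rw [Over.tensorObj_hom]
      infer_instance
    exact inferInstanceAs (Flat ((Red.bc f (GK R lam (p ^ n) h) ⊗ P).hom ≫ f))
  obtain ⟨φ0, hφ0⟩ := BaseTors.exists_tq h b (T := dn f P) t (eval_of_pow (T := dn f P) h (by
    change (1 + sr f P lam * t) ^ p ^ n = 1 + sr f P (lam ^ p ^ n) * sr f P b
    rw [← ht, mul_pow, hz2, ← map_pow, ← map_mul, mul_comm (c ^ p ^ n), hb, map_add, map_one, map_mul]))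
  have hpb {T : Over X} (x : T ⟶ P) : BaseTors.tq h b ((Over.map f).map x ≫ φ0) = pb x t := by
    rw [BaseTors.tq_comp, hφ0]
    rfl
  let φ : P ⟶ Red.bc f (BaseTors.Q h b) := he f φ0
  let B := BaseTors.act h b hN hbu
  have hφ : a.act ≫ φ = (Red.bc f (GK R lam (p ^ n) h) ◁ φ) ≫ (B.bc f).act := by
    have h2 : (Red.bc f (GK R lam (p ^ n) h) ◁ φ) ≫ (B.bc f).act =
        sm (B.bc f) (fst (Red.bc f (GK R lam (p ^ n) h)) P) (snd (Red.bc f (GK R lam (p ^ n) h)) P ≫ φ) := by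
      rw [sm]
      congr 1
    rw [h2]
    apply unQ_injective f
    rw [unQ_sm, unQ_comp, unQ_comp, unQ_he]
    apply BaseTors.mono_emb h b hN hbu
    apply tv_ext
    rw [BaseTors.tv_emb, BaseTors.sm_emb, tv_mul, tv_incl, BaseTors.tv_emb, hpb, hpb]
    have h0 := str_mem (T := dn f (Red.bc f (GK R lam (p ^ n) h) ⊗ P)) h.nzd
    apply cancel_nzd h0
    change sr f (Red.bc f (GK R lam (p ^ n) h) ⊗ P) lam * pb a.act t = sr f (Red.bc f (GK R lam (p ^ n) h) ⊗ P) lam *
      (tkb f (fst (Red.bc f (GK R lam (p ^ n) h)) P) + pb (snd (Red.bc f (GK R lam (p ^ n) h)) P) t +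
        sr f (Red.bc f (GK R lam (p ^ n) h) ⊗ P) lam *
          (tkb f (fst (Red.bc f (GK R lam (p ^ n) h)) P) * pb (snd (Red.bc f (GK R lam (p ^ n) h)) P) t))
    have h3 := hz1 (fst (Red.bc f (GK R lam (p ^ n) h)) P) (snd (Red.bc f (GK R lam (p ^ n) h)) P)
    have h4 : sm a (fst (Red.bc f (GK R lam (p ^ n) h)) P) (snd (Red.bc f (GK R lam (p ^ n) h)) P) = a.act := by
      rw [sm, lift_fst_snd, Category.id_comp]
    rw [h4] at h3
    have h5 := congr(pb a.act $ht)
    have h6 := congr(pb (snd (Red.bc f (GK R lam (p ^ n) h)) P) $ht)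
    rw [map_mul, map_add, map_mul, map_one, pb_sr, pb_sr] at h5 h6
    rw [h3] at h5
    generalize sr f (Red.bc f (GK R lam (p ^ n) h) ⊗ P) lam = l at *
    generalize sr f (Red.bc f (GK R lam (p ^ n) h) ⊗ P) c = c' at *
    generalize tkb f (fst (Red.bc f (GK R lam (p ^ n) h)) P) = k at *
    have h7 : l * pb a.act t = c' * ((1 + l * k) * pb (snd (Red.bc f (GK R lam (p ^ n) h)) P) z) - 1 := by
      rw [h5]; ring
    have h8 : c' * ((1 + l * k) * pb (snd (Red.bc f (GK R lam (p ^ n) h)) P) z) =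
        (1 + l * k) * (1 + l * pb (snd (Red.bc f (GK R lam (p ^ n) h)) P) t) := by
      rw [← h6]; ring
    rw [h7, h8]
    ring
  have hQ := BaseTors.isTorsorFor h b hN hbu
  have hiso : IsIso φ := isIso_of_equivariant hP (NonAbH1.isPseudoTorsorSch_bc f hQ.1) φ hφ
  exact ⟨BaseTors.Q h b, B, asIso φ, hQ, hφ⟩

include hP hp in
theorem exists_base {P' : Over X} {a' : AlgGrp.Action (Red.bc f (Red.diag R (ZMod (p ^ n)))) P'}
    (q : P ⟶ P')
    (hq : a.act ≫ q = lift (fst _ P ≫ (Over.pullback f).map (alphaN R lam (p ^ n) h)) (snd _ P ≫ q) ≫ a'.act)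
    {Q' : Over (Spec (CommRingCat.of R))} {b' : AlgGrp.Action (Red.diag R (ZMod (p ^ n))) Q'}
    (hQ' : NonAbH1.IsTorsorFor Scheme.fppfPrecoverage b') (i' : P' ≅ Red.bc f Q')
    (hi' : a'.act ≫ i'.hom = (Red.bc f (Red.diag R (ZMod (p ^ n))) ◁ i'.hom) ≫ (b'.bc f).act) :
    ∃ (Q : Over (Spec (CommRingCat.of R))) (b : AlgGrp.Action (SekSuwa.GK R lam (p ^ n) h) Q)
      (φ : P ≅ Red.bc f Q), NonAbH1.IsTorsorFor Scheme.fppfPrecoverage b ∧
      a.act ≫ φ.hom = (Red.bc f (GK R lam (p ^ n) h) ◁ φ.hom) ≫ (b.bc f).act := by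
  obtain ⟨zq, a0, ha0, hz, hzN⟩ := MuClass.exists_coord hQ'
  let τ : dn f P ⟶ Q' := unQ f (q ≫ i'.hom)
  let z : Γ(P.left, ⊤) := ch (τ ≫ zq) 1
  have hpb {T : Over X} (x : T ⟶ P) : pb x z = ch (unQ f (x ≫ q ≫ i'.hom) ≫ zq) 1 := by
    rw [unQ_comp, Category.assoc, ch_comp]
    rfl
  refine exists_base_of_function f hP (z := z) (a0 := a0) (fun {T} g x => ?_) (hzN τ) ha0
  have h1 : sm a g x ≫ q = sm a' (g ≫ (Over.pullback f).map (alphaN R lam (p ^ n) h)) (x ≫ q) := by
    rw [sm, sm, Category.assoc, hq, comp_lift_assoc, lift_fst_assoc, lift_snd_assoc]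
  have h2 (g' : T ⟶ Red.bc f (Red.diag R (ZMod (p ^ n)))) (y : T ⟶ P') :
      sm a' g' y ≫ i'.hom = sm (b'.bc f) g' (y ≫ i'.hom) := by
    rw [sm, sm, Category.assoc, hi', ← Category.assoc]
    congr 1
    apply CartesianMonoidalCategory.hom_ext <;> simp
  rw [hpb, hpb, ← Category.assoc, h1, h2, unQ_sm, hz, Category.assoc]
  congr 1
  change chb f (g ≫ (Over.pullback f).map (alphaN R lam (p ^ n) h)) 1 = _
  rw [chb_alphaN]

end Main

end K831.BaseMain
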