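import Groth.Prelude.Def_CGrpSh

/-!
`Ext` groups of commutative group schemes killed by an integer killing the first variable.
-/

set_option autoImplicit false
universe u
open CategoryTheory MonoidalCategory CartesianMonoidalCategory MonObj GrpObj AlgebraicGeometry Limits Opposite

noncomputable section

namespace K831.ExtKill

variable (K : Precoverage Scheme.{u}) {S : Scheme.{u}} [(QuotSh.J K S).Subcanonical]

omit [(QuotSh.J K S).Subcanonical] in
lemma nsmul_app {F F' : BigSite.Ab K S} (f : F ⟶ F') (m : ℕ) (T : (Over S)ᵒᵖ) (x : F.obj.obj T) :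
    (m • f).hom.app T x = m • (f.hom.app T x) := by
  induction m with
  | zero => rw [zero_smul, zero_smul]; rfl
  | succ n ih =>
    rw [succ_nsmul, succ_nsmul, ← ih]
    rfl

/-- If the `m`-th power map of `G` is trivial then multiplication by `m` on the sheaf of `G` is zero. -/
lemma nsmul_id_pts (G : Over S) [GrpObj G] [IsCommMonObj G] (m : ℕ) (h : (𝟙 G : G ⟶ G) ^ m = 1) :
    m • 𝟙 (CGrpSh.pts K G) = 0 := by
  refine Sheaf.hom_ext (NatTrans.ext (funext fun T => AddCommGrpCat.ext fun x => ?_))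
  refine (nsmul_app K (𝟙 (CGrpSh.pts K G)) m T x).trans ?_
  refine ULift.ext _ _ ?_
  change m • x.down = 0
  apply Additive.toMul.injective
  change x.down.toMul ^ m = 1
  have h1 : x.down.toMul ^ m = x.down.toMul ≫ (𝟙 G : G ⟶ G) ^ m := by
    rw [comp_pow, Category.comp_id]
  rw [h1, h, comp_one]

lemma nsmul_ext {C : Type*} [Category C] [Abelian C] [HasExt C] {X Y : C} (n : ℕ) (x : Abelian.Ext X Y n) (m : ℕ) :
    m • x = (Abelian.Ext.mk₀ (m • 𝟙 X)).comp x (zero_add n) := by
  induction m with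
  | zero => rw [zero_smul, zero_smul, Abelian.Ext.mk₀_zero, Abelian.Ext.zero_comp]
  | succ k ih => rw [succ_nsmul, succ_nsmul, Abelian.Ext.mk₀_add, Abelian.Ext.add_comp, ← ih, Abelian.Ext.mk₀_id_comp]

theorem nsmul_extS (G H : Over S) [GrpObj G] [IsCommMonObj G] [GrpObj H] [IsCommMonObj H] (m : ℕ)
    (h : (𝟙 G : G ⟶ G) ^ m = 1) (n : ℕ) (x : CGrpSh.ExtS K G H n) : m • x = 0 := by
  rw [nsmul_ext, nsmul_id_pts K G m h, Abelian.Ext.mk₀_zero, Abelian.Ext.zero_comp]

end K831.ExtKill
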