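import Groth.Agent.SekSuwa.K831.FlatPts
import Groth.Agent.Sga3B.DSPts
import Groth.Agent.Sga3B.Pts

/-!
Points of the base changes to `X` of `G^(λ)`, `G_{λ,N}`, `𝔾_m`, `μ_N`, for `f : X ⟶ Spec R`, in terms of coordinates.
-/

set_option autoImplicit false
universe u
open CategoryTheory MonoidalCategory CartesianMonoidalCategory MonObj GrpObj AlgebraicGeometry Limits
open scoped TensorProduct
open SekSuwa K831.Pts K831.GPts K831.FlatPts Groth.Agent.Sga3B.DSPts

noncomputable section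

namespace K831.BcPts

variable {R : Type u} [CommRing R] {X : Scheme.{u}} (f : X ⟶ Spec (CommRingCat.of R))

/-- An `X`-scheme seen over `Spec R`. -/
abbrev dn (T : Over X) : Over (Spec (CommRingCat.of R)) := (Over.map f).obj T

/-- The underlying `R`-point of a point of a base change. -/
def un {T : Over X} {G : Over (Spec (CommRingCat.of R))} [GrpObj G] (x : T ⟶ Red.bc f G) : dn f T ⟶ G :=
  (bcEquiv f T G).symm x

section un
variable {T T' : Over X} {G H : Over (Spec (CommRingCat.of R))} [GrpObj G] [GrpObj H]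

lemma un_injective {x y : T ⟶ Red.bc f G} (h : un f x = un f y) : x = y := (bcEquiv f T G).symm.injective h

lemma un_surjective (y : dn f T ⟶ G) : ∃ x : T ⟶ Red.bc f G, un f x = y := ⟨bcEquiv f T G y, by simp [un]⟩

lemma un_mul (x y : T ⟶ Red.bc f G) : un f (x * y) = un f x * un f y := by simp [un]

lemma un_one : un f (1 : T ⟶ Red.bc f G) = 1 := by simp [un]

lemma un_comp (h : T' ⟶ T) (x : T ⟶ Red.bc f G) : un f (h ≫ x) = (Over.map f).map h ≫ un f x :=
  (bcEquiv_symm_naturality f G h x).symm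

lemma un_map (x : T ⟶ Red.bc f G) (g : G ⟶ H) : un f (x ≫ (Over.pullback f).map g) = un f x ≫ g := by
  apply (bcEquiv f T H).injective
  rw [← bcEquiv_comp]
  simp [un]

end un

section G
variable {lam : R} {T T' : Over X}

/-- coordinate of a point of the base change of `G^(λ)` -/
def tvb (x : T ⟶ Red.bc f (G R lam)) : Γ(T.left, ⊤) := tv (un f x)

/-- structure map from `R` to the functions on an `X`-scheme -/
def sr (T : Over X) : R →+* Γ(T.left, ⊤) := str (dn f T)

lemma sr_comp (h : T' ⟶ T) (r : R) : h.left.appTop.hom (sr f T r) = sr f T' r := str_comp_apply ((Over.map f).map h) r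

lemma tvb_ext {x y : T ⟶ Red.bc f (G R lam)} (h : tvb f x = tvb f y) : x = y := un_injective f (tv_ext h)

lemma tvb_mul (x y : T ⟶ Red.bc f (G R lam)) :
    tvb f (x * y) = tvb f x + tvb f y + sr f T lam * (tvb f x * tvb f y) := by
  rw [tvb, un_mul, tv_mul]; rfl

lemma tvb_one : tvb f (1 : T ⟶ Red.bc f (G R lam)) = 0 := by rw [tvb, un_one, tv_one]

lemma tvb_comp (h : T' ⟶ T) (x : T ⟶ Red.bc f (G R lam)) : tvb f (h ≫ x) = h.left.appTop.hom (tvb f x) := by
  rw [tvb, un_comp, tv_comp]; rfl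

lemma isUnit_tvb (x : T ⟶ Red.bc f (G R lam)) : IsUnit (1 + sr f T lam * tvb f x) :=
  isUnit_tv (un f x)

lemma exists_tvb (b : Γ(T.left, ⊤)) (hb : IsUnit (1 + sr f T lam * b)) : ∃ x : T ⟶ Red.bc f (G R lam), tvb f x = b := by
  obtain ⟨y, hy⟩ := exists_tv (T := dn f T) (lam := lam) b hb
  obtain ⟨x, hx⟩ := un_surjective f y
  exact ⟨x, by rw [tvb, hx, hy]⟩

end G

section GK
variable {lam : R} {N : ℕ} {h : DivCond lam N} {T T' : Over X}

/-- coordinate of a point of the base change of `G_{λ,N}` -/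
def tkb (x : T ⟶ Red.bc f (GK R lam N h)) : Γ(T.left, ⊤) := tk (un f x)

lemma tkb_ext {x y : T ⟶ Red.bc f (GK R lam N h)} (e : tkb f x = tkb f y) : x = y := un_injective f (tk_ext e)

lemma tkb_mul (x y : T ⟶ Red.bc f (GK R lam N h)) :
    tkb f (x * y) = tkb f x + tkb f y + sr f T lam * (tkb f x * tkb f y) := by
  rw [tkb, un_mul, tk_mul]; rfl

lemma tkb_one : tkb f (1 : T ⟶ Red.bc f (GK R lam N h)) = 0 := by rw [tkb, un_one, tk_one]

lemma tkb_comp (e : T' ⟶ T) (x : T ⟶ Red.bc f (GK R lam N h)) : tkb f (e ≫ x) = e.left.appTop.hom (tkb f x) := by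
  rw [tkb, un_comp, tk_comp]; rfl

lemma eval_tkb (x : T ⟶ Red.bc f (GK R lam N h)) : Polynomial.eval₂ (sr f T) (tkb f x) (psiPoly lam N h) = 0 :=
  eval_tk (un f x)

lemma tkb_pow (x : T ⟶ Red.bc f (GK R lam N h)) : (1 + sr f T lam * tkb f x) ^ N = 1 :=
  tk_pow (un f x)

lemma exists_tkb (b : Γ(T.left, ⊤)) (hN : 0 < N) (hb : Polynomial.eval₂ (sr f T) b (psiPoly lam N h) = 0) :
    ∃ x : T ⟶ Red.bc f (GK R lam N h), tkb f x = b := by
  obtain ⟨y, hy⟩ := exists_tk (T := dn f T) (lam := lam) (h := h) b hN hb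
  obtain ⟨x, hx⟩ := un_surjective f y
  exact ⟨x, by rw [tkb, hx, hy]⟩

lemma tvb_incl (x : T ⟶ Red.bc f (GK R lam N h)) :
    tvb f (x ≫ (Over.pullback f).map (incl R lam N h)) = tkb f x := by
  rw [tvb, un_map, tv_incl]; rfl

end GK

section diag
variable {M : Type} [AddCommGroup M] {T T' : Over X}

/-- value of a character at a point of a base changed diagonalisable group -/
def chb (x : T ⟶ Red.bc f (Red.diag R M)) (m : M) : Γ(T.left, ⊤) := ch (un f x) m

lemma chb_mul (x y : T ⟶ Red.bc f (Red.diag R M)) (m : M) : chb f (x * y) m = chb f x m * chb f y m := by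
  rw [chb, un_mul, ch_mul]; rfl

lemma chb_one (m : M) : chb f (1 : T ⟶ Red.bc f (Red.diag R M)) m = 1 := by rw [chb, un_one, ch_one]

lemma chb_comp (h : T' ⟶ T) (x : T ⟶ Red.bc f (Red.diag R M)) (m : M) :
    chb f (h ≫ x) m = h.left.appTop.hom (chb f x m) := by
  rw [chb, un_comp, ch_comp]; rfl

lemma isUnit_chb (x : T ⟶ Red.bc f (Red.diag R M)) (m : M) : IsUnit (chb f x m) := isUnit_ch (un f x) m

lemma chbGm_ext {x y : T ⟶ Red.bc f (Red.diag R ℤ)} (h : chb f x 1 = chb f y 1) : x = y := un_injective f (chGm_ext h)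

lemma exists_chbGm (v : Γ(T.left, ⊤)) (hv : IsUnit v) : ∃ x : T ⟶ Red.bc f (Red.diag R ℤ), chb f x 1 = v := by
  obtain ⟨y, hy⟩ := exists_chGm (R := R) (T := dn f T) v hv
  obtain ⟨x, hx⟩ := un_surjective f y
  exact ⟨x, by rw [chb, hx, hy]⟩

lemma chb_alpha {lam : R} (x : T ⟶ Red.bc f (G R lam)) :
    chb f (x ≫ (Over.pullback f).map (alpha R lam)) 1 = 1 + sr f T lam * tvb f x := by
  rw [chb, un_map, ch_alpha]; rfl

variable {N : ℕ}

lemma chbMu_ext {x y : T ⟶ Red.bc f (Red.diag R (ZMod N))} (h : chb f x 1 = chb f y 1) : x = y :=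
  un_injective f (chMu_ext h)

lemma chbMu_pow (x : T ⟶ Red.bc f (Red.diag R (ZMod N))) : chb f x 1 ^ N = 1 := chMu_pow (un f x)

lemma exists_chbMu (v : Γ(T.left, ⊤)) (hN : 0 < N) (hv : v ^ N = 1) :
    ∃ x : T ⟶ Red.bc f (Red.diag R (ZMod N)), chb f x 1 = v := by
  obtain ⟨y, hy⟩ := exists_chMu (R := R) (T := dn f T) v hN hv
  obtain ⟨x, hx⟩ := un_surjective f y
  exact ⟨x, by rw [chb, hx, hy]⟩

lemma chb_alphaN {lam : R} {h : DivCond lam N} (x : T ⟶ Red.bc f (GK R lam N h)) :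
    chb f (x ≫ (Over.pullback f).map (alphaN R lam N h)) 1 = 1 + sr f T lam * tkb f x := by
  rw [chb, un_map, ch_alphaN]; rfl

end diag

section flat
variable {T : Over X}

lemma sr_mem [Flat f] [Flat T.hom] {r : R} (hr : r ∈ nonZeroDivisors R) : sr f T r ∈ nonZeroDivisors Γ(T.left, ⊤) := by
  have : Flat (dn f T).hom := by
    change Flat (T.hom ≫ f)
    infer_instance
  exact str_mem (T := dn f T) hr

end flat

end K831.BcPts
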