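import Mathlib.LinearAlgebra.Charpoly.Basic
import Mathlib.RingTheory.TensorProduct.Free
import Mathlib.RingTheory.TensorProduct.Maps
import Mathlib.RingTheory.DiscreteValuationRing.Basic
import Mathlib.RingTheory.LocalRing.ResidueField.Basic
import Mathlib.RingTheory.IntegralClosure.IntegrallyClosed
import Mathlib.RingTheory.RootsOfUnity.CyclotomicUnits

/-!
Finite algebras over a domain with enough rational points forming a group (integral models of constant groups):
characters belong to the algebra.
-/

set_option autoImplicit false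
universe u
open scoped TensorProduct

noncomputable section

namespace K831.Core

variable {R : Type u} [CommRing R] {C : Type u} [CommRing C] [Algebra R C] {M : Type*} [Group M]

/-- evaluation on `C ⊗ C` at a pair of points -/
def gg (γ : M → (C →ₐ[R] R)) (m n : M) : C ⊗[R] C →ₐ[R] R :=
  Algebra.TensorProduct.lift (γ m) (γ n) (fun _ _ => Commute.all _ _)

omit [Group M] in
@[simp] lemma gg_tmul (γ : M → (C →ₐ[R] R)) (m n : M) (a b : C) : gg γ m n (a ⊗ₜ b) = γ m a * γ n b :=
  Algebra.TensorProduct.lift_tmul _ _ _ _ _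

/-- An algebra with a comultiplication and a group of rational points which separate functions. -/
structure Form (γ : M → (C →ₐ[R] R)) (Δ : C →ₐ[R] C ⊗[R] C) : Prop where
  inj : ∀ c, (∀ m, γ m c = 0) → c = 0
  dist : Function.Injective γ
  comul : ∀ c m n, gg γ m n (Δ c) = γ (m * n) c

variable {γ : M → (C →ₐ[R] R)} {Δ : C →ₐ[R] C ⊗[R] C} (F : Form γ Δ)

include F in
lemma ext_point {c c' : C} (h : ∀ m, γ m c = γ m c') : c = c' := by
  rw [← sub_eq_zero]
  exact F.inj _ fun m => by rw [map_sub, h, sub_self]

include F in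
/-- pairs of points separate the elements of `C ⊗ C` -/
lemma joint2 [Module.Free R C] [Module.Finite R C] {z : C ⊗[R] C} (h : ∀ m n, gg γ m n z = 0) : z = 0 := by
  let b := Module.Free.chooseBasis R C
  let B := Algebra.TensorProduct.basis C b
  have h1 : ∀ i, B.repr z i = 0 := by
    intro i
    refine F.inj _ fun m => ?_
    have h5 : ∑ i, γ m (B.repr z i) • b i = 0 := F.inj _ fun n => by
      have h4 := congr(gg γ m n $(B.sum_repr z))
      rw [map_sum, h m n] at h4
      rw [map_sum, ← h4]
      refine Finset.sum_congr rfl fun i _ => ?_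
      rw [Algebra.TensorProduct.basis_apply, TensorProduct.smul_tmul', gg_tmul, map_smul, smul_eq_mul,
        smul_eq_mul, mul_one]
    exact Fintype.linearIndependent_iff.mp b.linearIndependent _ h5 i
  exact B.repr.map_eq_zero_iff.mp (Finsupp.ext h1)

include F in
lemma ext2 [Module.Free R C] [Module.Finite R C] {z z' : C ⊗[R] C} (h : ∀ m n, gg γ m n z = gg γ m n z') : z = z' := by
  rw [← sub_eq_zero]
  exact joint2 F fun m n => by rw [map_sub, h, sub_self]

section Density
variable [IsDomain R] [Finite M]

include F in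
/-- up to a denominator every function on the points is in the algebra -/
lemma density : ∃ d : R, d ≠ 0 ∧ ∀ a : M → R, ∃ c : C, ∀ m, γ m c = d * a m := by
  classical
  have := Fintype.ofFinite M
  have h1 : ∀ m n : M, ∃ c : C, n ≠ m → γ m c ≠ 0 ∧ γ n c = 0 := by
    intro m n
    by_cases hmn : n = m
    · exact ⟨0, fun h => absurd hmn h⟩
    · have h2 : γ m ≠ γ n := fun h => hmn (F.dist h).symm
      obtain ⟨c, hc⟩ : ∃ c, γ m c ≠ γ n c := by
        by_contra hcon
        push Not at hcon
        exact h2 (AlgHom.ext hcon)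
      refine ⟨c - algebraMap R C (γ n c), fun _ => ⟨?_, ?_⟩⟩
      · rw [map_sub, AlgHom.commutes]
        exact sub_ne_zero.mpr hc
      · rw [map_sub, AlgHom.commutes]
        exact sub_self _
  choose c hc using h1
  let e (m : M) : C := ∏ n ∈ Finset.univ.erase m, c m n
  have he0 (m : M) : γ m (e m) ≠ 0 := by
    rw [map_prod]
    exact Finset.prod_ne_zero_iff.mpr fun n hn => (hc m n (Finset.ne_of_mem_erase hn)).1
  have he1 (m n : M) (h : n ≠ m) : γ n (e m) = 0 := by
    rw [map_prod]
    exact Finset.prod_eq_zero (Finset.mem_erase.mpr ⟨h, Finset.mem_univ n⟩) (hc m n h).2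
  refine ⟨∏ m, γ m (e m), Finset.prod_ne_zero_iff.mpr fun m _ => he0 m, fun a => ?_⟩
  refine ⟨∑ m, (a m * ∏ n ∈ Finset.univ.erase m, γ n (e n)) • e m, fun m => ?_⟩
  rw [map_sum, Finset.sum_eq_single m]
  · rw [map_smul, smul_eq_mul, ← Finset.mul_prod_erase Finset.univ (fun m => γ m (e m)) (Finset.mem_univ m)]
    ring
  · intro n _ hn
    rw [map_smul, he1 n m hn.symm, smul_zero]
  · intro h
    exact absurd (Finset.mem_univ m) h

end Density

section Char
variable [IsDomain R] [Finite M] [Module.Free R C] [Module.Finite R C] [IsIntegrallyClosed R]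

variable (Δ) in
/-- the convolution operator of a functional -/
def conv (f : C →ₗ[R] R) : C →ₗ[R] C := (TensorProduct.rid R C).toLinearMap ∘ₗ f.lTensor C ∘ₗ Δ.toLinearMap

include F in
/-- **Characters belong to the algebra.** -/
theorem exists_char (χ : M → R) (h1 : χ 1 = 1) (hmul : ∀ m n, χ (m * n) = χ m * χ n) : ∃ x : C, ∀ m, γ m x = χ m := by
  obtain ⟨N, hN, hd⟩ := density F
  obtain ⟨x0, hx0⟩ := hd χ
  have hΔ : N • Δ x0 = x0 ⊗ₜ x0 := by
    apply ext2 F
    intro m n
    rw [map_smul, F.comul, gg_tmul, hx0, hx0, hx0, hmul, smul_eq_mul]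
    ring
  have hT (f : C →ₗ[R] R) : N • conv Δ f x0 = f x0 • x0 := by
    rw [conv, ← map_smul]
    change (TensorProduct.rid R C) (f.lTensor C (Δ (N • x0))) = _
    rw [map_smul, hΔ, LinearMap.lTensor_tmul, TensorProduct.rid_tmul]
  let K := FractionRing R
  have hdvd (f : C →ₗ[R] R) : ∃ r, f x0 = N * r := by
    let T := conv Δ f
    let l : C →ₗ[R] K := (Algebra.linearMap R K) ∘ₗ (γ 1).toLinearMap
    let c0 : K := algebraMap R K (f x0) / algebraMap R K N
    have hNK : algebraMap R K N ≠ 0 := by
      rw [Ne, IsFractionRing.to_map_eq_zero_iff]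
      exact hN
    have hc0 : algebraMap R K N * c0 = algebraMap R K (f x0) := mul_div_cancel₀ _ hNK
    have hl0 : l x0 = algebraMap R K N := by
      change algebraMap R K (γ 1 x0) = _
      rw [hx0, h1, mul_one]
    have hl1 : ∀ j : ℕ, l ((T ^ j) x0) = c0 ^ j * algebraMap R K N := by
      intro j
      induction j with
      | zero => rw [pow_zero, pow_zero, one_mul]; exact hl0
      | succ j ih =>
        have h2 : N • (T ^ (j + 1)) x0 = f x0 • (T ^ j) x0 := by
          rw [pow_succ, ← map_smul]
          change (T ^ j) (T (N • x0)) = _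
          rw [map_smul, hT, map_smul]
        have h3 := congr(l $h2)
        rw [map_smul, map_smul, ih, Algebra.smul_def, Algebra.smul_def] at h3
        apply mul_left_cancel₀ hNK
        rw [h3, ← hc0]
        ring
    have hl2 : ∀ Q : Polynomial R, l (Polynomial.aeval T Q x0) = Polynomial.aeval c0 Q * algebraMap R K N := by
      intro Q
      induction Q using Polynomial.induction_on' with
      | add p q hp hq => rw [map_add, LinearMap.add_apply, map_add, hp, hq, map_add, add_mul]
      | monomial n a =>
        rw [Polynomial.aeval_monomial, Polynomial.aeval_monomial, Algebra.algebraMap_eq_smul_one, smul_mul_assoc, one_mul,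
          LinearMap.smul_apply, map_smul, hl1, Algebra.smul_def, mul_assoc]
    have h4 := hl2 T.charpoly
    rw [LinearMap.aeval_self_charpoly, LinearMap.zero_apply, map_zero] at h4
    have h5 : Polynomial.aeval c0 T.charpoly = 0 := by
      rcases mul_eq_zero.mp h4.symm with h | h
      · exact h
      · exact absurd h hNK
    have h6 : IsIntegral R c0 := ⟨T.charpoly, LinearMap.charpoly_monic T, h5⟩
    obtain ⟨r, hr⟩ := IsIntegrallyClosed.isIntegral_iff.mp h6
    refine ⟨r, IsFractionRing.injective R K ?_⟩
    rw [map_mul, hr, hc0]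
  let b := Module.Free.chooseBasis R C
  choose r hr using fun i => hdvd (b.coord i)
  refine ⟨∑ i, r i • b i, fun m => ?_⟩
  have h7 : N • ∑ i, r i • b i = x0 := by
    conv_rhs => rw [← b.sum_repr x0]
    rw [Finset.smul_sum]
    refine Finset.sum_congr rfl fun i _ => ?_
    rw [smul_smul, ← hr i]
    rfl
  have h8 := congr(γ m $h7)
  rw [map_smul, smul_eq_mul, hx0] at h8
  exact mul_left_cancel₀ hN h8

end Char

section Content
variable [IsDomain R] [IsPrincipalIdealRing R] [Module.Free R C] [Module.Finite R C]

/-- Division by the content. -/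
theorem exists_content {x : C} (hx : x ≠ 0) : ∃ (l : R) (y : C) (f : C →ₗ[R] R), l ≠ 0 ∧ x = l • y ∧ f y = 1 := by
  let b := Module.Free.chooseBasis R C
  let I : Ideal R := Ideal.span (Set.range fun i => b.repr x i)
  let l := Submodule.IsPrincipal.generator I
  have hI : I = Ideal.span {l} := (Ideal.span_singleton_generator I).symm
  have h1 : ∀ i, ∃ d, b.repr x i = l * d := fun i => by
    have : b.repr x i ∈ Ideal.span {l} := hI ▸ Ideal.subset_span ⟨i, rfl⟩
    exact Ideal.mem_span_singleton.mp this
  choose d hd using h1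
  have hl0 : l ≠ 0 := by
    intro h
    apply hx
    apply b.repr.map_eq_zero_iff.mp
    ext i
    rw [hd i, h, zero_mul]
    rfl
  have hlI : l ∈ I := Submodule.IsPrincipal.generator_mem I
  obtain ⟨r, hr⟩ := (Ideal.mem_span_range_iff_exists_fun).mp hlI
  refine ⟨l, ∑ i, d i • b i, ∑ i, r i • b.coord i, hl0, ?_, ?_⟩
  · conv_lhs => rw [← b.sum_repr x]
    rw [Finset.smul_sum]
    refine Finset.sum_congr rfl fun i _ => ?_
    rw [smul_smul, ← hd i]
  · apply mul_left_cancel₀ hl0
    rw [mul_one]
    conv_rhs => rw [← hr]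
    rw [← smul_eq_mul, ← map_smul, Finset.smul_sum, LinearMap.sum_apply]
    have h2 : ∑ i, l • d i • b i = x := by
      conv_rhs => rw [← b.sum_repr x]
      refine Finset.sum_congr rfl fun i _ => ?_
      rw [smul_smul, ← hd i]
    refine Finset.sum_congr rfl fun i _ => ?_
    rw [h2]
    rfl

end Content

end K831.Core
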