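import Groth.Agent.SekSuwa.K831.FibFlat
import Groth.Agent.SekSuwa.K831.OrdP
import Mathlib.RingTheory.Flat.EquationalCriterion

/-!
The homomorphism `G → G_{μ,1}` given by a divided character of order `p` of an integral model `G` of a constant
group is flat, and its kernel is the closure of the generic kernel: algebra.
-/

set_option autoImplicit false
universe u
open scoped TensorProduct
open SekSuwa

noncomputable section

namespace K831.ExtFlat

open K831.Core K831.SpecFib K831.Kernel K831.RankP K831.OrdP K831.FibFlat IsLocalRing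

section Basis
variable {R : Type u} [CommRing R] {l : R} {N : ℕ} (h : DivCond l N) (hN : 0 < N)

/-- the powers of `t` form a basis -/
def basisAK [Nontrivial R] : Module.Basis (Fin N) R (AK R l N h) :=
  ((AdjoinRoot.powerBasis' (monic_psiPoly h hN)).basis.map (equivAK h hN).symm.toLinearEquiv).reindex
    (finCongr ((AdjoinRoot.powerBasis'_dim (monic_psiPoly h hN)).trans (natDegree_psiPoly h hN)))

lemma basisAK_apply [Nontrivial R] (i : Fin N) : basisAK h hN i = AK.t ^ (i : ℕ) := by
  rw [basisAK, Module.Basis.reindex_apply, Module.Basis.map_apply, PowerBasis.basis_eq_pow]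
  change (equivAK h hN).symm _ = _
  rw [map_pow]
  congr 1
  rw [AlgEquiv.symm_apply_eq, equivAK_t]
  exact AdjoinRoot.powerBasis'_gen _

include hN in
lemma exists_aeval (a : AK R l N h) : ∃ Q : Polynomial R, Polynomial.aeval (AK.t : AK R l N h) Q = a := by
  obtain ⟨Q, hQ⟩ := AdjoinRoot.mk_surjective (equivAK h hN a)
  refine ⟨Q, (equivAK h hN).injective ?_⟩
  have h1 : Polynomial.aeval (equivAK h hN AK.t) Q = equivAK h hN (Polynomial.aeval AK.t Q) :=
    Polynomial.aeval_algHom_apply (equivAK h hN).toAlgHom AK.t Q
  rw [← hQ, ← h1, equivAK_t, AdjoinRoot.aeval_eq]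

include hN in
/-- the augmentation ideal is generated by `t` -/
lemma exists_sub_counit (a : AK R l N h) :
    ∃ s, a = algebraMap R _ (CoalgebraStruct.counit (R := R) a) + AK.t * s := by
  obtain ⟨Q, rfl⟩ := exists_aeval h hN a
  have h1 : Polynomial.aeval (AK.t : AK R l N h) Q = algebraMap R _ (Q.coeff 0) + AK.t * Polynomial.aeval AK.t Q.divX := by
    conv_lhs => rw [← Polynomial.divX_mul_X_add Q]
    rw [map_add, map_mul, Polynomial.aeval_X, Polynomial.aeval_C]
    ring
  refine ⟨Polynomial.aeval AK.t Q.divX, ?_⟩
  rw [h1]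
  congr 2
  change _ = Bialgebra.counitAlgHom R (AK R l N h) _
  rw [map_add, map_mul, AlgHom.commutes]
  change _ = _ + CoalgebraStruct.counit (R := R) (AK.t : AK R l N h) * _
  rw [AK.counit_t, zero_mul, add_zero]
  rfl

end Basis

section Inj
variable {R : Type u} [CommRing R] [IsLocalRing R] {l : R} {N : ℕ} (h : DivCond l N) (hN : 0 < N)
  {B : Type u} [CommRing B] [Algebra R B] [Module.Flat R B] {y : B} (hy : Polynomial.aeval y (psiPoly l N h) = 0)
  (hli : LinearIndependent (ResidueField R) (fun i : Fin N => ((1 : ResidueField R) ⊗ₜ[R] y : ResidueField R ⊗[R] B) ^ (i : ℕ)))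

lemma injective_of_basis {k V W ι : Type*} [Ring k] [AddCommGroup V] [Module k V] [AddCommGroup W] [Module k W] [Fintype ι]
    (b : Module.Basis ι k V) (g : V →ₗ[k] W) (hg : LinearIndependent k (fun i => g (b i))) : Function.Injective g := by
  rw [injective_iff_map_eq_zero]
  intro x hx
  have h1 : ∑ i, b.repr x i • g (b i) = 0 := by
    rw [← hx]
    conv_rhs => rw [← b.sum_repr x]
    rw [map_sum]
    simp only [map_smul]
  have h2 := Fintype.linearIndependent_iff.mp hg _ h1
  rw [← b.sum_repr x]
  exact Finset.sum_eq_zero fun i _ => by rw [h2 i, zero_smul]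

include hli in
omit [Module.Flat R B] in
lemma injective_special : Function.Injective
    (Algebra.TensorProduct.map (AlgHom.id (ResidueField R) (ResidueField R)) (th h hN y hy)) := by
  have : Nontrivial R := inferInstance
  have h1 : (fun i => (Algebra.TensorProduct.map (AlgHom.id (ResidueField R) (ResidueField R)) (th h hN y hy)).toLinearMap
      (Algebra.TensorProduct.basis (ResidueField R) (basisAK h hN) i)) =
      fun i : Fin N => ((1 : ResidueField R) ⊗ₜ[R] y : ResidueField R ⊗[R] B) ^ (i : ℕ) := by
    funext i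
    rw [Algebra.TensorProduct.basis_apply, basisAK_apply, AlgHom.toLinearMap_apply, Algebra.TensorProduct.map_tmul,
      map_pow, th_t, Algebra.TensorProduct.tmul_pow, one_pow, map_one]
  apply injective_of_basis (Algebra.TensorProduct.basis (ResidueField R) (basisAK h hN))
    (Algebra.TensorProduct.map (AlgHom.id (ResidueField R) (ResidueField R)) (th h hN y hy)).toLinearMap
  rw [h1]
  exact hli

include hli in
lemma injective_th : Function.Injective (th h hN y hy) := by
  have : Nontrivial R := inferInstance
  apply injective_of_basis (basisAK h hN) (th h hN y hy).toLinearMap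
  have h1 : (fun i => (th h hN y hy).toLinearMap (basisAK h hN i)) = fun i : Fin N => y ^ (i : ℕ) := by
    funext i
    rw [basisAK_apply, AlgHom.toLinearMap_apply, map_pow, th_t]
  rw [h1]
  have h2 : LinearIndependent R (fun i : ULift.{u} (Fin N) => y ^ (i.down : ℕ)) := by
    apply Module.IsLocalRing.linearIndependent_of_flat
    have h3 : (⇑(TensorProduct.mk R (ResidueField R) B 1) ∘ fun i : ULift.{u} (Fin N) => y ^ (i.down : ℕ)) =
        fun i : ULift.{u} (Fin N) => ((1 : ResidueField R) ⊗ₜ[R] y : ResidueField R ⊗[R] B) ^ (i.down : ℕ) := by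
      funext i
      rw [Algebra.TensorProduct.tmul_pow, one_pow]
      rfl
    rw [h3]
    exact hli.comp _ ULift.down_injective
  exact (linearIndependent_equiv (Equiv.ulift.{u} (α := Fin N)) (f := fun i : Fin N => y ^ (i : ℕ))).mp h2

end Inj

section Hom
variable {R : Type u} [CommRing R] {l : R} {N : ℕ} (h : DivCond l N) (hN : 0 < N)
  {B : Type u} [CommRing B] [HopfAlgebra R B] {y : B} (hy : Polynomial.aeval y (psiPoly l N h) = 0)
  (hΔ : CoalgebraStruct.comul (R := R) y = y ⊗ₜ[R] 1 + 1 ⊗ₜ[R] y + l • (y ⊗ₜ[R] y))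

include hΔ in
lemma counit_of_comul (hu : IsUnit (1 + l • y)) (hinj : Function.Injective (algebraMap R B)) :
    CoalgebraStruct.counit (R := R) y = 0 := by
  have h1 := Coalgebra.lTensor_counit_comul (R := R) y
  rw [hΔ, map_add, map_add, map_smul, LinearMap.lTensor_tmul, LinearMap.lTensor_tmul, LinearMap.lTensor_tmul] at h1
  have h2 := congr(TensorProduct.rid R B $h1)
  rw [map_add, map_add, map_smul, TensorProduct.rid_tmul, TensorProduct.rid_tmul, TensorProduct.rid_tmul,
    TensorProduct.rid_tmul] at h2
  have h3 : CoalgebraStruct.counit (R := R) (1 : B) = 1 := Bialgebra.counit_one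
  rw [h3, one_smul, add_assoc, add_eq_left] at h2
  have h4 : (1 + l • y) * algebraMap R B (CoalgebraStruct.counit (R := R) y) = 0 := by
    rw [← h2, Algebra.smul_def, Algebra.smul_def, Algebra.smul_def, Algebra.smul_def]
    ring
  have h5 := (hu.mul_right_eq_zero).mp h4
  exact hinj (h5.trans (map_zero _).symm)

include hΔ in
/-- the bialgebra homomorphism `AK → B` -/
def thc (hε : CoalgebraStruct.counit (R := R) y = 0) : AK R l N h →ₐc[R] B :=
  BialgHom.ofAlgHom (th h hN y hy)
    (by
      apply th_eq_algHom_ext hN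
      change CoalgebraStruct.counit (R := R) (th h hN y hy AK.t) = CoalgebraStruct.counit (R := R) (AK.t : AK R l N h)
      rw [th_t, hε, AK.counit_t])
    (by
      apply th_eq_algHom_ext hN
      change Algebra.TensorProduct.map _ _ (CoalgebraStruct.comul (R := R) (AK.t : AK R l N h)) =
        CoalgebraStruct.comul (R := R) (th h hN y hy AK.t)
      rw [th_t, AK.comul_t, hΔ, map_add, map_add, map_smul, Algebra.TensorProduct.map_tmul, Algebra.TensorProduct.map_tmul,
        Algebra.TensorProduct.map_tmul, map_one, th_t])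

end Hom

section Flat
variable {R : Type u} [CommRing R] [IsDomain R] [IsDiscreteValuationRing R] {l : R} {N : ℕ} (h : DivCond l N) (hN : 0 < N)
  {B : Type u} [CommRing B] [HopfAlgebra R B] [Module.Free R B] [Module.Finite R B] {y : B}
  (hy : Polynomial.aeval y (psiPoly l N h) = 0)
  (hΔ : CoalgebraStruct.comul (R := R) y = y ⊗ₜ[R] 1 + 1 ⊗ₜ[R] y + l • (y ⊗ₜ[R] y))
  (hli : LinearIndependent (ResidueField R) (fun i : Fin N => ((1 : ResidueField R) ⊗ₜ[R] y : ResidueField R ⊗[R] B) ^ (i : ℕ)))

omit [Module.Finite R B] in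
include hΔ hli in
/-- **The homomorphism to `G_{λ,N}` is flat.** -/
theorem flat_th (hε : CoalgebraStruct.counit (R := R) y = 0) : (th h hN y hy).toRingHom.Flat := by
  have := free_AK h hN
  exact flat_of_hopf (thc h hN hy hΔ hε) (injective_special h hN hy hli) (injective_th h hN hy hli)

end Flat

end K831.ExtFlat
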