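import Groth.Agent.SekSuwa.K831.ExtFlat
import Mathlib.LinearAlgebra.FreeModule.PID

/-!
The kernel of the homomorphism `G → G_{μ,1}` given by a divided character: it is an integral model of the kernel of the
character, hence of the form `G_{λ,1}` when the order is `p²`.
-/

set_option autoImplicit false
universe u
open scoped TensorProduct
open SekSuwa

noncomputable section

namespace K831.ExtKer

open K831.Core K831.SpecFib K831.Kernel K831.RankP K831.OrdP K831.FibFlat K831.ExtFlat IsLocalRing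

section FlatDiv
variable {A B : Type u} [CommRing A] [CommRing B] [Algebra A B]

/-- Divisibility descends along a flat map. -/
lemma flat_div [Module.Flat A B] {t q : A} (h : ∀ a b, q * a = t * b → ∃ s, a = t * s) {b c : B}
    (hrel : q • b = t • c) : ∃ c', b = t • c' := by
  have hsum : ∑ i : Fin 2, (![q, -t] : Fin 2 → A) i • (![b, c] : Fin 2 → B) i = 0 := by
    rw [Fin.sum_univ_two]
    simp only [Matrix.cons_val_zero, Matrix.cons_val_one, neg_smul]
    rw [hrel, add_neg_cancel]
  obtain ⟨k, a, z, hz, ha⟩ := Module.Flat.isTrivialRelation_of_sum_smul_eq_zero (R := A) (M := B)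
    (f := ![q, -t]) (x := ![b, c]) hsum
  have ha0 : ∀ j, ∃ s, a 0 j = t * s := by
    intro j
    have h1 := ha j
    rw [Fin.sum_univ_two] at h1
    simp only [Matrix.cons_val_zero, Matrix.cons_val_one] at h1
    refine h (a 0 j) (a 1 j) ?_
    rw [neg_mul, ← sub_eq_add_neg, sub_eq_zero] at h1
    exact h1
  choose s hs using ha0
  refine ⟨∑ j, s j • z j, ?_⟩
  have h6 := hz 0
  simp only [Matrix.cons_val_zero] at h6
  rw [h6, Finset.smul_sum]
  refine Finset.sum_congr rfl fun j _ => ?_
  rw [hs j, mul_smul]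

end FlatDiv

section Vanish
variable {R : Type u} [CommRing R] [IsDomain R] {l : R} {N : ℕ} (h : DivCond l N) (hN : 0 < N)
  {B : Type u} [CommRing B] [Algebra R B] {M : Type*} [Group M] [Finite M] {γ : M → (B →ₐ[R] R)}
  {Δ : B →ₐ[R] B ⊗[R] B} (F : Form γ Δ)
  {y : B} (hy : Polynomial.aeval y (psiPoly l N h) = 0)

include hN in
lemma dvd_of_mul {q : R} (hq : q ≠ 0) (a b : AK R l N h) (hab : algebraMap R (AK R l N h) q * a = AK.t * b) :
    ∃ s, a = AK.t * s := by
  have h2 := congr(Bialgebra.counitAlgHom R (AK R l N h) $hab)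
  rw [map_mul, map_mul, AlgHom.commutes] at h2
  have h3 : Bialgebra.counitAlgHom R (AK R l N h) AK.t = 0 := AK.counit_t (h := h)
  rw [h3, zero_mul] at h2
  have h4 : Bialgebra.counitAlgHom R (AK R l N h) a = 0 := by
    rcases mul_eq_zero.mp h2 with h | h
    · exact absurd h hq
    · exact h
  obtain ⟨s, hs⟩ := exists_sub_counit h hN a
  refine ⟨s, ?_⟩
  have h5 : CoalgebraStruct.counit (R := R) a = 0 := h4
  rw [h5, map_zero, zero_add] at hs
  exact hs

lemma exists_of_flat (hflat : (th h hN y hy).toRingHom.Flat) {q : R} (hq : q ≠ 0) {b c : B} (hrel : q • b = y * c) :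
    ∃ c', b = y * c' := by
  let _ : Algebra (AK R l N h) B := (th h hN y hy).toRingHom.toAlgebra
  have hfl : Module.Flat (AK R l N h) B := hflat
  have halg (a : AK R l N h) (x : B) : a • x = th h hN y hy a * x := rfl
  obtain ⟨c', hc'⟩ := flat_div (A := AK R l N h) (B := B) (t := AK.t) (q := algebraMap R (AK R l N h) q)
    (dvd_of_mul h hN hq) (b := b) (c := c) (by rw [halg, halg, th_t, AlgHom.commutes, ← Algebra.smul_def, hrel])
  refine ⟨c', ?_⟩
  rw [hc', halg, th_t]

include F in
/-- The closure of the zero locus of `y` among the rational points is cut out by `y`. -/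
theorem exists_eq_mul (hflat : (th h hN y hy).toRingHom.Flat) (H : Set M) (hH : ∀ m, γ m y = 0 ↔ m ∈ H) {b : B}
    (hb : ∀ m ∈ H, γ m b = 0) : ∃ c, b = y * c := by
  classical
  have := Fintype.ofFinite M
  obtain ⟨d, hd, hdens⟩ := density F
  let S : Finset M := Finset.univ.filter (· ∉ H)
  let q : R := ∏ m ∈ S, γ m y
  have hq : q ≠ 0 := Finset.prod_ne_zero_iff.mpr fun m hm h0 => (Finset.mem_filter.mp hm).2 ((hH m).mp h0)
  obtain ⟨c, hc⟩ := hdens fun m => if m ∈ S then (∏ m' ∈ S.erase m, γ m' y) * γ m b else 0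
  have hrel : (d * q) • b = y * c := by
    apply ext_point F
    intro m
    rw [map_smul, map_mul, smul_eq_mul, hc]
    by_cases hm : m ∈ S
    · rw [if_pos hm]
      have : q = γ m y * ∏ m' ∈ S.erase m, γ m' y := (Finset.mul_prod_erase S _ hm).symm
      rw [this]
      ring
    · rw [if_neg hm]
      have hmH : m ∈ H := by
        by_contra hcon
        exact hm (Finset.mem_filter.mpr ⟨Finset.mem_univ m, hcon⟩)
      rw [hb m hmH, (hH m).mpr hmH]
      ring
  exact exists_of_flat h hN hy hflat (mul_ne_zero hd hq) hrel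

end Vanish

section Joint
variable {R : Type u} [CommRing R] {C : Type u} [CommRing C] [Algebra R C] {M : Type*} {γ : M → (C →ₐ[R] R)}

lemma joint2' (inj : ∀ c, (∀ m, γ m c = 0) → c = 0) [Module.Free R C] [Module.Finite R C] {z : C ⊗[R] C}
    (h : ∀ m n, gg γ m n z = 0) : z = 0 := by
  let b := Module.Free.chooseBasis R C
  let B := Algebra.TensorProduct.basis C b
  have h1 : ∀ i, B.repr z i = 0 := by
    intro i
    refine inj _ fun m => ?_
    have h5 : ∑ i, γ m (B.repr z i) • b i = 0 := inj _ fun n => by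
      have h4 := congr(gg γ m n $(B.sum_repr z))
      rw [map_sum, h m n] at h4
      rw [map_sum, ← h4]
      refine Finset.sum_congr rfl fun i _ => ?_
      rw [Algebra.TensorProduct.basis_apply, TensorProduct.smul_tmul', gg_tmul, map_smul, smul_eq_mul,
        smul_eq_mul, mul_one]
    exact Fintype.linearIndependent_iff.mp b.linearIndependent _ h5 i
  exact B.repr.map_eq_zero_iff.mp (Finsupp.ext h1)

end Joint

section Quot
variable {R : Type u} [CommRing R] [IsDomain R] [IsPrincipalIdealRing R]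
  {B : Type u} [CommRing B] [Algebra R B] [Module.Finite R B] {M : Type*} [Group M] {γ : M → (B →ₐ[R] R)}
  {Δ : B →ₐ[R] B ⊗[R] B} (F : Form γ Δ) {y : B} {H : Subgroup M} (hH : ∀ m ∈ H, γ m y = 0)
  (hvan : ∀ b : B, (∀ m ∈ H, γ m b = 0) → ∃ c, b = y * c)

/-- the quotient by `y` -/
abbrev Qt (y : B) : Type u := B ⧸ Ideal.span {y}

include hH in
omit [IsDomain R] [IsPrincipalIdealRing R] [Module.Finite R B] in
lemma gam_mem (n : H) (b : B) (hb : b ∈ Ideal.span {y}) : γ n.1 b = 0 := by
  obtain ⟨c, rfl⟩ := Ideal.mem_span_singleton.mp hb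
  rw [map_mul, hH n.1 n.2, zero_mul]

/-- the rational points of the closed subgroup -/
def gq (n : H) : Qt y →ₐ[R] R := Ideal.Quotient.liftₐ (Ideal.span {y}) (γ n.1) (gam_mem hH n)

omit [IsDomain R] [IsPrincipalIdealRing R] [Module.Finite R B] in
@[simp] lemma gq_mk (n : H) (b : B) : gq hH n (Ideal.Quotient.mk _ b) = γ n.1 b := rfl

include hvan in
omit [IsDomain R] [IsPrincipalIdealRing R] [Module.Finite R B] in
lemma gq_joint (c : Qt y) (hc : ∀ n : H, gq hH n c = 0) : c = 0 := by
  obtain ⟨b, rfl⟩ := Ideal.Quotient.mk_surjective c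
  obtain ⟨c, hc'⟩ := hvan b fun m hm => hc ⟨m, hm⟩
  rw [Ideal.Quotient.eq_zero_iff_mem, hc']
  exact Ideal.mul_mem_right _ _ (Ideal.mem_span_singleton_self y)

include hH hvan in
lemma free_Qt : Module.Free R (Qt y) := by
  have h1 : Module.IsTorsionFree R (Qt y) := by
    rw [Module.isTorsionFree_iff_smul_eq_zero]
    intro r c hrc
    by_cases hr : r = 0
    · exact Or.inl hr
    · refine Or.inr (gq_joint hH hvan c fun n => ?_)
      have h2 := congr(gq hH n $hrc)
      rw [map_smul, map_zero, smul_eq_mul] at h2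
      exact (mul_eq_zero.mp h2).resolve_left hr
  exact Module.free_of_finite_type_torsion_free'

/-- reduction of a tensor modulo `y` -/
abbrev mm (y : B) : B ⊗[R] B →ₐ[R] Qt y ⊗[R] Qt y :=
  Algebra.TensorProduct.map (Ideal.Quotient.mkₐ R (Ideal.span {y})) (Ideal.Quotient.mkₐ R (Ideal.span {y}))

omit [IsDomain R] [IsPrincipalIdealRing R] [Module.Finite R B] in
lemma gg_mm (m n : H) (z : B ⊗[R] B) : gg (gq hH) m n (mm y z) = gg γ m.1 n.1 z := by
  induction z using TensorProduct.induction_on with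
  | zero => simp only [map_zero]
  | tmul a b =>
    rw [Algebra.TensorProduct.map_tmul, gg_tmul, gg_tmul]
    rfl
  | add x y hx hy => rw [map_add, map_add, map_add, hx, hy]

include F hH hvan in
lemma mm_comul (b : B) (hb : b ∈ Ideal.span {y}) : mm y (Δ b) = 0 := by
  have := free_Qt hH hvan
  obtain ⟨c, rfl⟩ := Ideal.mem_span_singleton.mp hb
  apply joint2' (gq_joint hH hvan)
  intro m n
  rw [gg_mm, F.comul, map_mul, hH _ (H.mul_mem m.2 n.2), zero_mul]

/-- the comultiplication of the closed subgroup -/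
def dq : Qt y →ₐ[R] Qt y ⊗[R] Qt y :=
  Ideal.Quotient.liftₐ (Ideal.span {y}) ((mm y).comp Δ) (fun b hb => mm_comul F hH hvan b hb)

lemma dq_mk (b : B) : dq F hH hvan (Ideal.Quotient.mk _ b) = mm y (Δ b) := rfl

/-- the closed subgroup is again an integral model of a constant group -/
theorem form_Qt : Form (gq hH) (dq F hH hvan) where
  inj := gq_joint hH hvan
  dist := by
    intro m n hmn
    apply Subtype.ext
    apply F.dist
    refine AlgHom.ext fun b => ?_
    exact congr($hmn (Ideal.Quotient.mk _ b))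
  comul c m n := by
    obtain ⟨b, rfl⟩ := Ideal.Quotient.mk_surjective c
    rw [dq_mk, gg_mm, F.comul]
    rfl

end Quot

section Sub
variable {R : Type u} [CommRing R] [IsDomain R] [IsDiscreteValuationRing R] {p : ℕ} [hp : Fact p.Prime]
  [CharP (ResidueField R) p]
  {B : Type u} [CommRing B] [Algebra R B] [Module.Finite R B] {M : Type*} [Group M] [Finite M]
  {γ : M → (B →ₐ[R] R)}
  {Δ : B →ₐ[R] B ⊗[R] B} (F : Form γ Δ) {y : B} {H : Subgroup M} (hH : ∀ m ∈ H, γ m y = 0)
  (hvan : ∀ b : B, (∀ m ∈ H, γ m b = 0) → ∃ c, b = y * c)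

include F hH hvan hp in
/-- **The kernel is of the form `G_{λ,1}`.** -/
theorem exists_sub (hcard : Nat.card H = p) {ζ : R} (hζ : IsPrimitiveRoot ζ p) {χ : H → R} (h1χ : χ 1 = 1)
    (hmul : ∀ m n, χ (m * n) = χ m * χ n) {m0 : H} (hm0 : χ m0 = ζ) (hχp : ∀ m, χ m ^ p = 1) :
    ∃ (l : R) (h : DivCond l p) (κ : B →ₐ[R] AK R l p h), l ≠ 0 ∧ Function.Surjective κ ∧
      (∀ b, κ b = 0 → ∃ c, b = y * c) ∧ κ y = 0 ∧
      ∀ b, CoalgebraStruct.comul (R := R) (κ b) = Algebra.TensorProduct.map κ κ (Δ b) := by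
  have hfree := free_Qt hH hvan
  obtain ⟨l, h, θ, hl, hθ⟩ := exists_equiv (form_Qt F hH hvan) hcard hζ h1χ hmul hm0 hχp
  let κ : B →ₐ[R] AK R l p h := θ.symm.toAlgHom.comp (Ideal.Quotient.mkₐ R (Ideal.span {y}))
  have hfin := finite_AK h hp.out.pos
  have hfree' := free_AK h hp.out.pos
  let γ' : H → (AK R l p h →ₐ[R] R) := fun n => (gq hH n).comp θ.toAlgHom
  have F' : Form γ' (Bialgebra.comulAlgHom R (AK R l p h)) := by
    refine ⟨?_, ?_, ?_⟩
    · intro c hc
      have h1 := (form_Qt F hH hvan).inj (θ c) hc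
      exact (map_eq_zero_iff θ θ.injective).mp h1
    · intro m n hmn
      apply (form_Qt F hH hvan).dist
      refine AlgHom.ext fun c => ?_
      obtain ⟨a, rfl⟩ := θ.surjective c
      exact congr($hmn a)
    · intro c m n
      have h1 : (gg γ' m n).comp (Bialgebra.comulAlgHom R (AK R l p h)) = γ' (m * n) := by
        apply th_eq_algHom_ext hp.out.pos
        apply mul_left_cancel₀ hl
        have e0 : ∀ m, l * γ' m AK.t = χ m - 1 := hθ
        have e1 : χ m = 1 + l * γ' m AK.t := by rw [e0]; ring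
        have e2 : χ n = 1 + l * γ' n AK.t := by rw [e0]; ring
        rw [e0, hmul, AlgHom.comp_apply, Bialgebra.comulAlgHom_apply, AK.comul_t, map_add, map_add, map_smul, gg_tmul,
          gg_tmul, gg_tmul, map_one, map_one, smul_eq_mul, e1, e2]
        ring
      exact congr($h1 c)
  have hγκ (n : H) (b : B) : γ' n (κ b) = γ n.1 b := by
    change gq hH n (θ (θ.symm (Ideal.Quotient.mk _ b))) = _
    rw [θ.apply_symm_apply]
    rfl
  refine ⟨l, h, κ, hl, ?_, ?_, ?_, ?_⟩
  · exact θ.symm.surjective.comp Ideal.Quotient.mk_surjective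
  · intro b hb
    have h1 : (Ideal.Quotient.mk (Ideal.span {y}) b) = 0 := (map_eq_zero_iff θ.symm θ.symm.injective).mp hb
    rw [Ideal.Quotient.eq_zero_iff_mem, Ideal.mem_span_singleton] at h1
    exact h1
  · change θ.symm (Ideal.Quotient.mk _ y) = 0
    rw [Ideal.Quotient.eq_zero_iff_mem.mpr (Ideal.mem_span_singleton_self y), map_zero]
  · intro b
    apply ext2 F'
    intro m n
    have h2 : (gg γ' m n).comp (Algebra.TensorProduct.map κ κ) = gg γ m.1 n.1 := by
      apply Algebra.TensorProduct.ext'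
      intro a b
      rw [AlgHom.comp_apply, Algebra.TensorProduct.map_tmul, gg_tmul, gg_tmul, hγκ, hγκ]
    have h3 := F'.comul (κ b) m n
    rw [Bialgebra.comulAlgHom_apply] at h3
    rw [h3, hγκ]
    have h4 := congr($h2 (Δ b))
    rw [AlgHom.comp_apply] at h4
    rw [h4, F.comul]
    rfl

end Sub

end K831.ExtKer
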