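import Groth.Agent.FlatA.FlatAwayQuot
import Groth.Agent.MiscA.HopfFlat
import Mathlib.RingTheory.RingHom.Flat
import Mathlib.RingTheory.Localization.BaseChange
import Mathlib.RingTheory.DiscreteValuationRing.Basic
import Mathlib.RingTheory.LocalRing.ResidueField.Basic
import Mathlib.RingTheory.TensorProduct.Quotient
import Mathlib.RingTheory.HopfAlgebra.TensorProduct

/-!
Fibre criterion of flatness over a discrete valuation ring, and its application to injections of Hopf algebras.
-/

set_option autoImplicit false
universe u
open scoped TensorProduct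

noncomputable section

namespace K831.FibFlat

section Transfer
variable {R S A B A' : Type u} [CommRing R] [CommRing S] [CommRing A] [CommRing B] [CommRing A'] [Algebra R S]
  [Algebra R A] [Algebra R B] [Algebra A B] [IsScalarTower R A B] [Algebra A A']

/-- Flatness of a base change, seen over the ring `A'` isomorphic to `S ⊗ A`. -/
theorem flat_transfer (e : A' ≃ₐ[A] A ⊗[R] S)
    (hφ : (Algebra.TensorProduct.map (AlgHom.id S S) (IsScalarTower.toAlgHom R A B)).toRingHom.Flat) :
    Module.Flat A' (A' ⊗[A] B) := by
  rw [← RingHom.flat_algebraMap_iff]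
  let Ψ : A' ⊗[A] B ≃+* S ⊗[R] B :=
    (Algebra.TensorProduct.comm A A' B).toRingEquiv.trans
      ((Algebra.TensorProduct.congr (AlgEquiv.refl (A₁ := B) (R := A)) e).toRingEquiv.trans
        ((Algebra.TensorProduct.cancelBaseChange R A B B S).toRingEquiv.trans (Algebra.TensorProduct.comm R B S).toRingEquiv))
  let e2 : A' ≃+* S ⊗[R] A := e.toRingEquiv.trans (Algebra.TensorProduct.comm R A S).toRingEquiv
  have key : Ψ.toRingHom.comp (algebraMap A' (A' ⊗[A] B)) =
      (Algebra.TensorProduct.map (AlgHom.id S S) (IsScalarTower.toAlgHom R A B)).toRingHom.comp e2.toRingHom := by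
    ext a'
    obtain ⟨z, rfl⟩ := e.symm.surjective a'
    induction z using TensorProduct.induction_on with
    | zero => rw [map_zero, map_zero, map_zero]
    | tmul a s =>
      change (Algebra.TensorProduct.comm R B S) ((Algebra.TensorProduct.cancelBaseChange R A B B S)
        ((Algebra.TensorProduct.congr (AlgEquiv.refl (A₁ := B) (R := A)) e)
          ((Algebra.TensorProduct.comm A A' B) ((e.symm (a ⊗ₜ s)) ⊗ₜ 1)))) =
        (Algebra.TensorProduct.map (AlgHom.id S S) (IsScalarTower.toAlgHom R A B))
          ((Algebra.TensorProduct.comm R A S) (e (e.symm (a ⊗ₜ s))))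
      rw [Algebra.TensorProduct.comm_tmul, Algebra.TensorProduct.congr_apply, Algebra.TensorProduct.map_tmul]
      change (Algebra.TensorProduct.comm R B S) ((Algebra.TensorProduct.cancelBaseChange R A B B S)
        ((1 : B) ⊗ₜ (e (e.symm (a ⊗ₜ s))))) = _
      rw [AlgEquiv.apply_symm_apply, Algebra.TensorProduct.cancelBaseChange_tmul, Algebra.TensorProduct.comm_tmul,
        Algebra.TensorProduct.comm_tmul, Algebra.TensorProduct.map_tmul, Algebra.smul_def, mul_one]
      rfl
    | add x y hx hy => rw [map_add, map_add, map_add, hx, hy]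
  rw [← RingHom.Flat.comp_iff_of_bijective_left (g := Ψ.toRingHom) Ψ.bijective, key]
  exact RingHom.Flat.comp (RingHom.Flat.of_bijective e2.bijective) hφ

end Transfer

section DVR
open IsLocalRing
variable {R : Type u} [CommRing R] [IsDomain R] [IsDiscreteValuationRing R]

lemma isLocalization_powers {π : R} (hπ : Irreducible π) : IsLocalization (Submonoid.powers π) (FractionRing R) where
  map_units := by
    rintro ⟨_, n, rfl⟩
    rw [isUnit_iff_ne_zero, Ne, IsFractionRing.to_map_eq_zero_iff]
    exact pow_ne_zero n hπ.ne_zero
  surj := by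
    intro z
    obtain ⟨a, b, hb, rfl⟩ := IsFractionRing.div_surjective (A := R) z
    have hb0 : b ≠ 0 := nonZeroDivisors.ne_zero hb
    obtain ⟨n, v, rfl⟩ := IsDiscreteValuationRing.eq_unit_mul_pow_irreducible hb0 hπ
    refine ⟨⟨a * (v⁻¹ : Rˣ), ⟨π ^ n, n, rfl⟩⟩, ?_⟩
    have hK : algebraMap R (FractionRing R) (v * π ^ n) ≠ 0 := by
      rw [Ne, IsFractionRing.to_map_eq_zero_iff]
      exact hb0
    rw [div_mul_eq_mul_div, div_eq_iff hK, ← map_mul, ← map_mul]
    congr 1
    have : (v : R) * (v⁻¹ : Rˣ) = 1 := v.mul_inv
    linear_combination (-a * π ^ n) * this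
  exists_of_eq := by
    intro x y h
    exact ⟨1, by rw [IsFractionRing.injective R (FractionRing R) h]⟩

variable {A B : Type u} [CommRing A] [CommRing B] [Algebra R A] [Algebra R B] [Algebra A B] [IsScalarTower R A B]
  [Module.Flat R A] [Module.Flat R B]

/-- Fibre criterion of flatness over a discrete valuation ring. -/
theorem flat_of_fibres
    (hk : (Algebra.TensorProduct.map (AlgHom.id (ResidueField R) (ResidueField R)) (IsScalarTower.toAlgHom R A B)).toRingHom.Flat)
    (hK : (Algebra.TensorProduct.map (AlgHom.id (FractionRing R) (FractionRing R)) (IsScalarTower.toAlgHom R A B)).toRingHom.Flat) :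
    Module.Flat A B := by
  obtain ⟨π, hπ⟩ := IsDiscreteValuationRing.exists_irreducible R
  have hreg : IsSMulRegular R π := by
    intro x y hxy
    exact mul_left_cancel₀ hπ.ne_zero hxy
  let f : A := algebraMap R A π
  have hA : f ∈ nonZeroDivisors A := by
    have h1 : IsSMulRegular A f := hreg.of_flat
    rw [mem_nonZeroDivisors_iff_right]
    intro x hx
    apply h1
    change f • x = f • 0
    rw [smul_zero, smul_eq_mul, mul_comm]
    exact hx
  have hM : IsSMulRegular B f := by
    have h1 : IsSMulRegular B (algebraMap R B π) := hreg.of_flat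
    intro x y hxy
    apply h1
    change algebraMap R B π • x = algebraMap R B π • y
    rw [IsScalarTower.algebraMap_apply R A B, smul_eq_mul, smul_eq_mul, ← Algebra.smul_def, ← Algebra.smul_def]
    exact hxy
  have hmax : maximalIdeal R = Ideal.span {π} := hπ.maximalIdeal_eq
  have e1 : (A ⧸ Ideal.span {f}) ≃ₐ[A] A ⊗[R] ResidueField R := by
    have h1 : Ideal.span {f} = (maximalIdeal R).map (algebraMap R A) := by
      rw [hmax, Ideal.map_span, Set.image_singleton]
    exact (Ideal.quotientEquivAlgOfEq A h1).trans (Algebra.TensorProduct.quotIdealMapEquivTensorQuot A (maximalIdeal R))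
  have inst1 : Module.Flat (A ⧸ Ideal.span {f}) ((A ⧸ Ideal.span {f}) ⊗[A] B) := flat_transfer e1 hk
  have e2 : Localization.Away f ≃ₐ[A] A ⊗[R] FractionRing R := by
    have h1 := isLocalization_powers hπ
    have h2 : IsLocalization (Algebra.algebraMapSubmonoid A (Submonoid.powers π)) (A ⊗[R] FractionRing R) := inferInstance
    have h3 : Algebra.algebraMapSubmonoid A (Submonoid.powers π) = Submonoid.powers f := by
      rw [Algebra.algebraMapSubmonoid_powers]
    rw [h3] at h2
    exact IsLocalization.algEquiv (Submonoid.powers f) (Localization.Away f) (A ⊗[R] FractionRing R)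
  have inst2 : Module.Flat (Localization.Away f) (LocalizedModule (Submonoid.powers f) B) := by
    have h1 : Module.Flat (Localization.Away f) (Localization.Away f ⊗[A] B) := flat_transfer e2 hK
    exact Module.Flat.of_linearEquiv (LocalizedModule.equivTensorProduct (Submonoid.powers f) B)
  exact Groth.Agent.FlatA.FlatAwayQuot.flat_of_flat_away_of_flat_quotient f hA hM

end DVR

section Hopf
open IsLocalRing
variable {R : Type u} [CommRing R] [IsDomain R] [IsDiscreteValuationRing R] {A B : Type u} [CommRing A] [CommRing B]
  [HopfAlgebra R A] [HopfAlgebra R B] [Module.Flat R A] [Module.Flat R B]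

/-- A homomorphism of flat commutative Hopf algebras over a discrete valuation ring which is injective on the special
and on the generic fibre is flat. -/
theorem flat_of_hopf (θ : A →ₐc[R] B)
    (hk : Function.Injective (Algebra.TensorProduct.map (AlgHom.id (ResidueField R) (ResidueField R)) (θ : A →ₐ[R] B)))
    (hθ : Function.Injective θ) : (θ : A →+* B).Flat := by
  let _ : Algebra A B := (θ : A →+* B).toAlgebra
  have hst : IsScalarTower R A B := IsScalarTower.of_algebraMap_eq fun x => (AlgHomClass.commutes θ x).symm
  have hto : IsScalarTower.toAlgHom R A B = (θ : A →ₐ[R] B) := by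
    ext x
    rfl
  have h1 : Module.Flat A B := by
    apply flat_of_fibres (R := R)
    · have h2 := Groth.Agent.MiscA.HopfFlat.faithfullyFlat
        (Bialgebra.TensorProduct.map (BialgHom.id (ResidueField R) (ResidueField R)) θ) hk
      rw [hto]
      exact h2.flat
    · have hK : Function.Injective (Algebra.TensorProduct.map (AlgHom.id (FractionRing R) (FractionRing R)) (θ : A →ₐ[R] B)) :=
        Module.Flat.lTensor_preserves_injective_linearMap (M := FractionRing R) (θ : A →ₐ[R] B).toLinearMap hθ
      have h2 := Groth.Agent.MiscA.HopfFlat.faithfullyFlat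
        (Bialgebra.TensorProduct.map (BialgHom.id (FractionRing R) (FractionRing R)) θ) hK
      rw [hto]
      exact h2.flat
  exact h1

end Hopf

end K831.FibFlat
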