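import Groth.Agent.SekSuwa.K831.ZarA1
import Mathlib.RingTheory.DiscreteValuationRing.Basic
import Mathlib.LinearAlgebra.TensorProduct.Quotient
import Mathlib.AlgebraicGeometry.Properties

/-!
A flat scheme over a discrete valuation ring with reduced special fibre, on affine open subschemes.
-/

set_option autoImplicit false
universe u
open CategoryTheory AlgebraicGeometry Limits
open scoped TensorProduct
open K831.ZarA1 IsLocalRing

noncomputable section

namespace K831.FibRed

variable {R : Type u} [CommRing R] [IsDomain R] [IsDiscreteValuationRing R] {ϖ : R} (hϖ : Irreducible ϖ)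
  {X : Scheme.{u}} (f : X ⟶ Spec (CommRingCat.of R))
  {A : Type u} [CommRing A] (ρ : Spec (CommRingCat.of A) ⟶ X)

include hϖ in
lemma dvd_of_tmul_eq_zero [Algebra R A] (y : A) (hy : y ⊗ₜ[R] (1 : ResidueField R) = 0) : algebraMap R A ϖ ∣ y := by
  have h1 : TensorProduct.tensorQuotEquivQuotSMul A (maximalIdeal R) (y ⊗ₜ[R] (1 : ResidueField R)) = 0 :=
    congr(TensorProduct.tensorQuotEquivQuotSMul A (maximalIdeal R) $hy).trans
      (map_zero (TensorProduct.tensorQuotEquivQuotSMul A (maximalIdeal R)))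
  have h2 : TensorProduct.tensorQuotEquivQuotSMul A (maximalIdeal R) (y ⊗ₜ[R] (1 : ResidueField R)) =
      Submodule.Quotient.mk ((1 : R) • y) := TensorProduct.tensorQuotEquivQuotSMul_tmul_mk (maximalIdeal R) y 1
  rw [h2, one_smul, Submodule.Quotient.mk_eq_zero, hϖ.maximalIdeal_eq, Submodule.ideal_span_singleton_smul] at h1
  obtain ⟨z, -, hz⟩ := Submodule.mem_smul_pointwise_iff_exists _ _ _ |>.mp h1
  exact ⟨z, by rw [← hz, Algebra.smul_def]⟩

lemma tmul_eq_zero [Algebra R A] (y : A) (z : R) (hz : z ∈ maximalIdeal R) : (algebraMap R A z * y) ⊗ₜ[R] (1 : ResidueField R) = 0 := by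
  rw [← Algebra.smul_def, TensorProduct.smul_tmul, Algebra.smul_def, mul_one]
  have : algebraMap R (ResidueField R) z = 0 := (residue_eq_zero_iff z).mpr hz
  rw [this, TensorProduct.tmul_zero]

include hϖ in
theorem dvd_of_dvd_pow [IsOpenImmersion ρ]
    [IsReduced (pullback f (Spec.map (CommRingCat.ofHom (residue R))))] {y : A} {n : ℕ}
    (hy : kap f ρ ϖ ∣ y ^ n) : kap f ρ ϖ ∣ y := by
  let _ : Algebra R A := (kap f ρ).toAlgebra
  have h1 : Spec.map (CommRingCat.ofHom (algebraMap R A)) = ρ ≫ f := Spec.map_preimage (ρ ≫ f)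
  have h2 : IsReduced (pullback (ρ ≫ f) (Spec.map (CommRingCat.ofHom (residue R)))) := by
    have h3 : IsReduced (pullback ρ (pullback.fst f (Spec.map (CommRingCat.ofHom (residue R))))) :=
      isReduced_of_isOpenImmersion (pullback.snd ρ (pullback.fst f (Spec.map (CommRingCat.ofHom (residue R)))))
    exact isReduced_of_isOpenImmersion (pullbackRightPullbackFstIso f (Spec.map (CommRingCat.ofHom (residue R))) ρ).inv
  rw [← h1] at h2
  have h2' : IsReduced (pullback (Spec.map (CommRingCat.ofHom (algebraMap R A)))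
    (Spec.map (CommRingCat.ofHom (algebraMap R (ResidueField R))))) := h2
  have h4 : IsReduced (Spec (CommRingCat.of (A ⊗[R] ResidueField R))) :=
    isReduced_of_isOpenImmersion (pullbackSpecIso R A (ResidueField R)).inv
  have h5 : _root_.IsReduced (A ⊗[R] ResidueField R) := affine_isReduced_iff (CommRingCat.of (A ⊗[R] ResidueField R)) |>.mp h4
  apply dvd_of_tmul_eq_zero hϖ
  have h6 : IsNilpotent (y ⊗ₜ[R] (1 : ResidueField R)) := by
    refine ⟨n, ?_⟩
    obtain ⟨z, hz⟩ := hy
    rw [Algebra.TensorProduct.tmul_pow, one_pow, hz]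
    exact tmul_eq_zero z ϖ (by rw [hϖ.maximalIdeal_eq]; exact Ideal.mem_span_singleton_self _)
  exact h6.eq_zero

include hϖ in
theorem exists_affine_closed [Surjective f] : ∃ (A : Type u) (_ : CommRing A) (ρ : Spec (CommRingCat.of A) ⟶ X),
    IsOpenImmersion ρ ∧ ¬ IsUnit (kap f ρ ϖ) := by
  obtain ⟨x, hx⟩ := f.surjective (closedPoint R)
  obtain ⟨V, hV, hxV, -⟩ := exists_isAffineOpen_mem_and_subset (x := x) (U := ⊤) trivial
  let ρ : Spec (CommRingCat.of Γ(X, V)) ⟶ X := hV.fromSpec
  have hρ : IsOpenImmersion ρ := inferInstanceAs (IsOpenImmersion hV.fromSpec)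
  obtain ⟨x0, hx0⟩ : x ∈ Set.range ρ := by
    have := hV.range_fromSpec
    change x ∈ Set.range hV.fromSpec
    rw [this]
    exact hxV
  refine ⟨Γ(X, V), inferInstance, ρ, hρ, fun hu => ?_⟩
  have h1 : Spec.map (CommRingCat.ofHom (kap f ρ)) = ρ ≫ f := Spec.map_preimage (ρ ≫ f)
  have h2 : (Spec.map (CommRingCat.ofHom (kap f ρ))) x0 = closedPoint R := by
    rw [h1, Scheme.Hom.comp_apply, hx0, hx]
  have h3 : PrimeSpectrum.comap (kap f ρ) x0 = closedPoint R := h2
  have h4 : ϖ ∈ (PrimeSpectrum.comap (kap f ρ) x0).asIdeal := by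
    rw [h3]
    change ϖ ∈ maximalIdeal R
    rw [hϖ.maximalIdeal_eq]
    exact Ideal.mem_span_singleton_self _
  exact x0.isPrime.ne_top (Ideal.eq_top_of_isUnit_mem _ h4 hu)

end K831.FibRed
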