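import Groth.Agent.SekSuwa.K831.Core
import Groth.Agent.SekSuwa.K831.BcPts
import Groth.Agent.Sga3B.AffTest
import Groth.Prelude.Def_TwC

/-!
A finite flat group scheme over a normal domain with constant generic fibre: the group of rational points.
-/

set_option autoImplicit false
universe u
open CategoryTheory MonoidalCategory CartesianMonoidalCategory MonObj GrpObj AlgebraicGeometry Limits
open scoped TensorProduct
open K831.Pts K831.BcPts K831.Core Groth.Agent.Sga3B.AffTest Groth.Agent.Sga3B.DSPts

noncomputable section

namespace K831.GenFib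

variable {R : Type u} [CommRing R] [IsDomain R]

variable (R) in
/-- the generic point -/
abbrev jK : Spec (CommRingCat.of (FractionRing R)) ⟶ Spec (CommRingCat.of R) := Spec.map (CommRingCat.ofHom (algebraMap R (FractionRing R)))

variable {G : Over (Spec (CommRingCat.of R))} [GrpObj G] {B : Type u} [CommRing B] [HopfAlgebra R B]
  (i : sp R B ≅ G) [IsMonHom i.hom] {M : Type} [Group M]
  (e : Red.bc (jK R) G ≅ TwC.const (Spec (CommRingCat.of (FractionRing R))) M)

variable (R) in
/-- the generic point as an `R`-scheme -/
abbrev TK : Over (Spec (CommRingCat.of R)) := dn (jK R) (𝟙_ (Over (Spec (CommRingCat.of (FractionRing R)))))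

variable (R) in
/-- `(FractionRing R)` as functions on the generic point -/
def incK : (FractionRing R) →+* Γ((TK R).left, ⊤) := (Scheme.ΓSpecIso (CommRingCat.of (FractionRing R))).inv.hom

omit [IsDomain R] in
variable (R) in
lemma incK_bijective : Function.Bijective (incK R) :=
  ConcreteCategory.bijective_of_isIso (Scheme.ΓSpecIso (CommRingCat.of (FractionRing R))).inv

omit [IsDomain R] in
lemma incK_algebraMap (r : R) : incK R (algebraMap R (FractionRing R) r) = str (TK R) r := by
  have h1 : (TK R).hom = Spec.map (CommRingCat.ofHom (algebraMap R (FractionRing R))) := Category.id_comp _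
  rw [str, h1]
  exact (evS_SpecMap_apply (A := CommRingCat.of (FractionRing R)) (algebraMap R (FractionRing R)) r).symm

/-- rational points of the generic fibre -/
def yK (m : M) : TK R ⟶ sp R B := un (jK R) (TwC.pt (Spec (CommRingCat.of (FractionRing R))) M m ≫ e.inv) ≫ i.inv

/-- rational points of the generic fibre as algebra maps -/
def gK (m : M) : B →ₐ[R] (FractionRing R) where
  toRingHom := (RingEquiv.ofBijective (incK R) (incK_bijective R)).symm.toRingHom.comp (ev (yK i e m))
  commutes' r := by
    change (RingEquiv.ofBijective (incK R) (incK_bijective R)).symm (ev (yK i e m) (algebraMap R B r)) = _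
    rw [ev_algebraMap_apply, RingEquiv.symm_apply_eq]
    exact (incK_algebraMap r).symm

omit [IsDomain R] [IsMonHom i.hom] [Group M] in
lemma incK_gK (m : M) (b : B) : incK R (gK i e m b) = ev (yK i e m) b :=
  (RingEquiv.ofBijective (incK R) (incK_bijective R)).apply_symm_apply _

variable [Module.Finite R B] [IsIntegrallyClosed R]

omit [IsDomain R] [IsMonHom i.hom] [Group M] in
lemma gK_mem (m : M) (b : B) : gK i e m b ∈ (⊥ : Subalgebra R (FractionRing R)) := by
  have h1 : IsIntegral R b := Algebra.IsIntegral.isIntegral b
  have h2 : IsIntegral R (gK i e m b) := h1.map (gK i e m)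
  obtain ⟨r, hr⟩ := IsIntegrallyClosed.isIntegral_iff.mp h2
  exact Algebra.mem_bot.mpr ⟨r, hr⟩

/-- rational points as algebra maps to `R` -/
def gam (m : M) : B →ₐ[R] R :=
  (Algebra.botEquivOfInjective (IsFractionRing.injective R (FractionRing R))).toAlgHom.comp ((gK i e m).codRestrict ⊥ (gK_mem i e m))

omit [IsDomain R] [IsMonHom i.hom] [Group M] in
lemma algebraMap_gam (m : M) (b : B) : algebraMap R (FractionRing R) (gam i e m b) = gK i e m b := by
  let E := Algebra.botEquivOfInjective (IsFractionRing.injective R (FractionRing R))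
  have h1 : E.symm (gam i e m b) = ((gK i e m).codRestrict ⊥ (gK_mem i e m)) b := E.symm_apply_apply _
  have h2 : ((E.symm (gam i e m b) : (⊥ : Subalgebra R (FractionRing R))) : (FractionRing R)) = algebraMap R (FractionRing R) (gam i e m b) := rfl
  rw [← h2, h1]
  rfl

omit [IsDomain R] [IsMonHom i.hom] [Group M] in
lemma incK_gam (m : M) (b : B) : incK R (algebraMap R (FractionRing R) (gam i e m b)) = ev (yK i e m) b := by
  rw [algebraMap_gam, incK_gK]

omit [IsDomain R] [IsIntegrallyClosed R] in
lemma algebraMapK_injective : Function.Injective fun r : R => incK R (algebraMap R (FractionRing R) r) :=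
  (incK_bijective R).1.comp (IsFractionRing.injective R (FractionRing R))

omit [IsDomain R] [IsMonHom i.hom] [Group M] in
lemma incK_gg (m n : M) (z : B ⊗[R] B) :
    incK R (algebraMap R (FractionRing R) (gg (gam i e) m n z)) = ev2 (yK i e m) (yK i e n) z := by
  induction z using TensorProduct.induction_on with
  | zero => simp only [map_zero]
  | tmul a b => rw [gg_tmul, map_mul, map_mul, incK_gam, incK_gam, ev2_tmul]
  | add x y hx hy => rw [map_add, map_add, map_add, hx, hy, map_add]

omit [IsDomain R] [Module.Finite R B] [IsIntegrallyClosed R] in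
lemma yK_mul (he : TwC.IsConstGrp M (Red.bc (jK R) G) e) (m n : M) : yK i e m * yK i e n = yK i e (m * n) := by
  have : IsMonHom i.inv := inferInstance
  rw [yK, yK, yK, ← MonObj.mul_comp, ← un_mul, he m n]

lemma gam_comul (he : TwC.IsConstGrp M (Red.bc (jK R) G) e) (m n : M) (b : B) :
    gg (gam i e) m n (Bialgebra.comulAlgHom R B b) = gam i e (m * n) b := by
  apply algebraMapK_injective
  change incK R (algebraMap R (FractionRing R) _) = incK R (algebraMap R (FractionRing R) _)
  rw [incK_gg, incK_gam, ← yK_mul i e he, ev_mul_apply]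
  rfl

omit [IsMonHom i.hom] [Group M] in
lemma gam_injective : Function.Injective (gam i e) := by
  intro m n hmn
  by_contra hne
  have h1 : yK i e m = yK i e n := by
    apply Pts.ext
    ext b
    rw [← incK_gam, ← incK_gam, hmn]
  have h2 : TwC.pt (Spec (CommRingCat.of (FractionRing R))) M m ≫ e.inv = TwC.pt (Spec (CommRingCat.of (FractionRing R))) M n ≫ e.inv := by
    apply un_injective (jK R)
    exact (cancel_mono i.inv).mp h1
  have h3 := (cancel_mono e.inv).mp h2
  have h4 : Sigma.ι (fun _ : M => Spec (CommRingCat.of (FractionRing R))) m = Sigma.ι (fun _ : M => Spec (CommRingCat.of (FractionRing R))) n :=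
    congr(Over.Hom.left $h3)
  have x : Spec (CommRingCat.of (FractionRing R)) := Classical.arbitrary (PrimeSpectrum (FractionRing R))
  have h5 : Sigma.ι (fun _ : M => Spec (CommRingCat.of (FractionRing R))) m x =
    Sigma.ι (fun _ : M => Spec (CommRingCat.of (FractionRing R))) n x := by rw [h4]
  exact hne congr(Sigma.fst $((sigmaι_eq_iff _ _ _ _ _).mp h5))

variable [Module.Free R B]

omit [IsDomain R] [IsMonHom i.hom] [Group M] in
/-- points separate functions -/
lemma gam_joint (b : B) (hb : ∀ m, gam i e m b = 0) : b = 0 := by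
  let X1 : Over (Spec (CommRingCat.of (FractionRing R))) := Red.bc (jK R) G
  let τ : dn (jK R) X1 ⟶ sp R B := un (jK R) (𝟙 X1) ≫ i.inv
  have hτ {T : Over (Spec (CommRingCat.of (FractionRing R)))} (z : T ⟶ X1) (b : B) :
      ev (un (jK R) z ≫ i.inv) b = z.left.appTop.hom (ev τ b) := by
    have h1 : un (jK R) z = (Over.map (jK R)).map z ≫ un (jK R) (𝟙 X1) := by rw [← un_comp, Category.comp_id]
    rw [h1, Category.assoc, ev_comp_apply]
    rfl
  have hs : ev τ b = 0 := by
    let s' : Γ((TwC.const (Spec (CommRingCat.of (FractionRing R))) M).left, ⊤) := e.inv.left.appTop.hom (ev τ b)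
    have h2 : s' = 0 := by
      refine Scheme.zero_of_zero_cover s' (sigmaOpenCover (fun _ : M => Spec (CommRingCat.of (FractionRing R))))
        (fun (m : M) => ?_)
      have h3 := hτ (TwC.pt (Spec (CommRingCat.of (FractionRing R))) M m ≫ e.inv) b
      have h4 : ev (yK i e m) b = 0 := by rw [← incK_gam, hb m, map_zero, map_zero]
      rw [yK, h3] at h4
      rw [Over.comp_left, Scheme.Hom.comp_appTop, CommRingCat.comp_apply] at h4
      exact h4
    have h5 : e.hom.left.appTop.hom s' = ev τ b := by
      have h6 : e.hom.left ≫ e.inv.left = 𝟙 _ := congr(Over.Hom.left $(e.hom_inv_id))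
      have h7 : (e.hom.left ≫ e.inv.left).appTop.hom (ev τ b) = ev τ b := by
        rw [h6, Scheme.Hom.id_appTop]
        rfl
      rw [Scheme.Hom.comp_appTop, CommRingCat.comp_apply] at h7
      exact h7
    rw [← h5, h2, map_zero]
  let D : Type u := FractionRing R ⊗[R] B
  let T : Over (Spec (CommRingCat.of (FractionRing R))) := Over.mk (Spec.map (CommRingCat.ofHom (algebraMap (FractionRing R) D)))
  let incD : D →+* Γ((dn (jK R) T).left, ⊤) := (Scheme.ΓSpecIso (CommRingCat.of D)).inv.hom
  have hincD : Function.Injective incD :=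
    (ConcreteCategory.bijective_of_isIso (Scheme.ΓSpecIso (CommRingCat.of D)).inv).1
  have h8 : (incD.comp (Algebra.TensorProduct.includeRight : B →ₐ[R] FractionRing R ⊗[R] B).toRingHom).comp (algebraMap R B) =
      str (dn (jK R) T) := by
    have h9 : str (dn (jK R) T) = (evS (Spec.map (CommRingCat.ofHom (algebraMap (FractionRing R) D)))).comp
        (algebraMap R (FractionRing R)) :=
      evS_comp_SpecMap (Spec.map (CommRingCat.ofHom (algebraMap (FractionRing R) D))) (algebraMap R (FractionRing R))
    rw [h9]
    ext r
    have h10 := evS_SpecMap_apply (A := CommRingCat.of D) (algebraMap (FractionRing R) D) (algebraMap R (FractionRing R) r)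
    refine Eq.trans ?_ h10.symm
    change incD ((Algebra.TensorProduct.includeRight : B →ₐ[R] FractionRing R ⊗[R] B) (algebraMap R B r)) =
      incD (algebraMap (FractionRing R) D (algebraMap R (FractionRing R) r))
    congr 1
    rw [AlgHom.commutes]
    rfl
  let ρ : dn (jK R) T ⟶ sp R B := ofEv _ h8
  obtain ⟨z, hz⟩ := un_surjective (jK R) (ρ ≫ i.hom)
  have h11 := hτ z b
  rw [hs, map_zero, hz, Category.assoc, Iso.hom_inv_id, Category.comp_id, ev_ofEv] at h11
  have h12 : (Algebra.TensorProduct.includeRight : B →ₐ[R] FractionRing R ⊗[R] B) b = 0 :=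
    hincD (h11.trans (map_zero incD).symm)
  exact Algebra.TensorProduct.includeRight_injective (B := B) (IsFractionRing.injective R (FractionRing R))
    (h12.trans (map_zero _).symm)

/-- The rational points form a group separating functions. -/
theorem form (he : TwC.IsConstGrp M (Red.bc (jK R) G) e) : Form (gam i e) (Bialgebra.comulAlgHom R B) where
  inj b hb := gam_joint i e b hb
  dist := gam_injective i e
  comul b m n := gam_comul i e he m n b

end K831.GenFib
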