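import Groth.Agent.SekSuwa.K831.Kernel
import Mathlib.RingTheory.DiscreteValuationRing.Basic
import Mathlib.RingTheory.LocalRing.ResidueField.Basic
import Mathlib.FieldTheory.Perfect

/-!
Congruences for `p^n`-th powers modulo powers of a uniformizer, under the divisibility condition of Sekiguchi–Suwa.
-/

set_option autoImplicit false
universe u
open SekSuwa K831.Kernel

noncomputable section

namespace K831.Val

section Pow
variable {R : Type u} [CommRing R] [IsDomain R] {ϖ lam ε : R} {m N : ℕ} (h : DivCond lam N)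
  (hlam : lam = ε * ϖ ^ m)

include h in
lemma lam_ne_zero : lam ≠ 0 := nonZeroDivisors.ne_zero h.nzd

include h in
lemma lam_dvd_choose {i : ℕ} (hi : 0 < i) (hiN : i ≤ N) : lam ^ (N - i) ∣ (N.choose i : R) := by
  refine ⟨(psiPoly lam N h).coeff i, ?_⟩
  apply mul_left_cancel₀ (pow_ne_zero i (lam_ne_zero h))
  rw [← coeff_psiPoly h i hi, ← mul_assoc, ← pow_add, Nat.add_sub_cancel' hiN]

include h hlam in
lemma pow_dvd_choose {i : ℕ} (hi : 0 < i) (hiN : i ≤ N) : ϖ ^ (m * (N - i)) ∣ (N.choose i : R) := by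
  refine Dvd.dvd.trans ?_ (lam_dvd_choose h hi hiN)
  rw [hlam, mul_pow, pow_mul]
  exact Dvd.intro_left _ rfl

include h hlam in
lemma key_dvd {s : ℕ} (hs : s < m) {i : ℕ} (hi : 0 < i) (hiN : i < N) :
    ϖ ^ (s * N + 1) ∣ ϖ ^ (s * i) * (N.choose i : R) := by
  obtain ⟨c, hc⟩ := pow_dvd_choose h hlam hi hiN.le
  rw [hc, ← mul_assoc, ← pow_add]
  refine Dvd.dvd.mul_right (pow_dvd_pow ϖ ?_) c
  obtain ⟨j, rfl⟩ := Nat.exists_eq_add_of_lt hiN
  have h1 : i + j + 1 - i = j + 1 := by omega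
  rw [h1]
  have h2 : (s + 1) * (j + 1) ≤ m * (j + 1) := Nat.mul_le_mul_right _ hs
  nlinarith

variable {A : Type u} [CommRing A] [Algebra R A]

include h hlam in
/-- expansion for small exponents -/
lemma expansion (hN : 0 < N) {s : ℕ} (hs : s < m) (y : A) :
    algebraMap R A ϖ ^ (s * N + 1) ∣ (1 + algebraMap R A ϖ ^ s * y) ^ N - 1 - algebraMap R A ϖ ^ (s * N) * y ^ N := by
  obtain ⟨N', rfl⟩ := Nat.exists_eq_succ_of_ne_zero hN.ne'
  have h1 : (1 + algebraMap R A ϖ ^ s * y) ^ (N' + 1) - 1 - algebraMap R A ϖ ^ (s * (N' + 1)) * y ^ (N' + 1) =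
      ∑ i ∈ Finset.range N', (algebraMap R A ϖ ^ s * y) ^ (i + 1) * ((N' + 1).choose (i + 1) : A) := by
    rw [add_comm 1, add_pow, Finset.sum_range_succ, Finset.sum_range_succ']
    simp only [one_pow, mul_one, pow_zero, Nat.choose_zero_right, Nat.cast_one, Nat.choose_self, mul_pow, ← pow_mul]
    ring
  rw [Nat.succ_eq_add_one, h1]
  refine Finset.dvd_sum fun i hi => ?_
  have h2 := map_dvd (algebraMap R A) (key_dvd h hlam hs (i := i + 1) (Nat.succ_pos i)
    (Nat.succ_lt_succ (Finset.mem_range.mp hi)))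
  rw [map_pow, map_mul, map_pow, map_natCast] at h2
  refine h2.trans ⟨y ^ (i + 1), ?_⟩
  rw [mul_pow, ← pow_mul]
  ring

omit [IsDomain R] in
include h hlam in
lemma dvd_of_eq (hε : IsUnit ε) (y : A) :
    algebraMap R A ϖ ^ (m * N) ∣ (1 + algebraMap R A ϖ ^ m * y) ^ N - 1 := by
  obtain ⟨ε', hε'⟩ := hε.exists_right_inv
  have h1 := aeval_psiPoly h (algebraMap R A ε' * y)
  have h2 : algebraMap R A lam * (algebraMap R A ε' * y) = algebraMap R A ϖ ^ m * y := by
    rw [hlam, map_mul, map_pow]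
    have h3 : algebraMap R A ε * algebraMap R A ε' = 1 := by rw [← map_mul, hε', map_one]
    calc _ = (algebraMap R A ε * algebraMap R A ε') * (algebraMap R A ϖ ^ m * y) := by ring
      _ = _ := by rw [h3, one_mul]
  rw [h2] at h1
  have h4 : algebraMap R A ϖ ^ (m * N) ∣ algebraMap R A (lam ^ N) := by
    rw [hlam, mul_pow, ← pow_mul, map_mul, map_pow (algebraMap R A) ϖ]
    exact Dvd.intro_left _ rfl
  rw [← h1]
  exact h4.mul_right _

include h hlam in
lemma dvd_pow_sub_one (hN : 0 < N) (hε : IsUnit ε) {s : ℕ} (hs : s ≤ m) (y : A) :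
    algebraMap R A ϖ ^ (s * N) ∣ (1 + algebraMap R A ϖ ^ s * y) ^ N - 1 := by
  rcases hs.lt_or_eq with hs | rfl
  · have h1 := (pow_dvd_pow (algebraMap R A ϖ) (Nat.le_succ (s * N))).trans (expansion h hlam hN hs y)
    have h2 := dvd_add h1 (Dvd.intro (y ^ N) rfl : algebraMap R A ϖ ^ (s * N) ∣ algebraMap R A ϖ ^ (s * N) * y ^ N)
    rwa [sub_add_cancel] at h2
  · exact dvd_of_eq h hlam hε y

section Red
variable (hN : 0 < N) (hq : algebraMap R A ϖ ∈ nonZeroDivisors A)
  (hred : ∀ y : A, algebraMap R A ϖ ∣ y ^ N → algebraMap R A ϖ ∣ y)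

include h hlam hN hq hred in
lemma dvd_sub_one_of_dvd {w : A} {r : ℕ} (hw : algebraMap R A ϖ ^ r ∣ w ^ N - 1) {s : ℕ} (hs : s ≤ m)
    (hsr : ∀ s' < s, s' * N < r) : algebraMap R A ϖ ^ s ∣ w - 1 := by
  induction s with
  | zero => rw [pow_zero]; exact one_dvd _
  | succ s ih =>
    obtain ⟨y, hy⟩ := ih (Nat.le_of_succ_le hs) (fun s' hs' => hsr s' (hs'.trans (Nat.lt_succ_self s)))
    have hw1 : w = 1 + algebraMap R A ϖ ^ s * y := by rw [← hy]; ring
    have h1 := expansion h hlam hN (Nat.lt_of_succ_le hs) y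
    rw [← hw1] at h1
    have h2 : algebraMap R A ϖ ^ (s * N + 1) ∣ w ^ N - 1 :=
      (pow_dvd_pow _ (Nat.succ_le_of_lt (hsr s (Nat.lt_succ_self s)))).trans hw
    have h3 : algebraMap R A ϖ ^ (s * N + 1) ∣ algebraMap R A ϖ ^ (s * N) * y ^ N := by
      have := dvd_sub h2 h1
      rwa [sub_sub_cancel] at this
    obtain ⟨z, hz⟩ := h3
    rw [pow_succ, mul_assoc] at hz
    have h4 : y ^ N = algebraMap R A ϖ * z := cancel_nzd (pow_mem hq _) hz
    obtain ⟨y', rfl⟩ := hred y ⟨z, h4⟩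
    refine ⟨y', ?_⟩
    rw [hy, pow_succ, mul_assoc]

include h hlam hN hq hred in
/-- `w^N ≡ 1` modulo `λ^N` implies `w ≡ 1` modulo `λ`. -/
theorem dvd_sub_one {w : A} (hw : algebraMap R A ϖ ^ (m * N) ∣ w ^ N - 1) : algebraMap R A ϖ ^ m ∣ w - 1 :=
  dvd_sub_one_of_dvd h hlam hN hq hred hw le_rfl fun _ hs => Nat.mul_lt_mul_of_pos_right hs hN

include h hlam hN hq hred in
lemma dvd_of_not_dvd (hε : IsUnit ε) {w d : A} {r : ℕ} (hrN : ¬ N ∣ r) (hr : r < m * N)
    (hw : algebraMap R A ϖ ^ (r + 1) ∣ w ^ N - 1 - algebraMap R A ϖ ^ r * d) : algebraMap R A ϖ ∣ d := by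
  have h1 : algebraMap R A ϖ ^ r ∣ w ^ N - 1 := by
    have := dvd_add ((pow_dvd_pow _ (Nat.le_succ r)).trans hw) (Dvd.intro d rfl : algebraMap R A ϖ ^ r ∣ _)
    rwa [sub_add_cancel] at this
  have h2 : r / N * N < r := by
    refine lt_of_le_of_ne (Nat.div_mul_le_self r N) fun h => hrN ?_
    exact ⟨r / N, by rw [mul_comm]; exact h.symm⟩
  have h3 : r < (r / N + 1) * N := by
    have := Nat.lt_div_mul_add (a := r) (b := N) hN
    rw [add_mul, one_mul]
    exact this
  have h4 : r / N + 1 ≤ m := Nat.succ_le_of_lt ((Nat.div_lt_iff_lt_mul hN).mpr hr)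
  obtain ⟨y, hy⟩ := dvd_sub_one_of_dvd h hlam hN hq hred h1 h4 (fun s' hs' =>
    (Nat.mul_le_mul_right N (Nat.lt_succ_iff.mp hs')).trans_lt h2)
  have hw1 : w = 1 + algebraMap R A ϖ ^ (r / N + 1) * y := by rw [← hy]; ring
  have h5 := dvd_pow_sub_one h hlam hN hε h4 y
  rw [← hw1] at h5
  have h6 : algebraMap R A ϖ ^ (r + 1) ∣ algebraMap R A ϖ ^ r * d := by
    have := dvd_sub ((pow_dvd_pow _ (Nat.succ_le_of_lt h3)).trans h5) hw
    rwa [sub_sub_cancel] at this
  obtain ⟨z, hz⟩ := h6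
  rw [pow_succ, mul_assoc] at hz
  exact ⟨z, cancel_nzd (pow_mem hq _) hz⟩

end Red

end Pow

section Main
open IsLocalRing
variable {R : Type u} [CommRing R] [IsDomain R] [IsDiscreteValuationRing R] {p : ℕ} [hp : Fact p.Prime]
  [CharP (ResidueField R) p] [PerfectField (ResidueField R)] {n : ℕ} {ϖ lam ε : R} {m : ℕ}

omit [PerfectField (ResidueField R)] in
lemma dvd_or_isUnit (hϖ : Irreducible ϖ) (d : R) : ϖ ∣ d ∨ IsUnit d := by
  by_cases hd : IsUnit d
  · exact Or.inr hd
  · refine Or.inl ?_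
    have h1 : d ∈ maximalIdeal R := hd
    rw [hϖ.maximalIdeal_eq, Ideal.mem_span_singleton] at h1
    exact h1

include hp in
variable (n) (p) in
/-- `p^n`-th roots modulo the uniformizer -/
lemma exists_pow (hϖ : Irreducible ϖ) (d : R) : ∃ c : R, ϖ ∣ c ^ p ^ n - d := by
  have : PerfectRing (ResidueField R) p := PerfectField.toPerfectRing p
  obtain ⟨x, hx⟩ := (iterateFrobeniusEquiv (ResidueField R) p n).surjective (residue R d)
  obtain ⟨c, rfl⟩ := residue_surjective x
  refine ⟨c, ?_⟩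
  have h1 : residue R (c ^ p ^ n - d) = 0 := by
    rw [map_sub, map_pow, ← hx, iterateFrobeniusEquiv_def, sub_self]
  rw [residue_eq_zero_iff, hϖ.maximalIdeal_eq, Ideal.mem_span_singleton] at h1
  exact h1

variable {A : Type u} [CommRing A] [Algebra R A]

include hp in
/-- **A unit of `R` which is a `p^n`-th power modulo `λ^{p^n}` in an `R`-algebra with reduced special fibre is one in `R`.** -/
theorem exists_unit (hϖ : Irreducible ϖ) (h : DivCond lam (p ^ n)) (hε : IsUnit ε) (hlam : lam = ε * ϖ ^ m)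
    (hq : algebraMap R A ϖ ∈ nonZeroDivisors A) (hred : ∀ y : A, algebraMap R A ϖ ∣ y ^ p ^ n → algebraMap R A ϖ ∣ y)
    (hqu : ¬ IsUnit (algebraMap R A ϖ)) {a : R} (ha : IsUnit a) {u : A}
    (hu : algebraMap R A ϖ ^ (m * p ^ n) ∣ algebraMap R A a - u ^ p ^ n) :
    ∃ c : R, IsUnit c ∧ ϖ ^ (m * p ^ n) ∣ a * c ^ p ^ n - 1 := by
  have hN : 0 < p ^ n := pow_pos hp.out.pos n
  have key : ∀ r ≤ m * p ^ n, ∃ c : R, IsUnit c ∧ ϖ ^ r ∣ a * c ^ p ^ n - 1 := by
    intro r
    induction r with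
    | zero => exact fun _ => ⟨1, isUnit_one, by rw [pow_zero]; exact one_dvd _⟩
    | succ r ih =>
      intro hr
      obtain ⟨c, hc, d, hd⟩ := ih (Nat.le_of_succ_le hr)
      by_cases hr0 : r = 0
      · obtain ⟨a', ha'⟩ := ha.exists_right_inv
        obtain ⟨c1, z, hz⟩ := exists_pow p n hϖ a'
        refine ⟨c1, ?_, ?_⟩
        · rcases dvd_or_isUnit hϖ c1 with h1 | h1
          · exfalso
            have h2 : ϖ ∣ a' := by
              have := dvd_sub (h1.trans (dvd_pow_self c1 hN.ne')) (Dvd.intro z hz.symm)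
              rwa [sub_sub_cancel] at this
            exact hϖ.not_isUnit (isUnit_of_dvd_unit h2 (IsUnit.of_mul_eq_one a (by rw [mul_comm]; exact ha')))
          · exact h1
        · refine ⟨a * z, ?_⟩
          rw [hr0, zero_add, pow_one]
          calc a * c1 ^ p ^ n - 1 = a * (c1 ^ p ^ n - a') := by rw [mul_sub, ha']
            _ = _ := by rw [hz]; ring
      by_cases hdvd : p ^ n ∣ r
      · obtain ⟨s, hs⟩ := hdvd
        have hs' : r = s * p ^ n := by rw [hs, mul_comm]
        have hs0 : s ≠ 0 := by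
          rintro rfl
          exact hr0 (by rw [hs', zero_mul])
        have hsm : s < m := by
          have : s * p ^ n < m * p ^ n := by rw [← hs']; exact hr
          exact lt_of_mul_lt_mul_right this (Nat.zero_le _)
        obtain ⟨c', hc'⟩ := exists_pow p n hϖ d
        have he : IsUnit (1 + ϖ ^ s * c') := by
          rcases dvd_or_isUnit hϖ (1 + ϖ ^ s * c') with h1 | h1
          · exfalso
            have h2 : ϖ ∣ ϖ ^ s * c' := Dvd.dvd.mul_right (dvd_pow_self ϖ hs0) c'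
            have h3 := dvd_sub h1 h2
            rw [add_sub_cancel_right] at h3
            exact hϖ.not_isUnit (isUnit_of_dvd_one h3)
          · exact h1
        obtain ⟨e', he'⟩ := he.exists_right_inv
        have h1 := expansion (A := R) h hlam hN hsm c'
        rw [Algebra.algebraMap_self, RingHom.id_apply, ← hs'] at h1
        have h2 : ϖ ^ (r + 1) ∣ (1 + ϖ ^ s * c') ^ p ^ n - a * c ^ p ^ n := by
          have h3 : ϖ ^ (r + 1) ∣ ϖ ^ r * (c' ^ p ^ n - d) := by
            rw [pow_succ]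
            exact mul_dvd_mul_left _ hc'
          have h4 := dvd_add h1 h3
          have h5 : (1 + ϖ ^ s * c') ^ p ^ n - 1 - ϖ ^ r * c' ^ p ^ n + ϖ ^ r * (c' ^ p ^ n - d) =
              (1 + ϖ ^ s * c') ^ p ^ n - a * c ^ p ^ n := by
            have : a * c ^ p ^ n = 1 + ϖ ^ r * d := by rw [← hd]; ring
            rw [this]
            ring
          rwa [h5] at h4
        refine ⟨c * e', hc.mul (IsUnit.of_mul_eq_one _ (by rw [mul_comm]; exact he')), ?_⟩
        have h6 : a * (c * e') ^ p ^ n - 1 = (a * c ^ p ^ n - (1 + ϖ ^ s * c') ^ p ^ n) * e' ^ p ^ n := by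
          have h7 : (1 + ϖ ^ s * c') ^ p ^ n * e' ^ p ^ n = 1 := by rw [← mul_pow, he', one_pow]
          rw [sub_mul, h7, mul_pow]
          ring
        rw [h6]
        exact Dvd.dvd.mul_right ((dvd_sub_comm).mp h2) _
      · have hw : algebraMap R A ϖ ^ (r + 1) ∣
            (u * algebraMap R A c) ^ p ^ n - 1 - algebraMap R A ϖ ^ r * algebraMap R A d := by
          have h1 : (u * algebraMap R A c) ^ p ^ n - 1 - algebraMap R A ϖ ^ r * algebraMap R A d =
              -((algebraMap R A a - u ^ p ^ n) * algebraMap R A c ^ p ^ n) := by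
            have h2 : algebraMap R A a * algebraMap R A c ^ p ^ n = 1 + algebraMap R A ϖ ^ r * algebraMap R A d := by
              rw [← map_pow, ← map_mul, ← map_pow, ← map_mul, ← map_one (algebraMap R A), ← map_add]
              congr 1
              rw [← hd]
              ring
            rw [sub_mul, h2, mul_pow]
            ring
          rw [h1, dvd_neg]
          exact Dvd.dvd.mul_right ((pow_dvd_pow _ hr).trans hu) _
        have h3 := dvd_of_not_dvd h hlam hN hq hred hε hdvd hr hw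
        rcases dvd_or_isUnit hϖ d with ⟨d', rfl⟩ | h4
        · exact ⟨c, hc, ⟨d', by rw [hd, pow_succ, mul_assoc]⟩⟩
        · exact absurd (isUnit_of_dvd_unit h3 (h4.map _)) hqu
  exact key _ le_rfl

end Main

end K831.Val
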