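import Groth.Agent.SekSuwa.K831.FibRed
import Groth.Agent.SekSuwa.K831.Val

/-!
A `G_{λ,N}`-torsor on a flat `X` with reduced special fibre, with a semi-invariant function `z` whose `N`-th power comes
from the base: the function is congruent to `c⁻¹` modulo `λ` for some unit `c` of the base.
-/

set_option autoImplicit false
universe u
open CategoryTheory MonoidalCategory CartesianMonoidalCategory MonObj GrpObj AlgebraicGeometry Limits
open scoped TensorProduct
open SekSuwa K831.Pts K831.GPts K831.FlatPts K831.BcPts Groth.Agent.Books.BorelOrb K551.Tors K831.PushGm K831.ZarA1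

noncomputable section

namespace K831.PX

/-- pull back of functions -/
def pb {X : Scheme.{u}} {T P : Over X} (x : T ⟶ P) : Γ(P.left, ⊤) →+* Γ(T.left, ⊤) := x.left.appTop.hom

section pb
variable {X : Scheme.{u}} {T T' P : Over X}

lemma pb_comp (s : T' ⟶ T) (x : T ⟶ P) (z : Γ(P.left, ⊤)) : pb (s ≫ x) z = pb s (pb x z) := by
  change (s.left ≫ x.left).appTop.hom z = s.left.appTop.hom (x.left.appTop.hom z)
  rw [Scheme.Hom.comp_appTop]
  rfl

lemma pb_id (z : Γ(P.left, ⊤)) : pb (𝟙 P) z = z := by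
  change (𝟙 P.left : P.left ⟶ P.left).appTop.hom z = z
  rw [Scheme.Hom.id_appTop]
  rfl

end pb

variable {R : Type u} [CommRing R] {X : Scheme.{u}} (f : X ⟶ Spec (CommRingCat.of R))

lemma pb_sr {T T' : Over X} (s : T' ⟶ T) (r : R) : pb s (sr f T r) = sr f T' r := sr_comp f s r

include f in
/-- A function on `T` vanishing after pulling back along all points of a locally trivial `P` vanishes. -/
lemma eq_zero_of_locTriv {P : Over X} (hP : NonAbH1.IsLocallyTrivialFor Scheme.fppfPrecoverage P) {T : Over X}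
    (v : Γ(T.left, ⊤)) (hv : ∀ (T' : Over X) (t : T' ⟶ T) (_ : T' ⟶ P), pb t v = 0) : v = 0 := by
  obtain ⟨x, hx⟩ := exists_tvb f (lam := (0 : R)) (T := T) v (by rw [map_zero, zero_mul, add_zero]; exact isUnit_one)
  have h1 : x = 1 := by
    refine K826.Descend.hom_ext_of_locTriv Scheme.fppfPrecoverage_le_fpqcPrecoverage hP (fun T' t p => ?_)
    apply tvb_ext f
    rw [tvb_comp, hx, comp_one, tvb_one]
    exact hv T' t p
  rw [← hx, h1, tvb_one]

omit f in
/-- vanishing is local on `X` -/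
lemma eq_zero_of_affine {T : Over X} (v : Γ(T.left, ⊤))
    (hv : ∀ (A : Type u) (_ : CommRing A) (ρ : Spec (CommRingCat.of A) ⟶ X) (_ : IsOpenImmersion ρ) (T' : Over X)
      (t : T' ⟶ T) (_ : T' ⟶ Over.mk ρ), pb t v = 0) : v = 0 := by
  refine Scheme.zero_of_zero_cover v (X.affineOpenCover.openCover.pullback₁ T.hom) (fun i => ?_)
  let ρ : Spec (CommRingCat.of (X.affineOpenCover.X i)) ⟶ X := X.affineOpenCover.f i
  have hρ : IsOpenImmersion ρ := X.affineOpenCover.map_prop i
  let T' : Over X := Over.mk (pullback.fst T.hom ρ ≫ T.hom)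
  let t : T' ⟶ T := Over.homMk (pullback.fst T.hom ρ)
  let s : T' ⟶ Over.mk ρ := Over.homMk (pullback.snd T.hom ρ) pullback.condition.symm
  exact hv _ _ ρ hρ T' t s

section Tors
variable {lam : R} {N : ℕ} {h : DivCond lam N} {P : Over X} {a : AlgGrp.Action (Red.bc f (GK R lam N h)) P}
  (hP : NonAbH1.IsTorsorFor Scheme.fppfPrecoverage a) {z : Γ(P.left, ⊤)} {a0 : R}
  (hz1 : ∀ {T : Over X} (g : T ⟶ Red.bc f (GK R lam N h)) (x : T ⟶ P),
    pb (sm a g x) z = (1 + sr f T lam * tkb f g) * pb x z)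
  (hz2 : z ^ N = sr f P a0)

include hP hz1 hz2 in
/-- Where `λ` vanishes, the function descends. -/
lemma exists_mod (hN : 0 < N) (ha0 : IsUnit a0) {V : Over X} (hV : sr f V lam = 0) :
    ∃ v : Γ(V.left, ⊤), ∀ (T : Over X) (t : T ⟶ V) (x : T ⟶ P), pb x z = pb t v := by
  have hu : ∀ (T : Over X) (x : T ⟶ P), IsUnit (pb x z) := fun T x => by
    have h1 : IsUnit (pb x z ^ N) := by
      rw [← map_pow, hz2, pb_sr]
      exact ha0.map _
    exact (isUnit_pow_iff hN.ne').mp h1
  choose F hF using fun (T : Over X) (x : T ⟶ P) => exists_chbGm f (T := T) (pb x z) (hu T x)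
  obtain ⟨w, hw, -⟩ := K826.Descend.existsUnique_glue Scheme.fppfPrecoverage_le_fpqcPrecoverage hP.2 (T := V)
    (Y := Red.bc f (Red.diag R ℤ)) (fun T t x => F T x)
    (fun T' T'' r t x => by
      apply chbGm_ext f
      rw [chb_comp, hF, hF, pb_comp]
      rfl) (by
      intro T' t x x'
      apply chbGm_ext f
      rw [hF, hF, ← sm_dif hP.1 x x', hz1, ← sr_comp f t, hV, map_zero, zero_mul, add_zero, _root_.one_mul])
  refine ⟨chb f w 1, fun T t x => ?_⟩
  have h2 := congr(chb f $(hw T t x) 1)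
  rw [chb_comp, hF] at h2
  exact h2.symm

end Tors

section Aff
variable {A : Type u} [CommRing A] {ρ : Spec (CommRingCat.of A) ⟶ X}

lemma incV_injective : Function.Injective (incV : A →+* Γ((Over.mk ρ).left, ⊤)) := by
  have h1 : (incV : A →+* Γ((Over.mk ρ).left, ⊤)) = (Scheme.ΓSpecIso (CommRingCat.of A)).inv.hom := by
    change evS (𝟙 (Spec (CommRingCat.of A))) = _
    rw [evS, Scheme.Hom.id_appTop]
    rfl
  rw [h1]
  exact (ConcreteCategory.bijective_of_isIso (Scheme.ΓSpecIso (CommRingCat.of A)).inv).1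

lemma incV_kap (r : R) : (incV (kap f ρ r) : Γ((Over.mk ρ).left, ⊤)) = sr f (Over.mk ρ) r := evV_kap f (𝟙 (Over.mk ρ)) r

lemma kap_mem [Flat f] [Flat ρ] {r : R} (hr : r ∈ nonZeroDivisors R) : kap f ρ r ∈ nonZeroDivisors A := by
  have h0 : Flat (Over.mk ρ).hom := inferInstanceAs (Flat ρ)
  have h1 := sr_mem f (T := Over.mk ρ) hr
  rw [mem_nonZeroDivisors_iff_right]
  intro x hx
  apply incV_injective (ρ := ρ)
  have h2 := congr((incV $hx : Γ((Over.mk ρ).left, ⊤)))
  rw [map_mul, incV_kap, map_zero] at h2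
  rw [map_zero]
  exact (mem_nonZeroDivisors_iff_right.mp h1) _ h2

end Aff

lemma exists_pow_eq {lam : R} {N : ℕ} (h : DivCond lam N) {B : Type u} [CommRing B] [Algebra R B] (u c : B) :
    ∃ d, (u + algebraMap R B lam * c) ^ N = u ^ N + algebraMap R B (lam ^ N) * d := by
  refine ⟨∑ i ∈ Finset.range N, u ^ i * c ^ (N - i) * algebraMap R B ((psiPoly lam N h).coeff (N - i)), ?_⟩
  rw [add_pow, Finset.sum_range_succ, Nat.sub_self, pow_zero, Nat.choose_self, Nat.cast_one, _root_.mul_one,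
    _root_.mul_one, add_comm, Finset.mul_sum]
  congr 1
  refine Finset.sum_congr rfl fun i hi => ?_
  have hiN : i < N := Finset.mem_range.mp hi
  have h1 := congr(algebraMap R B $(Kernel.coeff_psiPoly h (N - i) (Nat.sub_pos_of_lt hiN)))
  rw [map_mul, map_mul, map_natCast, Nat.choose_symm hiN.le, map_pow _ lam (N - i)] at h1
  calc u ^ i * (algebraMap R B lam * c) ^ (N - i) * (N.choose i : B)
      = u ^ i * c ^ (N - i) * (algebraMap R B lam ^ (N - i) * (N.choose i : B)) := by rw [mul_pow]; ring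
    _ = _ := by rw [← h1]; ring

section Main
variable {lam : R} {N : ℕ} {h : DivCond lam N} {P : Over X} {a : AlgGrp.Action (Red.bc f (GK R lam N h)) P}
  (hP : NonAbH1.IsTorsorFor Scheme.fppfPrecoverage a) {z : Γ(P.left, ⊤)} {a0 : R}
  (hz1 : ∀ {T : Over X} (g : T ⟶ Red.bc f (GK R lam N h)) (x : T ⟶ P),
    pb (sm a g x) z = (1 + sr f T lam * tkb f g) * pb x z)
  (hz2 : z ^ N = sr f P a0)

lemma flat_bcGK (hN : 0 < N) : Flat (Red.bc f (GK R lam N h)).hom := by
  have : Flat (GK R lam N h).hom := (Kernel.isFinLocFreeOfDeg_GK R lam N hN h).1.2.1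
  exact inferInstanceAs (Flat (pullback.snd (GK R lam N h).hom f))

include hP hz1 hz2 in
/-- On an affine open, the function is congruent to a function on the base modulo `λ`, and `a₀` is an `N`-th power
modulo `λ^N`. -/
theorem exists_local [Flat f] (hN : 0 < N) (ha0 : IsUnit a0) {A : Type u} [CommRing A]
    (ρ : Spec (CommRingCat.of A) ⟶ X) [Flat ρ] :
    ∃ u : A, (∀ {T : Over X} (t : T ⟶ Over.mk ρ) (x : T ⟶ P), ∃ c, pb x z = evV t u + sr f T lam * c) ∧
      kap f ρ (lam ^ N) ∣ kap f ρ a0 - u ^ N := by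
  have hlam := h.nzd
  have hfG := flat_bcGK f (h := h) hN
  have hfP : Flat P.hom := flat_of_torsor hP
  let l : A := kap f ρ lam
  let I : Ideal A := Ideal.span {l}
  let φ : A →+* A ⧸ I := Ideal.Quotient.mk I
  let V : Over X := Over.mk (Spec.map (CommRingCat.ofHom φ) ≫ ρ)
  have hV : sr f V lam = 0 := by
    rw [← evV_kap f (proj ρ φ), ← Category.id_comp (proj ρ φ), evV_proj, RingHom.comp_apply]
    have : φ l = 0 := Ideal.Quotient.eq_zero_iff_mem.mpr (Ideal.mem_span_singleton_self _)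
    rw [this, map_zero]
  obtain ⟨v, hv⟩ := exists_mod f hP hz1 hz2 hN ha0 hV
  obtain ⟨u', hu'⟩ := incV_surjective (σ := Spec.map (CommRingCat.ofHom φ) ≫ ρ) v
  obtain ⟨u, rfl⟩ := Ideal.Quotient.mk_surjective u'
  have hfρ : Flat (Over.mk ρ).hom := inferInstanceAs (Flat ρ)
  let T0 : Over X := Over.mk ρ ⊗ P
  have hf0 : Flat T0.hom := by
    rw [Over.tensorObj_hom]
    infer_instance
  obtain ⟨c, hc⟩ := exists_div' f (T := T0) hlam (pb (snd _ _) z - evV (fst (Over.mk ρ) P) u) (by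
    intro T' hT' t
    obtain ⟨w, hw⟩ := ZarA1.exists_factor ρ φ (t ≫ fst (Over.mk ρ) P)
      (Ideal.Quotient.lift I (evV (t ≫ fst (Over.mk ρ) P)) (fun r hr => by
        obtain ⟨c, rfl⟩ := Ideal.mem_span_singleton.mp hr
        rw [map_mul, evV_kap, hT', zero_mul])) (by ext r; rfl)
    rw [map_sub, sub_eq_zero]
    have h1 := hv T' w (t ≫ snd (Over.mk ρ) P)
    rw [pb_comp] at h1
    refine h1.trans ?_
    rw [← hu']
    change w.left.appTop.hom (incV (φ u)) = _
    rw [← evV_eq, ← evV_comp, ← hw, evV_proj]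
    rfl)
  have hc' : pb (snd (Over.mk ρ) P) z = evV (fst (Over.mk ρ) P) u + sr f T0 lam * c := by
    rw [← hc]; ring
  have key {T : Over X} (t : T ⟶ Over.mk ρ) (x : T ⟶ P) : pb x z = evV t u + sr f T lam * pb (lift t x) c := by
    have h1 := congr(pb (lift t x) $hc')
    rw [← pb_comp, lift_snd, map_add, map_mul, pb_sr] at h1
    rw [h1]
    congr 1
    change (lift t x).left.appTop.hom (evV (fst (Over.mk ρ) P) u) = _
    rw [← evV_comp, lift_fst]
  refine ⟨u, fun {T} t x => ⟨_, key t x⟩, ?_⟩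
  obtain ⟨d, hd⟩ := exists_div' f (T := Over.mk ρ) (pow_mem hlam N) (incV (kap f ρ a0 - u ^ N)) (by
    intro T' hT' t
    change pb t _ = 0
    apply eq_zero_of_locTriv f hP.2
    intro T'' t' x
    have h1 := key (t' ≫ t) x
    let _ := (sr f T'').toAlgebra
    obtain ⟨d, hd⟩ := exists_pow_eq h (evV (t' ≫ t) u) (pb (lift (t' ≫ t) x) c)
    change (evV (t' ≫ t) u + sr f T'' lam * pb (lift (t' ≫ t) x) c) ^ N =
      evV (t' ≫ t) u ^ N + sr f T'' (lam ^ N) * d at hd
    have hT'' : sr f T'' (lam ^ N) = 0 := by rw [← pb_sr f t', hT', map_zero]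
    rw [← h1, ← map_pow, hz2, pb_sr, hT'', zero_mul, add_zero] at hd
    rw [← pb_comp]
    change (t' ≫ t).left.appTop.hom (incV (kap f ρ a0 - u ^ N)) = 0
    rw [← evV_eq, map_sub, map_pow, evV_kap, hd, sub_self])
  obtain ⟨d', rfl⟩ := incV_surjective (σ := ρ) d
  refine ⟨d', incV_injective (ρ := ρ) ?_⟩
  rw [hd, map_mul, incV_kap]

end Main

section DVR
open IsLocalRing
variable {R : Type u} [CommRing R] [IsDomain R] [IsDiscreteValuationRing R] {p : ℕ} [hp : Fact p.Prime]
  [CharP (ResidueField R) p] [PerfectField (ResidueField R)] {n : ℕ} {lam : R} {h : DivCond lam (p ^ n)}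
  {X : Scheme.{u}} (f : X ⟶ Spec (CommRingCat.of R)) [Flat f] [Surjective f]
  [IsReduced (pullback f (Spec.map (CommRingCat.ofHom (residue R))))]
  {P : Over X} {a : AlgGrp.Action (Red.bc f (GK R lam (p ^ n) h)) P}
  (hP : NonAbH1.IsTorsorFor Scheme.fppfPrecoverage a) {z : Γ(P.left, ⊤)} {a0 : R}
  (hz1 : ∀ {T : Over X} (g : T ⟶ Red.bc f (GK R lam (p ^ n) h)) (x : T ⟶ P),
    pb (sm a g x) z = (1 + sr f T lam * tkb f g) * pb x z)
  (hz2 : z ^ p ^ n = sr f P a0)

include hP hz1 hz2 hp in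
/-- **The function is congruent modulo `λ` to a constant, up to an `N`-th root of `a₀` modulo `λ^N`.** -/
theorem exists_const (ha0 : IsUnit a0) : ∃ c : R, IsUnit c ∧ (∃ b, a0 * c ^ p ^ n = 1 + lam ^ p ^ n * b) ∧
    ∃ t : Γ(P.left, ⊤), sr f P c * z = 1 + sr f P lam * t := by
  have hN : 0 < p ^ n := pow_pos hp.out.pos n
  obtain ⟨ϖ, hϖ⟩ := IsDiscreteValuationRing.exists_irreducible R
  obtain ⟨m, ⟨e, he⟩⟩ := IsDiscreteValuationRing.associated_pow_irreducible (Val.lam_ne_zero h) hϖ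
  have hlam : lam = (e⁻¹ : Rˣ) * ϖ ^ m := by rw [← he, mul_comm lam, Units.inv_mul_cancel_left]
  have hε : IsUnit ((e⁻¹ : Rˣ) : R) := Units.isUnit _
  have hlN : ϖ ^ (m * p ^ n) ∣ lam ^ p ^ n := by
    rw [hlam, mul_pow, ← pow_mul]
    exact Dvd.intro_left _ rfl
  have hNl : lam ^ p ^ n ∣ ϖ ^ (m * p ^ n) := by
    rw [pow_mul, ← he, mul_pow]
    exact Dvd.intro _ rfl
  have hϖ0 : ϖ ∈ nonZeroDivisors R := mem_nonZeroDivisors_of_ne_zero hϖ.ne_zero
  obtain ⟨c, hc, hcd⟩ : ∃ c : R, IsUnit c ∧ ϖ ^ (m * p ^ n) ∣ a0 * c ^ p ^ n - 1 := by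
    obtain ⟨A, _, ρ, hρ, hnu⟩ := FibRed.exists_affine_closed hϖ f
    obtain ⟨u, -, hu⟩ := exists_local f hP hz1 hz2 hN ha0 ρ
    let _ : Algebra R A := (kap f ρ).toAlgebra
    exact Val.exists_unit (A := A) hϖ h hε hlam (kap_mem f hϖ0) (fun y hy => FibRed.dvd_of_dvd_pow hϖ f ρ hy) hnu ha0
      (u := u) (Dvd.dvd.trans (by
        have := map_dvd (kap f ρ) hlN
        rw [map_pow] at this
        exact this) hu)
  refine ⟨c, hc, ?_, ?_⟩
  · obtain ⟨b, hb⟩ := hNl.trans hcd
    exact ⟨b, by rw [← hb]; ring⟩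
  · have hfG := flat_bcGK f (h := h) hN
    have hfP : Flat P.hom := flat_of_torsor hP
    obtain ⟨t, ht⟩ := exists_div' f (T := P) h.nzd (sr f P c * z - 1) (by
      intro T' hT' t
      change pb t _ = 0
      apply eq_zero_of_affine
      intro A _ ρ hρ T'' t' s
      obtain ⟨u, hu1, hu2⟩ := exists_local f hP hz1 hz2 hN ha0 ρ
      obtain ⟨c', hc'⟩ := hu1 s (t' ≫ t)
      have hT'' : sr f T'' lam = 0 := by rw [← pb_sr f t', hT', map_zero]
      rw [hT'', zero_mul, add_zero] at hc'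
      let _ : Algebra R A := (kap f ρ).toAlgebra
      have h1 : algebraMap R A ϖ ^ (m * p ^ n) ∣ (algebraMap R A c * u) ^ p ^ n - 1 := by
        have h2 : algebraMap R A ϖ ^ (m * p ^ n) ∣ algebraMap R A a0 - u ^ p ^ n := Dvd.dvd.trans (by
          have := map_dvd (kap f ρ) hlN
          rw [map_pow] at this
          exact this) hu2
        have h3 := map_dvd (algebraMap R A) hcd
        rw [map_pow, map_sub, map_mul, map_one, map_pow] at h3
        have h4 := dvd_sub h3 (h2.mul_left (algebraMap R A c ^ p ^ n))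
        have h5 : algebraMap R A a0 * algebraMap R A c ^ p ^ n - 1 -
            algebraMap R A c ^ p ^ n * (algebraMap R A a0 - u ^ p ^ n) = (algebraMap R A c * u) ^ p ^ n - 1 := by
          rw [mul_pow]
          ring
        rwa [h5] at h4
      have h6 := Val.dvd_sub_one (A := A) h hlam hN (kap_mem f hϖ0) (fun y hy => FibRed.dvd_of_dvd_pow hϖ f ρ hy) h1
      have h7 : kap f ρ lam ∣ kap f ρ c * u - 1 := by
        refine Dvd.dvd.trans ?_ h6
        have h8 : lam ∣ ϖ ^ m := ⟨e, he.symm⟩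
        have := map_dvd (kap f ρ) h8
        rw [map_pow] at this
        exact this
      obtain ⟨d, hd⟩ := h7
      have h9 := congr(evV s $hd)
      rw [map_sub, map_mul, map_one, map_mul, evV_kap, evV_kap, hT'', zero_mul] at h9
      rw [← pb_comp, map_sub, map_mul, map_one, pb_sr, hc', h9])
    exact ⟨t, by rw [← ht]; ring⟩

end DVR

end K831.PX
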