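import Groth.Agent.SekSuwa.K831.Core
import Mathlib.RingTheory.PowerBasis
import Mathlib.RingTheory.LocalRing.Module
import Mathlib.LinearAlgebra.Dual.Lemmas
import Mathlib.Algebra.CharP.Basic
import Mathlib.Data.Nat.Choose.Sum

/-!
The powers of the divided character `y = (χ - 1)/λ` are linearly independent in the special fibre.
-/

set_option autoImplicit false
universe u
open scoped TensorProduct

noncomputable section

namespace K831.SpecFib

open K831.Core

section Nilp
variable {k : Type*} [Field k] {p : ℕ} [Fact p.Prime] [CharP k p] {D : Type*} [CommRing D] [Algebra k D]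

omit [Fact p.Prime] [CharP k p] in
lemma tmul_eq_zero {a b : D} (h : a ⊗ₜ[k] b = 0) : a = 0 ∨ b = 0 := by
  by_contra hcon
  push Not at hcon
  obtain ⟨f, hf⟩ : ∃ f : Module.Dual k D, f a ≠ 0 := by
    by_contra h'
    push Not at h'
    exact hcon.1 ((Module.forall_dual_apply_eq_zero_iff k a).mp h')
  obtain ⟨g, hg⟩ : ∃ g : Module.Dual k D, g b ≠ 0 := by
    by_contra h'
    push Not at h'
    exact hcon.2 ((Module.forall_dual_apply_eq_zero_iff k b).mp h')
  have h1 := congr((TensorProduct.lid k k) ((TensorProduct.map f g) $h))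
  rw [TensorProduct.map_tmul, TensorProduct.lid_tmul, map_zero, map_zero, smul_eq_mul] at h1
  exact mul_ne_zero hf hg h1

variable (k) in
/-- A divided-character-like nilpotent element has nilpotency index at least `p`. -/
theorem pow_ne_zero_of (δ : D →+* D ⊗[k] D) {y g : D} (hδ : δ y = y ⊗ₜ 1 + g ⊗ₜ y) (hg : IsUnit g) (hp : y ^ p = 0)
    (hy : y ≠ 0) : y ^ (p - 1) ≠ 0 := by
  classical
  have hp2 := (Fact.out : p.Prime).two_le
  intro hcon
  have hex : ∃ e, y ^ e = 0 := ⟨p, hp⟩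
  obtain ⟨e, he, hmin⟩ : ∃ e, y ^ e = 0 ∧ ∀ m < e, y ^ m ≠ 0 :=
    ⟨Nat.find hex, Nat.find_spec hex, fun m hm => Nat.find_min hex hm⟩
  have hep : e < p := by
    by_contra h
    exact hmin (p - 1) (by omega) hcon
  have he2 : 2 ≤ e := by
    by_contra h
    have h1 : e = 0 ∨ e = 1 := by omega
    rcases h1 with rfl | rfl
    · apply hy
      rw [pow_zero] at he
      rw [← mul_one y, he, mul_zero]
    · exact hy (by rwa [pow_one] at he)
  obtain ⟨n, rfl⟩ : ∃ n, e = n + 2 := ⟨e - 2, by omega⟩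
  have h1 : (y ⊗ₜ[k] (1 : D) + g ⊗ₜ[k] y) ^ (n + 2) = 0 := by rw [← hδ, ← map_pow, he, map_zero]
  have h2 : (y ⊗ₜ[k] (1 : D) + g ⊗ₜ[k] y) ^ (n + 2) * ((1 : D) ⊗ₜ[k] (y ^ n)) = 0 := by rw [h1, zero_mul]
  rw [add_pow, Finset.sum_mul, Finset.sum_eq_single (n + 1)] at h2
  · have h3 : n + 2 - (n + 1) = 1 := by omega
    have h4 : (n + 2).choose (n + 1) = n + 2 := by
      have := Nat.choose_symm_add (a := n + 1) (b := 1)
      rw [Nat.choose_one_right] at this
      exact this
    rw [h3, pow_one, h4, Algebra.TensorProduct.tmul_pow, one_pow] at h2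
    have h5 : (((n + 2 : ℕ) : k)) • ((y ^ (n + 1) * g) ⊗ₜ[k] (y ^ (n + 1))) = 0 := by
      rw [← h2, Algebra.TensorProduct.tmul_mul_tmul, mul_assoc, mul_comm ((n + 2 : ℕ) : D ⊗[k] D), ← mul_assoc,
        Algebra.TensorProduct.tmul_mul_tmul, one_mul, mul_one, ← pow_succ', Nat.cast_smul_eq_nsmul, nsmul_eq_mul,
        mul_comm]
    have h6 : ((n + 2 : ℕ) : k) ≠ 0 := by
      rw [Ne, CharP.cast_eq_zero_iff k p]
      exact Nat.not_dvd_of_pos_of_lt (by omega) hep
    rcases smul_eq_zero.mp h5 with h | h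
    · exact h6 h
    · rcases tmul_eq_zero h with h | h
      · have h7 : y ^ (n + 1) = 0 := by
          obtain ⟨v, rfl⟩ := hg
          exact (Units.mul_left_eq_zero v).mp h
        exact hmin (n + 1) (by omega) h7
      · exact hmin (n + 1) (by omega) h
  · intro m hm hmn
    rw [Finset.mem_range] at hm
    rw [Algebra.TensorProduct.tmul_pow, Algebra.TensorProduct.tmul_pow, mul_assoc, mul_comm ((n + 2).choose m : D ⊗[k] D),
      ← mul_assoc, Algebra.TensorProduct.tmul_mul_tmul, Algebra.TensorProduct.tmul_mul_tmul, one_pow, one_mul, ← pow_add]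
    rcases Nat.lt_or_ge (n + 1) m with h | h
    · have : m = n + 2 := by omega
      rw [this, he, zero_mul, zero_mul, TensorProduct.zero_tmul, zero_mul]
    · have h8 : n + 2 - m + n = (n + 2) + (n - m) := by omega
      rw [h8, pow_add, he, zero_mul, TensorProduct.tmul_zero, zero_mul]
  · intro h
    exact absurd (Finset.mem_range.mpr (by omega)) h

omit [CharP k p] [Fact p.Prime] in
/-- nilpotent elements: the minimal polynomial is a power of `X` -/
lemma le_natDegree_of_nilp {y : D} (hp : y ^ p = 0) (hy : y ^ (p - 1) ≠ 0) : p ≤ (minpoly k y).natDegree := by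
  have h1 : minpoly k y ∣ (Polynomial.X : Polynomial k) ^ p := minpoly.dvd k y (by simp [hp])
  have hint : IsIntegral k y := ⟨Polynomial.X ^ p, Polynomial.monic_X_pow p, by simp [hp]⟩
  obtain ⟨e, he, hass⟩ := (dvd_prime_pow Polynomial.prime_X p).mp h1
  have h2 : minpoly k y = Polynomial.X ^ e :=
    Polynomial.eq_of_monic_of_associated (minpoly.monic hint) (Polynomial.monic_X_pow e) hass
  have h3 : y ^ e = 0 := by
    have := minpoly.aeval k y
    rwa [h2, map_pow, Polynomial.aeval_X] at this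
  rw [h2, Polynomial.natDegree_X_pow]
  by_contra hlt
  apply hy
  have h4 : p - 1 = e + (p - 1 - e) := by omega
  rw [h4, pow_add, h3, zero_mul]

end Nilp

section Fib
open IsLocalRing
variable {R : Type u} [CommRing R] [IsDomain R] [IsLocalRing R] {p : ℕ} [hp : Fact p.Prime] [CharP (ResidueField R) p]
  {C : Type u} [CommRing C] [Algebra R C] [Module.Free R C] [Module.Finite R C] {M : Type*} [Group M]
  {γ : M → (C →ₐ[R] R)} {Δ : C →ₐ[R] C ⊗[R] C} (F : Form γ Δ)

local notation "k" => ResidueField R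

variable (R) in
/-- reduction of the comultiplication -/
def dl (Δ : C →ₐ[R] C ⊗[R] C) : k ⊗[R] C →ₐ[k] (k ⊗[R] C) ⊗[k] (k ⊗[R] C) :=
  Algebra.TensorProduct.lift (Algebra.ofId k _)
    ((Algebra.TensorProduct.lift
      (((Algebra.TensorProduct.includeLeft : (k ⊗[R] C) →ₐ[k] (k ⊗[R] C) ⊗[k] (k ⊗[R] C)).restrictScalars R).comp
        (Algebra.TensorProduct.includeRight : C →ₐ[R] k ⊗[R] C))
      (((Algebra.TensorProduct.includeRight : (k ⊗[R] C) →ₐ[k] (k ⊗[R] C) ⊗[k] (k ⊗[R] C)).restrictScalars R).comp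
        (Algebra.TensorProduct.includeRight : C →ₐ[R] k ⊗[R] C)) (fun _ _ => Commute.all _ _)).comp Δ)
    (fun _ _ => Commute.all _ _)

omit [IsDomain R] [Module.Free R C] [Module.Finite R C] in
lemma dl_apply {y x : C} (h : Δ y = y ⊗ₜ 1 + x ⊗ₜ y) :
    dl R Δ (1 ⊗ₜ y) = ((1 : k) ⊗ₜ[R] y) ⊗ₜ[k] (1 : k ⊗[R] C) + ((1 : k) ⊗ₜ[R] x) ⊗ₜ[k] ((1 : k) ⊗ₜ[R] y) := by
  rw [dl, Algebra.TensorProduct.lift_tmul, map_one, one_mul, AlgHom.comp_apply, h, map_add,
    Algebra.TensorProduct.lift_tmul, Algebra.TensorProduct.lift_tmul, map_one, mul_one]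
  simp only [AlgHom.comp_apply, AlgHom.coe_restrictScalars', Algebra.TensorProduct.includeRight_apply,
    Algebra.TensorProduct.includeLeft_apply, Algebra.TensorProduct.tmul_mul_tmul, one_mul, mul_one]

omit [IsDomain R] [IsLocalRing R] in
include F in
lemma comul_char (hR : IsDomain R) {χ : M → R} (hmul : ∀ m n, χ (m * n) = χ m * χ n) {x y : C} {l : R} (hl : l ≠ 0)
    (hx : ∀ m, γ m x = χ m) (hxy : x - 1 = l • y) : Δ y = y ⊗ₜ 1 + x ⊗ₜ y := by
  have h1 : ∀ m, l * γ m y = χ m - 1 := fun m => by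
    rw [← hx, ← map_one (γ m), ← map_sub, hxy, map_smul, smul_eq_mul]
  apply ext2 F
  intro m n
  apply mul_left_cancel₀ hl
  rw [F.comul, h1, map_add, gg_tmul, gg_tmul, map_one, mul_one, mul_add, h1, hx, ← mul_assoc, mul_comm l (χ m), mul_assoc,
    h1, hmul]
  ring

/-- evaluation on the special fibre -/
def gbar (g : C →ₐ[R] R) : k ⊗[R] C →ₐ[k] k :=
  Algebra.TensorProduct.lift (AlgHom.id k k) ((Algebra.ofId R k).comp g) (fun _ _ => Commute.all _ _)

omit [IsDomain R] [Module.Free R C] [Module.Finite R C] in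
lemma gbar_tmul (g : C →ₐ[R] R) (c : C) : gbar g (1 ⊗ₜ c) = residue R (g c) := by
  rw [gbar, Algebra.TensorProduct.lift_tmul, map_one, one_mul]
  rfl

include F hp in
/-- The powers `1, y, …, y^{p-1}` of a divided character of order `p` and content one are independent in the
special fibre. -/
theorem le_natDegree {ζ : R} (hζ : IsPrimitiveRoot ζ p) {χ : M → R} (h1χ : χ 1 = 1) (hmul : ∀ m n, χ (m * n) = χ m * χ n)
    {m0 : M} (hm0 : χ m0 = ζ) (hχp : ∀ m, χ m ^ p = 1) {x y : C} {l : R} (hl : l ≠ 0) (hx : ∀ m, γ m x = χ m)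
    (hxy : x - 1 = l • y) (f : C →ₗ[R] R) (hf : f y = 1) :
    p ≤ (minpoly k ((1 : k) ⊗ₜ[R] y : k ⊗[R] C)).natDegree := by
  have hpp := hp.out
  have hv : ∀ m, l * γ m y = χ m - 1 := fun m => by
    rw [← hx, ← map_one (γ m), ← map_sub, hxy, map_smul, smul_eq_mul]
  have hχpow : ∀ i : ℕ, χ (m0 ^ i) = ζ ^ i := by
    intro i
    induction i with
    | zero => rw [pow_zero, pow_zero, h1χ]
    | succ i ih => rw [pow_succ, pow_succ, hmul, ih, hm0]
  set u : R := γ m0 y with hu
  have hlu : l * u = ζ - 1 := by rw [hu, hv, hm0]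
  by_cases hun : IsUnit u
  · -- étale case
    by_contra hlt
    push Not at hlt
    have hint : IsIntegral k ((1 : k) ⊗ₜ[R] y : k ⊗[R] C) := Algebra.IsIntegral.isIntegral _
    have hne := minpoly.ne_zero hint
    have hroot : ∀ i : ℕ, (minpoly k ((1 : k) ⊗ₜ[R] y : k ⊗[R] C)).eval (residue R (γ (m0 ^ i) y)) = 0 := by
      intro i
      have h1 := congr(gbar (γ (m0 ^ i)) $(minpoly.aeval k ((1 : k) ⊗ₜ[R] y : k ⊗[R] C)))
      rw [map_zero, ← Polynomial.aeval_algHom_apply, gbar_tmul] at h1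
      rwa [Polynomial.coe_aeval_eq_eval] at h1
    apply hne
    apply Polynomial.eq_zero_of_natDegree_lt_card_of_eval_eq_zero (minpoly k ((1 : k) ⊗ₜ[R] y : k ⊗[R] C))
      (f := fun i : Fin p => residue R (γ (m0 ^ (i : ℕ)) y))
    · intro i j hij
      by_contra hne'
      have hne'' : (i : ℕ) ≠ j := fun h => hne' (Fin.ext h)
      have h2 : ζ ^ (i : ℕ) ≠ ζ ^ (j : ℕ) := fun h => hne'' (hζ.pow_inj i.2 j.2 h)
      obtain ⟨v, hv'⟩ := hζ.nthRootsFinset_pairwise_associated_sub_one_sub_of_prime hpp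
        ((Polynomial.mem_nthRootsFinset hpp.pos 1).mpr (by rw [← pow_mul, mul_comm, pow_mul, hζ.pow_eq_one, one_pow] : (ζ ^ (i : ℕ)) ^ p = 1))
        ((Polynomial.mem_nthRootsFinset hpp.pos 1).mpr (by rw [← pow_mul, mul_comm, pow_mul, hζ.pow_eq_one, one_pow] : (ζ ^ (j : ℕ)) ^ p = 1)) h2
      have h3 : γ (m0 ^ (i : ℕ)) y - γ (m0 ^ (j : ℕ)) y = u * v := by
        apply mul_left_cancel₀ hl
        rw [mul_sub, hv, hv, hχpow, hχpow, ← mul_assoc, hlu, hv']
        ring
      have h4 : residue R (u * v) = 0 := by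
        rw [← h3, map_sub]
        exact sub_eq_zero.mpr hij
      rw [residue_eq_zero_iff] at h4
      exact (mem_maximalIdeal _).mp h4 (hun.mul v.isUnit)
    · intro i
      exact hroot i
    · rw [Fintype.card_fin]
      exact hlt
  · -- nilpotent case
    have hum : u ∈ maximalIdeal R := (mem_maximalIdeal _).mpr hun
    have hmem : ∀ i : ℕ, γ (m0 ^ i) y ∈ maximalIdeal R := by
      intro i
      obtain ⟨s, hs⟩ : ζ - 1 ∣ ζ ^ i - 1 := sub_one_dvd_pow_sub_one ζ i
      have h1 : γ (m0 ^ i) y = u * s := by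
        apply mul_left_cancel₀ hl
        rw [hv, hχpow, hs, ← hlu]
        ring
      rw [h1]
      exact Ideal.mul_mem_right _ _ hum
    have hprod : ∏ i ∈ Finset.range p, (y - algebraMap R C (γ (m0 ^ i) y)) = 0 := by
      apply F.inj
      intro m
      obtain ⟨i, hi, him⟩ := hζ.eq_pow_of_pow_eq_one (hχp m)
      rw [map_prod]
      refine Finset.prod_eq_zero (Finset.mem_range.mpr hi) ?_
      rw [map_sub, AlgHom.commutes]
      change γ m y - γ (m0 ^ i) y = 0
      apply mul_left_cancel₀ hl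
      rw [mul_zero, mul_sub, hv, hv, hχpow, him, sub_self]
    have hyp : ((1 : k) ⊗ₜ[R] y : k ⊗[R] C) ^ p = 0 := by
      have h1 := congr((Algebra.TensorProduct.includeRight : C →ₐ[R] k ⊗[R] C) $hprod)
      rw [map_zero, map_prod] at h1
      rw [← h1]
      have h2 : ∀ i ∈ Finset.range p, (Algebra.TensorProduct.includeRight : C →ₐ[R] k ⊗[R] C)
          (y - algebraMap R C (γ (m0 ^ i) y)) = (1 : k) ⊗ₜ[R] y := by
        intro i _
        have h3 : residue R (γ (m0 ^ i) y) = 0 := (residue_eq_zero_iff _).mpr (hmem i)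
        rw [map_sub, AlgHom.commutes, Algebra.TensorProduct.algebraMap_apply]
        have h4 : algebraMap R k (γ (m0 ^ i) y) = 0 := h3
        rw [h4, TensorProduct.zero_tmul, sub_zero, Algebra.TensorProduct.includeRight_apply]
      rw [Finset.prod_congr rfl h2, Finset.prod_const, Finset.card_range]
    have hy0 : ((1 : k) ⊗ₜ[R] y : k ⊗[R] C) ≠ 0 := by
      intro h
      have h1 := congr((TensorProduct.rid R k) (f.lTensor k $h))
      rw [LinearMap.lTensor_tmul, hf, TensorProduct.rid_tmul, one_smul, map_zero, map_zero] at h1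
      exact one_ne_zero h1
    have hxu : IsUnit ((1 : k) ⊗ₜ[R] x : k ⊗[R] C) := by
      have h1 : x ^ p = 1 := ext_point F fun m => by rw [map_pow, hx, hχp, map_one]
      apply IsUnit.of_pow_eq_one (n := p) _ hpp.ne_zero
      rw [Algebra.TensorProduct.tmul_pow, one_pow, h1]
      rfl
    exact le_natDegree_of_nilp hyp (pow_ne_zero_of k (p := p) (dl R Δ).toRingHom
      (dl_apply (comul_char F inferInstance hmul hl hx hxy)) hxu hyp hy0)

end Fib

end K831.SpecFib
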